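import Mathlib.CategoryTheory.Triangulated.Pretriangulated
import Mathlib.CategoryTheory.Triangulated.Orthogonal

/-!
Small lemmas on shifts and exactness in pretriangulated categories.
-/

namespace Groth.DerivedCoh

open CategoryTheory CategoryTheory.Limits CategoryTheory.Pretriangulated

variable {D : Type*} [Category* D] [HasShift D ℤ]

/-- transpose along the shift equivalence -/
noncomputable def shiftTranspose (n : ℤ) (X Y : D) :
    (X⟦n⟧ ⟶ Y) ≃ (X ⟶ Y⟦-n⟧) :=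
  (shiftEquiv D n).toAdjunction.homEquiv X Y

noncomputable def shiftTranspose' (n : ℤ) (X Y : D) :
    (X⟦-n⟧ ⟶ Y) ≃ (X ⟶ Y⟦n⟧) :=
  (shiftEquiv D n).symm.toAdjunction.homEquiv X Y

variable [Preadditive D] [∀ (n : ℤ), (shiftFunctor D n).Additive]

lemma shiftTranspose_symm_zero (n : ℤ) (X Y : D) : (shiftTranspose n X Y).symm 0 = 0 :=
  calc (shiftTranspose n X Y).symm 0
      = (shiftTranspose n X Y).symm ((0 : X ⟶ X) ≫ 0) := by rw [zero_comp]
    _ = (0 : X ⟶ X)⟦n⟧' ≫ (shiftTranspose n X Y).symm 0 :=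
      Adjunction.homEquiv_naturality_left_symm (shiftEquiv D n).toAdjunction _ _
    _ = 0 := by rw [Functor.map_zero, zero_comp]

lemma shiftTranspose'_zero (n : ℤ) (X Y : D) : shiftTranspose' n X Y 0 = 0 :=
  calc shiftTranspose' n X Y 0
      = shiftTranspose' n X Y (0 ≫ (0 : Y ⟶ Y)) := by rw [comp_zero]
    _ = shiftTranspose' n X Y 0 ≫ (0 : Y ⟶ Y)⟦n⟧' :=
      Adjunction.homEquiv_naturality_right (shiftEquiv D n).symm.toAdjunction _ _
    _ = 0 := by rw [Functor.map_zero, comp_zero]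

lemma shift_hom_eq_zero {n : ℤ} {X Y : D} (h : ∀ u : X ⟶ Y⟦-n⟧, u = 0) (v : X⟦n⟧ ⟶ Y) : v = 0 := by
  obtain ⟨u, rfl⟩ := (shiftTranspose n X Y).symm.surjective v
  rw [h u, shiftTranspose_symm_zero]

lemma shift_hom_eq_zero' {n : ℤ} {X Y : D} (h : ∀ u : X⟦-n⟧ ⟶ Y, u = 0) (v : X ⟶ Y⟦n⟧) : v = 0 := by
  obtain ⟨u, rfl⟩ := (shiftTranspose' n X Y).surjective v
  rw [h u, shiftTranspose'_zero]

omit [∀ (n : ℤ), (shiftFunctor D n).Additive] in
lemma shiftTranspose'_comp (n : ℤ) {X Y Y' : D} (u : X⟦-n⟧ ⟶ Y) (f : Y ⟶ Y') :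
    shiftTranspose' n X Y' (u ≫ f) = shiftTranspose' n X Y u ≫ f⟦n⟧' :=
  Adjunction.homEquiv_naturality_right _ _ _

variable [HasZeroObject D] [Pretriangulated D] (T : Triangle D) (hT : T ∈ distTriang D)

include hT

/-- maps into `T.obj₁` killed by `T.mor₁` factor through `T.obj₃⟦-1⟧` -/
lemma coyoneda_exact₁' {X : D} (f : X ⟶ T.obj₁) (hf : f ≫ T.mor₁ = 0) :
    ∃ g : X ⟶ T.obj₃⟦(-1 : ℤ)⟧, f = g ≫ T.invRotate.mor₁ :=
  Triangle.coyoneda_exact₂ T.invRotate (inv_rot_of_distTriang _ hT) f hf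

/-- maps out of `T.obj₁` extend along `T.mor₁` iff killed by `invRotate.mor₁` -/
lemma yoneda_exact₁' {X : D} (f : T.obj₁ ⟶ X) (hf : T.invRotate.mor₁ ≫ f = 0) :
    ∃ g : T.obj₂ ⟶ X, f = T.mor₁ ≫ g :=
  Triangle.yoneda_exact₂ T.invRotate (inv_rot_of_distTriang _ hT) f hf

lemma invRotate_comp_zero : T.invRotate.mor₁ ≫ T.mor₁ = 0 :=
  comp_distTriang_mor_zero₁₂ T.invRotate (inv_rot_of_distTriang _ hT)

end Groth.DerivedCoh
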