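import Groth.Agent.DerivedCoh.TriBasic
import Mathlib.CategoryTheory.Triangulated.Subcategory
import Mathlib.CategoryTheory.Triangulated.Orthogonal
import Mathlib.CategoryTheory.Adjunction.PartialAdjoint

/-!
Orthogonal decompositions with respect to a triangulated subcategory.
-/

namespace Groth.DerivedCoh.Decomp

open CategoryTheory CategoryTheory.Limits CategoryTheory.Pretriangulated

variable {D : Type*} [Category* D] [Preadditive D] [HasZeroObject D] [HasShift D ℤ]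
  [∀ n : ℤ, (shiftFunctor D n).Additive] [Pretriangulated D]
  (P : ObjectProperty D)

/-- `f` induces bijections on maps from objects of `P` -/
def Bij {A X : D} (f : A ⟶ X) : Prop :=
  ∀ K, P K → Function.Bijective fun u : K ⟶ A => u ≫ f

/-- `g` induces bijections on maps to objects of `P` -/
def Cobij {X Y : D} (g : X ⟶ Y) : Prop :=
  ∀ K, P K → Function.Bijective fun u : Y ⟶ K => g ≫ u

variable [P.IsTriangulated]

lemma Bij.shift {A X : D} {f : A ⟶ X} (h : Bij P f) (n : ℤ) : Bij P (f⟦n⟧') := by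
  intro K hK
  have e : (fun u : K ⟶ A⟦n⟧ => u ≫ f⟦n⟧') ∘ shiftTranspose' n K A =
      shiftTranspose' n K X ∘ fun u => u ≫ f :=
    funext fun u => (shiftTranspose'_comp n u f).symm
  refine (Function.Bijective.of_comp_iff _ (shiftTranspose' n K A).bijective).1 ?_
  rw [e]
  exact (shiftTranspose' n K X).bijective.comp (h _ (P.le_shift (-n) _ hK))

lemma Cobij.shift {X Y : D} {g : X ⟶ Y} (h : Cobij P g) (n : ℤ) : Cobij P (g⟦n⟧') := by
  intro K hK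
  have e : (fun u : Y⟦n⟧ ⟶ K => g⟦n⟧' ≫ u) ∘ (shiftTranspose n Y K).symm =
      (shiftTranspose n X K).symm ∘ fun u => g ≫ u :=
    funext fun u => ((shiftEquiv D n).toAdjunction.homEquiv_naturality_left_symm g u).symm
  refine (Function.Bijective.of_comp_iff _ (shiftTranspose n Y K).symm.bijective).1 ?_
  rw [e]
  exact (shiftTranspose n X K).symm.bijective.comp (h _ (P.le_shift (-n) _ hK))

lemma bij_iff_rightOrthogonal (T : Triangle D) (hT : T ∈ distTriang D) :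
    Bij P T.mor₁ ↔ P.rightOrthogonal T.obj₃ := by
  constructor
  · intro h K u hK
    have h0 : u ≫ T.mor₃ = 0 := (h.shift P 1 K hK).1 (by
      simp [comp_distTriang_mor_zero₃₁ _ hT])
    obtain ⟨v, rfl⟩ := Triangle.coyoneda_exact₃ _ hT u h0
    obtain ⟨w, rfl⟩ := (h K hK).2 v
    simp [comp_distTriang_mor_zero₁₂ _ hT]
  · intro h K hK
    refine ⟨fun a b hab => ?_, fun u => ?_⟩
    · rw [← sub_eq_zero]
      obtain ⟨y, hy⟩ := coyoneda_exact₁' T hT (a - b)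
        (by rw [Preadditive.sub_comp]; exact sub_eq_zero.2 hab)
      rw [hy, shift_hom_eq_zero' (fun v => h v (P.le_shift _ _ hK)) y]
      exact zero_comp
    · obtain ⟨v, hv⟩ := Triangle.coyoneda_exact₂ T hT u (h (u ≫ T.mor₂) hK)
      exact ⟨v, hv.symm⟩

lemma cobij_iff_leftOrthogonal (T : Triangle D) (hT : T ∈ distTriang D) :
    Cobij P T.mor₂ ↔ P.leftOrthogonal T.obj₁ := by
  constructor
  · intro h K u hK
    have h0 : T.invRotate.mor₁ ≫ u = 0 := (h.shift P (-1) K hK).1 (by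
      have h1 : T.mor₂⟦(-1 : ℤ)⟧' ≫ T.invRotate.mor₁ = 0 := by
        have := congrArg (fun φ => φ⟦(-1 : ℤ)⟧') (comp_distTriang_mor_zero₂₃ _ hT)
        simp only [Functor.map_comp, Functor.map_zero] at this
        change T.mor₂⟦(-1 : ℤ)⟧' ≫ (-(T.mor₃⟦(-1 : ℤ)⟧' ≫
          (shiftFunctorCompIsoId D 1 (-1) (by lia)).hom.app T.obj₁)) = 0
        rw [Preadditive.comp_neg, ← Category.assoc, this, zero_comp, neg_zero]
      exact (Category.assoc _ _ _).symm.trans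
        ((congrArg (· ≫ u) h1).trans (zero_comp.trans comp_zero.symm)))
    obtain ⟨v, rfl⟩ := yoneda_exact₁' _ hT u h0
    obtain ⟨w, rfl⟩ := (h K hK).2 v
    simp [comp_distTriang_mor_zero₁₂_assoc _ hT]
  · intro h K hK
    refine ⟨fun a b hab => ?_, fun u => ?_⟩
    · rw [← sub_eq_zero]
      obtain ⟨y, hy⟩ := Triangle.yoneda_exact₃ T hT (a - b)
        (by rw [Preadditive.comp_sub]; exact sub_eq_zero.2 hab)
      rw [hy, shift_hom_eq_zero (fun v => h v (P.le_shift _ _ hK)) y]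
      exact comp_zero
    · obtain ⟨v, hv⟩ := Triangle.yoneda_exact₂ T hT u (h (T.mor₁ ≫ u) hK)
      exact ⟨v, hv.symm⟩

lemma bij_five {TA TX : Triangle D} (hA : TA ∈ distTriang D) (hX : TX ∈ distTriang D)
    (φ : TA ⟶ TX) (h₁ : Bij P φ.hom₁) (h₃ : Bij P φ.hom₃) : Bij P φ.hom₂ := by
  intro K hK
  refine ⟨fun a b hab => ?_, fun u => ?_⟩
  · rw [← sub_eq_zero]
    have hw : (a - b) ≫ φ.hom₂ = 0 := by rw [Preadditive.sub_comp]; exact sub_eq_zero.2 hab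
    generalize a - b = w at hw ⊢
    have h0 : w ≫ TA.mor₂ = 0 := (h₃ K hK).1 (by simp [φ.comm₂, reassoc_of% hw])
    obtain ⟨z, rfl⟩ := Triangle.coyoneda_exact₂ TA hA w h0
    rw [Category.assoc, φ.comm₁, ← Category.assoc] at hw
    obtain ⟨y, hy⟩ := coyoneda_exact₁' TX hX _ hw
    obtain ⟨y', rfl⟩ := (h₃.shift P (-1) K hK).2 y
    have hc : TA.invRotate.mor₁ ≫ φ.hom₁ = φ.hom₃⟦(-1 : ℤ)⟧' ≫ TX.invRotate.mor₁ :=
      ((invRotate D).map φ).comm₁
    have hz : z = y' ≫ TA.invRotate.mor₁ := (h₁ K hK).1 (by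
      refine hy.trans ?_
      exact (Category.assoc _ _ _).trans
        ((congrArg (y' ≫ ·) hc.symm).trans (Category.assoc _ _ _).symm))
    rw [hz]
    erw [Category.assoc, invRotate_comp_zero TA hA]
    exact comp_zero
  · obtain ⟨v, hv : v ≫ φ.hom₃ = u ≫ TX.mor₂⟩ := (h₃ K hK).2 (u ≫ TX.mor₂)
    have h0 : v ≫ TA.mor₃ = 0 := (h₁.shift P 1 K hK).1 (by
      simp [φ.comm₃, reassoc_of% hv, comp_distTriang_mor_zero₂₃ _ hX])
    obtain ⟨w, rfl⟩ := Triangle.coyoneda_exact₃ TA hA v h0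
    obtain ⟨z, hz⟩ := Triangle.coyoneda_exact₂ TX hX (u - w ≫ φ.hom₂) (by
      rw [Preadditive.sub_comp, Category.assoc, ← φ.comm₂, ← Category.assoc, hv, sub_self])
    obtain ⟨z', rfl⟩ := (h₁ K hK).2 z
    refine ⟨w + z' ≫ TA.mor₁, ?_⟩
    simp only [Preadditive.add_comp, Category.assoc, φ.comm₁]
    simp only [Category.assoc] at hz
    rw [← hz, add_sub_cancel]

lemma cobij_five {TX TY : Triangle D} (hX : TX ∈ distTriang D) (hY : TY ∈ distTriang D)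
    (φ : TX ⟶ TY) (h₁ : Cobij P φ.hom₁) (h₃ : Cobij P φ.hom₃) : Cobij P φ.hom₂ := by
  intro K hK
  refine ⟨fun a b hab => ?_, fun u => ?_⟩
  · rw [← sub_eq_zero]
    have hw : φ.hom₂ ≫ (a - b) = 0 := by rw [Preadditive.comp_sub]; exact sub_eq_zero.2 hab
    generalize a - b = w at hw ⊢
    have h0 : TY.mor₁ ≫ w = 0 := (h₁ K hK).1 (by simp [← φ.comm₁_assoc, hw])
    obtain ⟨z, rfl⟩ := Triangle.yoneda_exact₂ TY hY w h0
    rw [← φ.comm₂_assoc] at hw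
    obtain ⟨y, hy⟩ := Triangle.yoneda_exact₃ TX hX _ hw
    obtain ⟨y', rfl⟩ := (h₁.shift P 1 K hK).2 y
    have hz : z = TY.mor₃ ≫ y' := (h₃ K hK).1 (by
      simpa [φ.comm₃_assoc] using hy)
    rw [hz, comp_distTriang_mor_zero₂₃_assoc _ hY, zero_comp]
  · obtain ⟨v, hv : φ.hom₁ ≫ v = TX.mor₁ ≫ u⟩ := (h₁ K hK).2 (TX.mor₁ ≫ u)
    have hc : TX.invRotate.mor₁ ≫ φ.hom₁ = φ.hom₃⟦(-1 : ℤ)⟧' ≫ TY.invRotate.mor₁ :=
      ((invRotate D).map φ).comm₁
    have h0 : TY.invRotate.mor₁ ≫ v = 0 := (h₃.shift P (-1) K hK).1 (by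
      refine Eq.trans ?_ comp_zero.symm
      refine (Category.assoc _ _ _).symm.trans ((congrArg (· ≫ v) hc.symm).trans ?_)
      refine (Category.assoc _ _ _).trans ((congrArg (TX.invRotate.mor₁ ≫ ·) hv).trans ?_)
      exact (Category.assoc _ _ _).symm.trans
        ((congrArg (· ≫ u) (invRotate_comp_zero TX hX)).trans zero_comp))
    obtain ⟨w, rfl⟩ := yoneda_exact₁' TY hY v h0
    obtain ⟨z, hz⟩ := Triangle.yoneda_exact₂ TX hX (u - φ.hom₂ ≫ w) (by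
      rw [Preadditive.comp_sub, φ.comm₁_assoc, hv, sub_self])
    obtain ⟨z', rfl⟩ := (h₃ K hK).2 z
    refine ⟨w + TY.mor₂ ≫ z', ?_⟩
    simp only [Preadditive.comp_add, ← φ.comm₂_assoc]
    rw [← hz, add_sub_cancel]

omit [HasZeroObject D] [HasShift D ℤ] [∀ n : ℤ, (shiftFunctor D n).Additive] [Pretriangulated D]
  [P.IsTriangulated] in
lemma Bij.comp_iso {A A' X : D} {f : A ⟶ X} (h : Bij P f) (e : A' ≅ A) : Bij P (e.hom ≫ f) :=
  fun K hK => by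
    have : (fun u : K ⟶ A' => u ≫ e.hom ≫ f) = (fun u => u ≫ f) ∘ (fun u => u ≫ e.hom) :=
      funext fun u => (Category.assoc _ _ _).symm
    rw [this]
    exact (h K hK).comp ⟨fun a b hab => (cancel_mono e.hom).1 hab, fun b => ⟨b ≫ e.inv, by simp⟩⟩

omit [HasZeroObject D] [HasShift D ℤ] [∀ n : ℤ, (shiftFunctor D n).Additive] [Pretriangulated D]
  [P.IsTriangulated] in
lemma Cobij.comp_iso {X Y Y' : D} {g : X ⟶ Y} (h : Cobij P g) (e : Y ≅ Y') :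
    Cobij P (g ≫ e.hom) :=
  fun K hK => by
    have : (fun u : Y' ⟶ K => (g ≫ e.hom) ≫ u) = (fun u => g ≫ u) ∘ (fun u => e.hom ≫ u) :=
      funext fun u => Category.assoc _ _ _
    rw [this]
    exact (h K hK).comp ⟨fun a b hab => (cancel_epi e.hom).1 hab, fun b => ⟨e.inv ≫ b, by simp⟩⟩

/-- objects with a coreflection into `P` -/
def HasCorefl : ObjectProperty D := fun X => ∃ (A : D) (f : A ⟶ X), P A ∧ Bij P f

/-- objects with a reflection into `P` -/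
def HasRefl : ObjectProperty D := fun X => ∃ (Y : D) (g : X ⟶ Y), P Y ∧ Cobij P g

lemma hasCorefl_iff (X : D) : HasCorefl P X ↔
    ∃ (A B : D) (f : A ⟶ X) (g : X ⟶ B) (h : B ⟶ A⟦(1 : ℤ)⟧),
      Triangle.mk f g h ∈ distTriang D ∧ P A ∧ P.rightOrthogonal B := by
  constructor
  · rintro ⟨A, f, hA, hf⟩
    obtain ⟨B, g, h, hT⟩ := distinguished_cocone_triangle f
    exact ⟨A, B, f, g, h, hT, hA, (bij_iff_rightOrthogonal P _ hT).1 hf⟩
  · rintro ⟨A, B, f, g, h, hT, hA, hB⟩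
    exact ⟨A, f, hA, (bij_iff_rightOrthogonal P _ hT).2 hB⟩

lemma hasRefl_iff (X : D) : HasRefl P X ↔
    ∃ (A Y : D) (f : A ⟶ X) (g : X ⟶ Y) (h : Y ⟶ A⟦(1 : ℤ)⟧),
      Triangle.mk f g h ∈ distTriang D ∧ P Y ∧ P.leftOrthogonal A := by
  constructor
  · rintro ⟨Y, g, hY, hg⟩
    obtain ⟨A, f, h, hT⟩ := distinguished_cocone_triangle₁ g
    exact ⟨A, Y, f, g, h, hT, hY, (cobij_iff_leftOrthogonal P _ hT).1 hg⟩
  · rintro ⟨A, Y, f, g, h, hT, hY, hA⟩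
    exact ⟨Y, g, hY, (cobij_iff_leftOrthogonal P _ hT).2 hA⟩

instance hasCorefl_isTriangulated : (HasCorefl P).IsTriangulated where
  exists_zero := by
    obtain ⟨Z, hZ, hP⟩ := P.exists_prop_of_containsZero
    exact ⟨Z, hZ, Z, 𝟙 Z, hP, fun K _ =>
      ⟨fun a b _ => hZ.eq_of_tgt _ _, fun u => ⟨u, Category.comp_id u⟩⟩⟩
  isStableUnderShiftBy n := ⟨fun X ⟨A, f, hA, hf⟩ =>
    ⟨A⟦n⟧, f⟦n⟧', P.le_shift n _ hA, hf.shift P n⟩⟩
  ext₂' T hT h₁ h₃ := by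
    obtain ⟨A₁, f₁, hA₁, hf₁⟩ := h₁
    obtain ⟨A₃, f₃, hA₃, hf₃⟩ := h₃
    obtain ⟨a, ha : a ≫ f₁⟦(1 : ℤ)⟧' = f₃ ≫ T.mor₃⟩ := (hf₁.shift P 1 A₃ hA₃).2 (f₃ ≫ T.mor₃)
    obtain ⟨A₂, p₁, p₂, hA⟩ := distinguished_cocone_triangle₂ a
    obtain ⟨f₂, h₂₁, h₂₂⟩ := complete_distinguished_triangle_morphism₂ (Triangle.mk p₁ p₂ a) T
      hA hT f₁ f₃ ha
    let φ : Triangle.mk p₁ p₂ a ⟶ T :=
      { hom₁ := f₁, hom₂ := f₂, hom₃ := f₃, comm₁ := h₂₁, comm₂ := h₂₂, comm₃ := ha }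
    obtain ⟨A', hA', ⟨e⟩⟩ := P.ext_of_isTriangulatedClosed₂' _ hA hA₁ hA₃
    exact ObjectProperty.le_isoClosure _ _
      ⟨A', e.inv ≫ f₂, hA', (bij_five P hA hT φ hf₁ hf₃).comp_iso P e.symm⟩

instance hasRefl_isTriangulated : (HasRefl P).IsTriangulated where
  exists_zero := by
    obtain ⟨Z, hZ, hP⟩ := P.exists_prop_of_containsZero
    exact ⟨Z, hZ, Z, 𝟙 Z, hP, fun K _ =>
      ⟨fun a b _ => hZ.eq_of_src _ _, fun u => ⟨u, Category.id_comp u⟩⟩⟩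
  isStableUnderShiftBy n := ⟨fun X ⟨Y, g, hY, hg⟩ =>
    ⟨Y⟦n⟧, g⟦n⟧', P.le_shift n _ hY, hg.shift P n⟩⟩
  ext₂' T hT h₁ h₃ := by
    obtain ⟨Y₁, g₁, hY₁, hg₁⟩ := h₁
    obtain ⟨Y₃, g₃, hY₃, hg₃⟩ := h₃
    obtain ⟨b, hb : g₃ ≫ b = T.mor₃ ≫ g₁⟦(1 : ℤ)⟧'⟩ :=
      (hg₃ _ (P.le_shift 1 _ hY₁)).2 (T.mor₃ ≫ g₁⟦(1 : ℤ)⟧')
    obtain ⟨Y₂, p₁, p₂, hY⟩ := distinguished_cocone_triangle₂ b
    obtain ⟨g₂, h₂₁, h₂₂⟩ := complete_distinguished_triangle_morphism₂ T (Triangle.mk p₁ p₂ b)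
      hT hY g₁ g₃ hb.symm
    let φ : T ⟶ Triangle.mk p₁ p₂ b :=
      { hom₁ := g₁, hom₂ := g₂, hom₃ := g₃, comm₁ := h₂₁, comm₂ := h₂₂, comm₃ := hb.symm }
    obtain ⟨Y', hY', ⟨e⟩⟩ := P.ext_of_isTriangulatedClosed₂' _ hY hY₁ hY₃
    exact ObjectProperty.le_isoClosure _ _
      ⟨Y', g₂ ≫ e.hom, hY', (cobij_five P hT hY φ hg₁ hg₃).comp_iso P e⟩

omit [HasZeroObject D] [HasShift D ℤ] [∀ n : ℤ, (shiftFunctor D n).Additive] [Pretriangulated D]
  [P.IsTriangulated] in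
lemma ι_isRightAdjoint_iff : P.ι.IsRightAdjoint ↔ ∀ X, HasRefl P X := by
  constructor
  · intro h X
    let adj := Adjunction.ofIsRightAdjoint P.ι
    refine ⟨(P.ι.leftAdjoint.obj X).obj, adj.unit.app X, (P.ι.leftAdjoint.obj X).property, fun K hK => ?_⟩
    have e : (fun u => adj.unit.app X ≫ u) =
        (adj.homEquiv X ⟨K, hK⟩) ∘ fun u => ObjectProperty.homMk u :=
      funext fun u => (adj.homEquiv_unit X ⟨K, hK⟩ (ObjectProperty.homMk u)).symm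
    refine e ▸ (adj.homEquiv X ⟨K, hK⟩).bijective.comp ?_
    exact ⟨fun a b hab => congrArg InducedCategory.Hom.hom hab,
      fun u => ⟨u.hom, rfl⟩⟩
  · intro h
    choose Y g hY hg using h
    refine (Adjunction.adjunctionOfEquivLeft
      (F_obj := fun X => (⟨Y X, hY X⟩ : P.FullSubcategory)) (fun X K =>
      { toFun := fun (u : (⟨Y X, hY X⟩ : P.FullSubcategory) ⟶ K) => g X ≫ u.hom
        invFun := fun v => ObjectProperty.homMk ((hg X K.obj K.property).2 v).choose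
        left_inv := fun (u : (⟨Y X, hY X⟩ : P.FullSubcategory) ⟶ K) => by
          apply ObjectProperty.hom_ext
          exact (hg X K.obj K.property).1 ((hg X K.obj K.property).2 (g X ≫ u.hom)).choose_spec
        right_inv := fun v => ((hg X K.obj K.property).2 v).choose_spec })
      (fun X K K' u v => by simp)).isRightAdjoint

end Groth.DerivedCoh.Decomp
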