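import Groth.Agent.DerivedCoh.TriBasic

/-!
Maps killed by a coproduct of morphisms factor through the coproduct of the fibres.
-/

namespace Groth.DerivedCoh

open CategoryTheory CategoryTheory.Limits CategoryTheory.Pretriangulated

variable {D : Type*} [Category* D] [Preadditive D] [HasZeroObject D] [HasShift D ℤ]
  [∀ n : ℤ, (shiftFunctor D n).Additive] [Pretriangulated D]

lemma exists_of_mor₃_comp_shift (T : Triangle D) (hT : T ∈ distTriang D) {Z : D} (f : T.obj₁ ⟶ Z)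
    (hf : T.mor₃ ≫ f⟦(1 : ℤ)⟧' = 0) : ∃ g, f = T.mor₁ ≫ g := by
  obtain ⟨g, hg⟩ : ∃ g, f⟦(1 : ℤ)⟧' = (-(T.mor₁⟦(1 : ℤ)⟧')) ≫ g :=
    Triangle.yoneda_exact₂ T.rotate.rotate
      (rot_of_distTriang _ (rot_of_distTriang _ hT)) (f⟦(1 : ℤ)⟧') hf
  refine ⟨(shiftFunctor D (1 : ℤ)).preimage (-g), (shiftFunctor D (1 : ℤ)).map_injective ?_⟩
  rw [Functor.map_comp, Functor.map_preimage, hg]
  simp

lemma exists_factor_sigma {J : Type*} [HasColimitsOfShape (Discrete J) D] (T : J → Triangle D)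
    (hT : ∀ j, T j ∈ distTriang D) {X : D} (γ : X ⟶ ∐ fun j => (T j).obj₂)
    (hγ : γ ≫ Limits.Sigma.map (fun j => (T j).mor₂) = 0) :
    ∃ γ' : X ⟶ ∐ fun j => (T j).obj₁, γ = γ' ≫ Limits.Sigma.map (fun j => (T j).mor₁) := by
  obtain ⟨F, a, δ, hF⟩ := distinguished_cocone_triangle₁ (Limits.Sigma.map fun j => (T j).mor₂)
  let T' := Triangle.mk a (Limits.Sigma.map fun j => (T j).mor₂) δ
  change T' ∈ distTriang D at hF
  have hex : ∀ j, ∃ φ : (T j).obj₁ ⟶ F,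
      (T j).mor₁ ≫ Limits.Sigma.ι (fun j => (T j).obj₂) j = φ ≫ a ∧
      (T j).mor₃ ≫ φ⟦(1 : ℤ)⟧' = Limits.Sigma.ι (fun j => (T j).obj₃) j ≫ δ := fun j =>
    complete_distinguished_triangle_morphism₁ (T j) T' (hT j) hF
      (Limits.Sigma.ι (fun j => (T j).obj₂) j) (Limits.Sigma.ι (fun j => (T j).obj₃) j)
      (Limits.Sigma.ι_map (fun j => (T j).mor₂) j).symm
  choose φ hφ₁ hφ₃ using hex
  let s : (∐ fun j => (T j).obj₁) ⟶ F := Limits.Sigma.desc φ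
  have hs : s ≫ a = Limits.Sigma.map (fun j => (T j).mor₁) := Limits.Sigma.hom_ext _ _ fun j => by
    rw [Limits.Sigma.ι_desc_assoc, Limits.Sigma.ι_map]; exact (hφ₁ j).symm
  have hδ : ∀ j, Limits.Sigma.ι (fun j => (T j).obj₃) j ≫ δ = (T j).mor₃ ≫ (φ j)⟦(1 : ℤ)⟧' := fun j =>
    (hφ₃ j).symm
  suffices IsIso s by
    obtain ⟨g, hg⟩ : ∃ g : X ⟶ F, γ = g ≫ a := Triangle.coyoneda_exact₂ T' hF γ hγ
    exact ⟨g ≫ inv s, by rw [Category.assoc, ← hs, IsIso.inv_hom_id_assoc]; exact hg⟩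
  have hδ' : ∀ {Z : D} (f : F ⟶ Z), δ ≫ f⟦(1 : ℤ)⟧' = 0 → ∃ g, f = a ≫ g := fun {Z} f hf =>
    exists_of_mor₃_comp_shift T' hF f hf
  refine isIso_of_coyoneda_map_bijective _ fun Z => ⟨fun f f' h => ?_, fun h => ?_⟩
  · obtain ⟨g, hg⟩ := hδ' (f - f') (by
      refine Limits.Sigma.hom_ext _ _ fun j => ?_
      rw [← Category.assoc, hδ j, Category.assoc, ← Functor.map_comp, comp_zero,
        show φ j ≫ (f - f') = Limits.Sigma.ι _ j ≫ s ≫ (f - f') by simp [s],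
        Preadditive.comp_sub s, show s ≫ f = s ≫ f' from h]
      simp)
    have hk : ∀ j, (T j).mor₁ ≫ Limits.Sigma.ι (fun j => (T j).obj₂) j ≫ g = 0 := fun j => by
      have h1 : Limits.Sigma.ι _ j ≫ s ≫ (f - f') = 0 := by
        rw [Preadditive.comp_sub s, show s ≫ f = s ≫ f' from h]; simp
      rw [hg, reassoc_of% hs] at h1
      simpa using h1
    choose k hk' using fun j => Triangle.yoneda_exact₂ (T j) (hT j) _ (hk j)
    have : g = Limits.Sigma.map (fun j => (T j).mor₂) ≫ Limits.Sigma.desc k := Limits.Sigma.hom_ext _ _ fun j => by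
      simpa using hk' j
    rw [← sub_eq_zero, hg, this, ← Category.assoc,
      show a ≫ Limits.Sigma.map (fun j => (T j).mor₂) = 0 from comp_distTriang_mor_zero₁₂ _ hF, zero_comp]
  · let c : (∐ fun j => (T j).obj₃) ⟶ Z⟦(1 : ℤ)⟧ :=
      Limits.Sigma.desc fun j => (T j).mor₃ ≫ (Limits.Sigma.ι (fun j => (T j).obj₁) j ≫ h)⟦(1 : ℤ)⟧'
    have hc : Limits.Sigma.map (fun j => (T j).mor₂) ≫ c = 0 := Limits.Sigma.hom_ext _ _ fun j => by
      rw [Limits.Sigma.ι_map_assoc, Limits.Sigma.ι_desc,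
        reassoc_of% comp_distTriang_mor_zero₂₃ _ (hT j)]
      simp
    obtain ⟨w, hw⟩ := Triangle.yoneda_exact₃ T' hF c hc
    obtain ⟨f', hf'⟩ : ∃ f' : F ⟶ Z, f'⟦(1 : ℤ)⟧' = w := (shiftFunctor D (1 : ℤ)).map_surjective w
    have h' : ∀ j, (T j).mor₃ ≫ (Limits.Sigma.ι (fun j => (T j).obj₁) j ≫ (h - s ≫ f'))⟦(1 : ℤ)⟧' = 0 := fun j => by
      have h1 : (T j).mor₃ ≫ (Limits.Sigma.ι (fun j => (T j).obj₁) j ≫ h)⟦(1 : ℤ)⟧' = (T j).mor₃ ≫ (φ j ≫ f')⟦(1 : ℤ)⟧' := by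
        have h2 : Limits.Sigma.ι (fun j => (T j).obj₃) j ≫ c =
            Limits.Sigma.ι (fun j => (T j).obj₃) j ≫ δ ≫ w :=
          congrArg (Limits.Sigma.ι (fun j => (T j).obj₃) j ≫ ·) hw
        rw [reassoc_of% (hδ j), Limits.Sigma.ι_desc] at h2
        simpa [hf'] using h2
      rw [Preadditive.comp_sub, show Limits.Sigma.ι (fun j => (T j).obj₁) j ≫ s ≫ f' = φ j ≫ f' by simp [s],
        Functor.map_sub, Preadditive.comp_sub, h1, sub_self]
    have hk : ∀ j, ∃ g, Limits.Sigma.ι (fun j => (T j).obj₁) j ≫ (h - s ≫ f') = (T j).mor₁ ≫ g :=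
      fun j => exists_of_mor₃_comp_shift (T j) (hT j) _ (h' j)
    choose g hg using hk
    refine ⟨f' + a ≫ Limits.Sigma.desc g, Limits.Sigma.hom_ext _ _ fun j => ?_⟩
    have := hg j
    rw [Preadditive.comp_sub, sub_eq_iff_eq_add] at this
    simp [reassoc_of% hs, this, s, add_comm]

end Groth.DerivedCoh
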