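import Groth.Prelude.Def_CohDer
import Groth.Agent.DerivedCoh.TriBasic
import Groth.Agent.DerivedCoh.CoprodTriangle
import Mathlib.CategoryTheory.Adjunction.Limits
import Mathlib.CategoryTheory.Preadditive.AdditiveFunctor
import Mathlib.CategoryTheory.Adjunction.Additive
import Mathlib.CategoryTheory.Limits.Preserves.Shapes.Products
import Mathlib.CategoryTheory.Triangulated.Functor
import Mathlib.CategoryTheory.Triangulated.Subcategory

/-!
Compact objects in categories with coproducts.
-/

universe v u u'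

namespace Groth.DerivedCoh.Compact

open CategoryTheory CategoryTheory.Limits CategoryTheory.Pretriangulated DirectSum
open CohDer (IsCompactObject homSumToHomCoprod)

variable {D : Type u} [Category.{v} D] [Preadditive D] [HasCoproducts.{v} D]

/-- precomposition on direct sums of hom groups -/
noncomputable def pre {J : Type v} (Y : J → D) {K K' : D} (φ : K' ⟶ K) :
    (⨁ j, (K ⟶ Y j)) →+ ⨁ j, (K' ⟶ Y j) :=
  DirectSum.map fun j => Preadditive.leftComp (Y j) φ

lemma homSum_of {J : Type v} [DecidableEq J] (Y : J → D) {K : D} (j : J)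
    (f : K ⟶ Y j) :
    homSumToHomCoprod K Y (DirectSum.of (fun j => K ⟶ Y j) j f) = f ≫ Limits.Sigma.ι Y j := by
  rw [homSumToHomCoprod]
  convert DirectSum.toAddMonoid_of (β := fun j => K ⟶ Y j) _ j f
  rfl

lemma homSum_pre {J : Type v} (Y : J → D) {K K' : D} (φ : K' ⟶ K) (x : ⨁ j, (K ⟶ Y j)) :
    homSumToHomCoprod K' Y (pre Y φ x) = φ ≫ homSumToHomCoprod K Y x := by
  classical
  induction x using DirectSum.induction_on with
  | zero => simp
  | of j f =>
    rw [pre, DirectSum.map_of, homSum_of, homSum_of]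
    exact Category.assoc _ _ _
  | add x y hx hy => simp [map_add, hx, hy, Preadditive.comp_add]

lemma pre_apply {J : Type v} (Y : J → D) {K K' : D} (φ : K' ⟶ K) (x : ⨁ j, (K ⟶ Y j)) (j : J) :
    pre Y φ x j = φ ≫ x j := rfl

lemma exists_pre_eq {J : Type v} (Y : J → D) {K K' : D} (φ : K' ⟶ K) (x : ⨁ j, (K' ⟶ Y j))
    (h : ∀ j, ∃ y, x j = φ ≫ y) : ∃ y, pre Y φ y = x := by
  classical
  choose y hy using h
  refine ⟨∑ j ∈ DFinsupp.support x, DirectSum.of (fun j => K ⟶ Y j) j (y j), ?_⟩
  rw [map_sum]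
  conv_rhs => rw [← DirectSum.sum_support_of x]
  refine Finset.sum_congr rfl fun j _ => ?_
  rw [pre, DirectSum.map_of, hy j]
  rfl

/-- transfer of the canonical map along compatible bijections -/
lemma square {E : Type u'} [Category.{v} E] [Preadditive E] [HasCoproducts.{v} E] {J : Type v}
    {X : J → D} {K : D} {Y : J → E} {K' : E} (e : ∀ j, (K' ⟶ Y j) ≃+ (K ⟶ X j)) {Z : D}
    (Φ : (K' ⟶ ∐ Y) →+ (K ⟶ Z)) (ψ : (∐ X) ⟶ Z)
    (comm : ∀ j f, Φ (f ≫ Limits.Sigma.ι Y j) = e j f ≫ Limits.Sigma.ι X j ≫ ψ) :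
    (fun α : K ⟶ ∐ X => α ≫ ψ) ∘ homSumToHomCoprod K X ∘ DFinsupp.mapRange.addEquiv e =
      Φ ∘ homSumToHomCoprod K' Y := by
  classical
  funext x
  simp only [Function.comp]
  induction x using DirectSum.induction_on with
  | zero => simp
  | of j f =>
    have : DFinsupp.mapRange.addEquiv e (DirectSum.of (fun j => K' ⟶ Y j) j f) =
        DirectSum.of (fun j => K ⟶ X j) j (e j f) := DFinsupp.mapRange_single (hf := fun i => map_zero (e i))
    rw [this, homSum_of, homSum_of, comm, Category.assoc]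
  | add x y hx hy => rw [map_add, map_add, map_add, map_add, Preadditive.add_comp, hx, hy]

lemma of_iso {K K' : D} (e : K ≅ K') (h : IsCompactObject K) : IsCompactObject K' := fun J X => by
  let a : ∀ Z : D, (K' ⟶ Z) ≃+ (K ⟶ Z) := fun Z =>
    { e.symm.homFromEquiv (X := K') with map_add' := fun f g => Preadditive.comp_add _ _ _ e.hom f g }
  have hsq := square (fun j => a (X j)) (a (∐ X)).toAddMonoidHom (𝟙 _) (fun j f => by simp [a])
  have hb : Function.Bijective ((a (∐ X)).toAddMonoidHom ∘ homSumToHomCoprod K' X) := by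
    rw [← hsq]
    refine Function.Bijective.comp ?_
      ((h J X).comp (DFinsupp.mapRange.addEquiv fun j => a (X j)).bijective)
    simp only [Category.comp_id]
    exact Function.bijective_id
  exact (Function.Bijective.of_comp_iff' (a (∐ X)).bijective _).1 hb

section adjunction

variable {E : Type u'} [Category.{v} E] [Preadditive E] [HasCoproducts.{v} E]
  {F : D ⥤ E} {G : E ⥤ D} (adj : F ⊣ G) [F.Additive]

include adj in
lemma square_adj {J : Type v} (Y : J → E) (K : D) :
    (fun α : K ⟶ ∐ fun j => G.obj (Y j) => α ≫ sigmaComparison G Y) ∘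
        homSumToHomCoprod K (fun j => G.obj (Y j)) ∘
        DFinsupp.mapRange.addEquiv (fun j => adj.homAddEquiv K (Y j)) =
      (adj.homAddEquiv K (∐ Y)).toAddMonoidHom ∘ homSumToHomCoprod (F.obj K) Y :=
  square _ _ _ fun j f => by
    simp [Adjunction.homEquiv_naturality_right]

include adj in
lemma map_compact [∀ J : Type v, PreservesColimitsOfShape (Discrete J) G] {K : D}
    (hK : IsCompactObject K) : IsCompactObject (F.obj K) := fun J Y => by
  have hb : Function.Bijective ((adj.homAddEquiv K (∐ Y)).toAddMonoidHom ∘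
      homSumToHomCoprod (F.obj K) Y) := by
    rw [← square_adj adj Y K]
    refine Function.Bijective.comp
      ⟨fun a b h => (cancel_mono (sigmaComparison G Y)).1 h,
        fun b => ⟨b ≫ inv (sigmaComparison G Y), by simp⟩⟩
      ((hK J _).comp (DFinsupp.mapRange.addEquiv _).bijective)
  exact (Function.Bijective.of_comp_iff' (adj.homAddEquiv K (∐ Y)).bijective _).1 hb

include adj in
lemma bijective_comparison {J : Type v} (Y : J → E) {K : D} (hK : IsCompactObject K)
    (hFK : IsCompactObject (F.obj K)) :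
    Function.Bijective fun α : K ⟶ ∐ fun j => G.obj (Y j) => α ≫ sigmaComparison G Y := by
  have hb : Function.Bijective ((adj.homAddEquiv K (∐ Y)).toAddMonoidHom ∘
      homSumToHomCoprod (F.obj K) Y) := (adj.homAddEquiv K (∐ Y)).bijective.comp (hFK J Y)
  rw [← square_adj adj Y K] at hb
  exact (Function.Bijective.of_comp_iff _
    ((hK J _).comp (DFinsupp.mapRange.addEquiv _).bijective)).1 hb

end adjunction

variable [HasShift D ℤ] [∀ n : ℤ, (shiftFunctor D n).Additive]

lemma shift {K : D} (hK : IsCompactObject K) (n : ℤ) : IsCompactObject (K⟦n⟧) :=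
  have : (shiftEquiv D n).functor.Additive := inferInstanceAs (shiftFunctor D n).Additive
  map_compact (shiftEquiv D n).toAdjunction hK

variable [HasZeroObject D] [Pretriangulated D]

lemma of_triangle₂ (T : Triangle D) (hT : T ∈ distTriang D) (h₁ : IsCompactObject T.obj₁)
    (h₃ : IsCompactObject T.obj₃) : IsCompactObject T.obj₂ := fun J Y => by
  have h₁' : IsCompactObject (T.obj₁⟦(1 : ℤ)⟧) := shift h₁ 1
  have h₃' : IsCompactObject (T.obj₃⟦(-1 : ℤ)⟧) := shift h₃ (-1)
  refine ⟨(injective_iff_map_eq_zero _).2 fun b hb => ?_, fun α => ?_⟩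
  · have h0 : pre Y T.mor₁ b = 0 := (h₁ J Y).1 (by rw [homSum_pre, hb, comp_zero, map_zero])
    obtain ⟨c, rfl⟩ := exists_pre_eq Y T.mor₂ b fun j =>
      Triangle.yoneda_exact₂ T hT (b j) (by rw [← pre_apply, h0]; rfl)
    rw [homSum_pre] at hb
    obtain ⟨γ, hγ⟩ := Triangle.yoneda_exact₃ T hT _ hb
    obtain ⟨d, rfl⟩ := (h₁' J Y).2 γ
    rw [← homSum_pre] at hγ
    rw [(h₃ J Y).1 hγ]
    refine DFinsupp.ext fun j => ?_
    change pre Y T.mor₂ (pre Y T.mor₃ d) j = 0
    rw [pre_apply, pre_apply, ← Category.assoc, comp_distTriang_mor_zero₂₃ _ hT, zero_comp]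
  · obtain ⟨a, ha⟩ := (h₁ J Y).2 (T.mor₁ ≫ α)
    have h0 : pre Y T.invRotate.mor₁ a = 0 := (h₃' J Y).1 (by
      erw [homSum_pre, map_zero, ha, ← Category.assoc, invRotate_comp_zero T hT, zero_comp])
    obtain ⟨b, rfl⟩ := exists_pre_eq Y T.mor₁ a fun j =>
      yoneda_exact₁' T hT (a j) (DFunLike.congr_fun h0 j)
    rw [homSum_pre] at ha
    obtain ⟨β, hβ⟩ := Triangle.yoneda_exact₂ T hT (α - homSumToHomCoprod _ Y b)
      (by rw [Preadditive.comp_sub, ha, sub_self])
    obtain ⟨c, rfl⟩ := (h₃ J Y).2 β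
    exact ⟨b + pre Y T.mor₂ c, by rw [map_add, homSum_pre, ← hβ, add_sub_cancel]⟩

omit [HasZeroObject D] [HasShift D ℤ] [∀ n : ℤ, (shiftFunctor D n).Additive] [Pretriangulated D] in
lemma of_isZero {K : D} (hK : IsZero K) : IsCompactObject K := fun J Y =>
  ⟨fun x y _ => DFinsupp.ext fun j => hK.eq_of_src _ _, fun α => ⟨0, hK.eq_of_src _ _⟩⟩

end Groth.DerivedCoh.Compact
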