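import Groth.Agent.DerivedCoh.Brown
import Groth.Prelude.Def_CohDer
import Mathlib.CategoryTheory.Adjunction.PartialAdjoint
import Mathlib.CategoryTheory.Preadditive.Yoneda.Limits
import Mathlib.CategoryTheory.Triangulated.Opposite.Functor
import Mathlib.CategoryTheory.Triangulated.Yoneda
import Mathlib.CategoryTheory.Limits.Preserves.Opposites

/-!
Brown representability for compactly generated triangulated categories, and adjoints.
-/

universe v u u'

namespace Groth.DerivedCoh.Brown

open CategoryTheory CategoryTheory.Limits CategoryTheory.Pretriangulated ZeroObject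
open CategoryTheory.Pretriangulated.Opposite

variable {D : Type u} [Category.{v} D] [Preadditive D] [HasZeroObject D] [HasShift D ℤ]
  [∀ n : ℤ, (shiftFunctor D n).Additive] [Pretriangulated D] [HasCoproducts.{v} D]

lemma hasColimitsOfShape_nat : HasColimitsOfShape (Discrete ℕ) D :=
  hasColimitsOfShape_of_equivalence (Discrete.equivalence (Equiv.ulift.{v, 0}))

omit [HasZeroObject D] [HasShift D ℤ] [Pretriangulated D] in
lemma exists_eq_sum {K : D} (hK : CohDer.IsCompactObject K) {J : Type v} (X : J → D)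
    (α : K ⟶ ∐ X) :
    ∃ (s : Finset J) (f : ∀ j, K ⟶ X j), α = ∑ j ∈ s, f j ≫ Limits.Sigma.ι X j := by
  classical
  obtain ⟨x, rfl⟩ := (hK J X).2 α
  refine ⟨DFinsupp.support x, fun j => x j, ?_⟩
  conv_lhs => rw [← DirectSum.sum_support_of x]
  rw [map_sum]
  refine Finset.sum_congr rfl fun j _ => ?_
  simp [CohDer.homSumToHomCoprod, DirectSum.toAddMonoid_of, Preadditive.rightComp]

omit [HasZeroObject D] [HasShift D ℤ] [Pretriangulated D] in
lemma perfect_of_compact [HasColimitsOfShape (Discrete ℕ) D] {ι : Type v} (E : ι → D)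
    (hE : ∀ i, CohDer.IsCompactObject (E i)) : Perfect E := by
  intro X i α
  let e : ULift.{v} ℕ ≃ ℕ := Equiv.ulift
  let c : (∐ fun n : ULift.{v} ℕ => X n.down) ≅ ∐ X := Limits.Sigma.reindex e X
  obtain ⟨s, f, hf⟩ := exists_eq_sum (hE i) _ (α ≫ c.inv)
  refine ⟨fun _ => i, fun n => f ⟨n⟩,
    ∑ n ∈ s, Limits.Sigma.ι (fun _ : ℕ => E i) n.down, ?_⟩
  rw [← cancel_mono c.inv, hf, Preadditive.sum_comp, Preadditive.sum_comp]
  refine Finset.sum_congr rfl fun n _ => ?_
  rw [Limits.Sigma.ι_map, Category.assoc]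
  congr 1
  rw [← cancel_mono c.hom, Category.assoc, Iso.inv_hom_id, Category.comp_id]
  exact Limits.Sigma.ι_reindex_hom e X n

lemma detects_of_generates {ι : Type v} (E : ι → D) (h : CohDer.Generates E) (X : D)
    (hX : ¬ IsZero X) : ∃ p, ∃ f : shiftClosure E p ⟶ X, f ≠ 0 := by
  by_contra hc
  push Not at hc
  refine hX (h X fun i n f => shift_hom_eq_zero' (fun u => hc (i, ⟨-n⟩) u) f)

variable [IsTriangulated D]

omit [IsTriangulated D] in
theorem isRepresentable_of_compactlyGenerated (hD : CohDer.IsCompactlyGenerated D)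
    (H : Dᵒᵖ ⥤ AddCommGrpCat.{v}) [H.IsHomological]
    [∀ (κ : Type v), PreservesLimitsOfShape (Discrete κ) H] :
    (H ⋙ forget AddCommGrpCat.{v}).IsRepresentable := by
  have := hasColimitsOfShape_nat (D := D)
  have := preservesLimitsOfShape_nat H
  obtain ⟨ι, E, hE, hg⟩ := hD
  exact isRepresentable H (shiftClosure E) (perfect_shiftClosure E (perfect_of_compact E hE))
    (shiftClosure_shift E) (detects_of_generates E hg)

section adjoint

variable {D' : Type u'} [Category.{v} D'] [Preadditive D'] [HasZeroObject D'] [HasShift D' ℤ]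
  [∀ n : ℤ, (shiftFunctor D' n).Additive] [Pretriangulated D']

omit [IsTriangulated D] in
theorem isLeftAdjoint_of_repr (F : D ⥤ D') [F.CommShift ℤ] [F.IsTriangulated]
    [∀ (κ : Type v), PreservesColimitsOfShape (Discrete κ) F]
    (h : ∀ (H : Dᵒᵖ ⥤ AddCommGrpCat.{v}) [H.IsHomological]
      [∀ (κ : Type v), PreservesLimitsOfShape (Discrete κ) H],
      (H ⋙ forget AddCommGrpCat.{v}).IsRepresentable) : F.IsLeftAdjoint := by
  refine Functor.isLeftAdjoint_of_rightAdjointObjIsDefined_eq_top (F := F) ?_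
  ext Y
  simp only [Functor.rightAdjointObjIsDefined_iff, Pi.top_apply, Prop.top_eq_true, iff_true]
  have : ∀ (κ : Type v), PreservesLimitsOfShape (Discrete κ) F.op := fun κ => by
    have : PreservesColimitsOfShape (Discrete κ)ᵒᵖ F :=
      preservesColimitsOfShape_of_equiv (Discrete.opposite κ).symm F
    exact preservesLimitsOfShape_op _ _
  exact h (F.op ⋙ preadditiveYoneda.obj Y)

end adjoint

end Groth.DerivedCoh.Brown
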