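import Mathlib.CategoryTheory.Functor.Derived.LeftDerived
import Mathlib.CategoryTheory.Localization.Predicate

/-!
Existence of left derived functors from functorial resolutions.
-/

namespace Groth.DerivedCoh

open CategoryTheory Category Functor Limits

variable {C D H : Type*} [Category* C] [Category* D] [Category* H]

/-- The left derived functor exists when there are functorial resolutions by objects on which the
functor inverts the weak equivalences. -/
theorem exists_isRightKanExtension_of_resolution (L : C ⥤ D) (W : MorphismProperty C)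
    [L.IsLocalization W] (F : C ⥤ H) (R : C ⥤ C) (π : R ⟶ 𝟭 C) (hπ : ∀ X, W (π.app X))
    (hR : W.IsInvertedBy (R ⋙ F)) (hπR : ∀ X, IsIso (F.map (π.app (R.obj X)))) :
    ∃ (LF : D ⥤ H) (α : L ⋙ LF ⟶ F), LF.IsRightKanExtension α ∧
      ∀ X, IsIso (F.map (π.app X)) → IsIso (α.app X) := by
  let LF := Localization.lift (R ⋙ F) hR L
  let e : L ⋙ LF ≅ R ⋙ F := Localization.fac _ hR L
  let α : L ⋙ LF ⟶ F :=
    { app := fun X => e.hom.app X ≫ F.map (π.app X)
      naturality := fun X Y f => by
        erw [e.hom.naturality_assoc]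
        change e.hom.app X ≫ F.map (R.map f) ≫ F.map (π.app Y) = _
        rw [← F.map_comp, π.naturality, F.map_comp, assoc]
        rfl }
  have hLπ : ∀ X, IsIso (L.map (π.app X)) := fun X => Localization.inverts L W _ (hπ X)
  have hex : ∀ (G : D ⥤ H) (β : L ⋙ G ⟶ F), ∃ γ : G ⟶ LF, whiskerLeft L γ ≫ α = β := by
    intro G β
    let τ : L ⋙ G ⟶ L ⋙ LF :=
      { app := fun X => inv (G.map (L.map (π.app X))) ≫ β.app (R.obj X) ≫ e.inv.app X
        naturality := fun X Y f => by
          change G.map (L.map f) ≫ _ = _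
          rw [← cancel_epi (G.map (L.map (π.app X))), ← G.map_comp_assoc, ← L.map_comp]
          erw [← π.naturality f]
          rw [L.map_comp, G.map_comp]
          simp only [assoc, IsIso.hom_inv_id_assoc]
          erw [β.naturality_assoc, ← e.inv.naturality]
          rfl }
    refine ⟨Localization.liftNatTrans L W (L ⋙ G) (L ⋙ LF) G LF τ, ?_⟩
    ext X
    change (Localization.liftNatTrans L W (L ⋙ G) (L ⋙ LF) G LF τ).app (L.obj X) ≫ α.app X = β.app X
    rw [Localization.liftNatTrans_app]
    simp only [α, τ, Localization.Lifting.iso, Iso.refl_hom, Iso.refl_inv, NatTrans.id_app,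
      id_comp, comp_id, assoc, comp_obj, Iso.inv_hom_id_app_assoc, IsIso.inv_comp_eq]
    exact (β.naturality (π.app X)).symm
  have huniq : ∀ (G : D ⥤ H) (γ γ' : G ⟶ LF), whiskerLeft L γ ≫ α = whiskerLeft L γ' ≫ α →
      γ = γ' := by
    intro G γ γ' hγ
    refine Localization.natTrans_ext L W fun X => ?_
    have hm : γ.app (L.obj (R.obj X)) ≫ α.app (R.obj X) =
        γ'.app (L.obj (R.obj X)) ≫ α.app (R.obj X) := NatTrans.congr_app hγ (R.obj X)
    have : IsIso (α.app (R.obj X)) := by
      have := hπR X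
      change IsIso (e.hom.app _ ≫ _)
      infer_instance
    rw [cancel_mono] at hm
    rw [← cancel_epi (G.map (L.map (π.app X)))]
    refine (γ.naturality (L.map (π.app X))).trans ?_
    refine Eq.trans ?_ (γ'.naturality (L.map (π.app X))).symm
    exact congrArg (· ≫ _) hm
  choose γ hγ using hex
  refine ⟨LF, α, ⟨⟨IsTerminal.ofUniqueHom
    (fun E => CostructuredArrow.homMk (γ E.left E.hom) (hγ E.left E.hom))
    (fun E m => CostructuredArrow.hom_ext _ _
      (huniq E.left _ _ ((CostructuredArrow.w m).trans (hγ E.left E.hom).symm)))⟩⟩, fun X hX => ?_⟩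
  change IsIso (e.hom.app X ≫ F.map (π.app X))
  infer_instance

/-- Right Kan extensions can be checked after a precomposition which is fully faithful on natural
transformations. -/
theorem exists_isRightKanExtension_of_precomp {C₀ : Type*} [Category* C₀] (q : C₀ ⥤ C)
    [((whiskeringLeft C₀ C H).obj q).Full] [((whiskeringLeft C₀ C H).obj q).Faithful]
    (L : C ⥤ D) (F : C ⥤ H) {LF : D ⥤ H} (α₀ : (q ⋙ L) ⋙ LF ⟶ q ⋙ F)
    (h : LF.IsRightKanExtension α₀) :
    ∃ α : L ⋙ LF ⟶ F, LF.IsRightKanExtension α ∧ ∀ X, α.app (q.obj X) = α₀.app X := by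
  let Φ := (whiskeringLeft C₀ C H).obj q
  let α : L ⋙ LF ⟶ F := Φ.preimage (X := L ⋙ LF) (Y := F) α₀
  have hα : whiskerLeft q α = α₀ := Φ.map_preimage (X := L ⋙ LF) (Y := F) α₀
  have : LF.IsRightKanExtension α := ⟨⟨IsTerminal.ofUniqueHom
    (fun E => CostructuredArrow.homMk (LF.liftOfIsRightKanExtension α₀ E.left (whiskerLeft q E.hom))
      (Φ.map_injective (by
        ext X
        refine Eq.trans ?_ (LF.liftOfIsRightKanExtension_fac_app α₀ E.left (whiskerLeft q E.hom) X)
        exact congrArg (_ ≫ ·) (NatTrans.congr_app hα X))))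
    fun E m => by
      ext1
      refine LF.hom_ext_of_isRightKanExtension α₀ _ _ ?_
      refine Eq.trans ?_ (LF.liftOfIsRightKanExtension_fac α₀ E.left (whiskerLeft q E.hom)).symm
      ext X
      refine Eq.trans ?_ (NatTrans.congr_app (CostructuredArrow.w m) (q.obj X))
      exact congrArg (_ ≫ ·) (NatTrans.congr_app hα X).symm⟩⟩
  exact ⟨α, this, fun X => NatTrans.congr_app hα X⟩

/-- Right Kan extensions can be checked after such a precomposition. -/
theorem hasRightKanExtension_of_precomp {C₀ : Type*} [Category* C₀] (q : C₀ ⥤ C)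
    [((whiskeringLeft C₀ C H).obj q).Full] [((whiskeringLeft C₀ C H).obj q).Faithful]
    (L : C ⥤ D) (F : C ⥤ H) {LF : D ⥤ H} (α₀ : (q ⋙ L) ⋙ LF ⟶ q ⋙ F)
    (h : LF.IsRightKanExtension α₀) : HasRightKanExtension L F :=
  let ⟨α, hα, _⟩ := exists_isRightKanExtension_of_precomp q L F α₀ h
  HasRightKanExtension.mk LF α

end Groth.DerivedCoh
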