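import Groth.Agent.DerivedCoh.BrownModules
import Groth.Agent.CohDescent.SmallDerived
import Groth.Agent.S12232
import Mathlib.CategoryTheory.Adjunction.Restrict
import Mathlib.Algebra.Category.Grp.Limits
import Mathlib.Algebra.Group.Shrink
import Mathlib.CategoryTheory.Triangulated.Yoneda

/-!
Triangulated functors out of the derived category of a Grothendieck abelian category which preserve
direct sums are left adjoints.
-/

set_option autoImplicit false

universe w w' v u u'

open CategoryTheory CategoryTheory.Limits Opposite CategoryTheory.Pretriangulated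

set_option maxHeartbeats 1000000
set_option backward.defeqAttrib.useBackward true
set_option backward.isDefEq.respectTransparency false

namespace Groth.DerivedCoh.BrownGrothendieck

section Repr

variable {D : Type u} [Category.{v} D] [Preadditive D] [HasZeroObject D] [HasShift D ℤ]
  [∀ n : ℤ, (shiftFunctor D n).Additive] [Pretriangulated D] [HasCoproducts.{v} D]
  {D' : Type u'} [Category.{w'} D'] [Preadditive D'] [HasZeroObject D'] [HasShift D' ℤ]
  [∀ n : ℤ, (shiftFunctor D' n).Additive] [Pretriangulated D'] [LocallySmall.{v} D']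
  (F : D ⥤ D') [F.Additive]

/-- The small version of `Hom (F -) Z`. -/
noncomputable def homTo (Z : D') : Dᵒᵖ ⥤ AddCommGrpCat.{v} where
  obj X := AddCommGrpCat.of (Shrink.{v} (F.obj X.unop ⟶ Z))
  map {X Y} g := AddCommGrpCat.ofHom (AddMonoidHom.mk'
    (fun x => equivShrink _ (F.map g.unop ≫ (equivShrink _).symm x))
    (fun x y => by simp [Preadditive.comp_add]))
  map_id X := by ext x; simp
  map_comp {X Y W} g h := by ext x; simp

lemma homTo_map_apply (Z : D') {X Y : Dᵒᵖ} (g : X ⟶ Y) (x : F.obj X.unop ⟶ Z) :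
    (homTo F Z).map g (equivShrink _ x) = equivShrink _ (F.map g.unop ≫ x) :=
  congrArg (fun y => equivShrink _ (F.map g.unop ≫ y)) (Equiv.symm_apply_apply _ _)

instance (Z : D') : (homTo F Z).Additive where
  map_add {X Y f g} := by
    ext x
    obtain ⟨x, rfl⟩ := (equivShrink _).surjective x
    show (homTo F Z).map (f + g) (equivShrink _ x) =
      (homTo F Z).map f (equivShrink _ x) + (homTo F Z).map g (equivShrink _ x)
    rw [homTo_map_apply, homTo_map_apply, homTo_map_apply, unop_add, F.map_add, Preadditive.add_comp]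
    exact equivShrink_add _ _

variable (htri : ∀ T ∈ distTriang D, ∃ c : F.obj T.obj₃ ⟶ (F.obj T.obj₁)⟦(1 : ℤ)⟧,
  Triangle.mk (F.map T.mor₁) (F.map T.mor₂) c ∈ distTriang D')

include htri in
open CategoryTheory.Pretriangulated.Opposite in
lemma isHomological_homTo (Z : D') : (homTo F Z).IsHomological where
  exact T hT := by
    rw [ShortComplex.ab_exact_iff]
    intro (x : Shrink.{v} (F.obj T.obj₂.unop ⟶ Z)) hx
    obtain ⟨x, rfl⟩ := (equivShrink _).surjective x
    have hx' : F.map T.mor₂.unop ≫ x = 0 := by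
      have h : (homTo F Z).map T.mor₂ (equivShrink _ x) = 0 := hx
      rw [homTo_map_apply] at h
      simpa using congrArg (equivShrink _).symm h
    rw [mem_distTriang_op_iff] at hT
    obtain ⟨c, hc⟩ := htri _ hT
    obtain ⟨y, hy⟩ := Triangle.yoneda_exact₂ _ hc x hx'
    refine ⟨equivShrink _ y, ?_⟩
    show (homTo F Z).map T.mor₁ (equivShrink _ y) = equivShrink _ x
    rw [homTo_map_apply]
    exact congrArg _ hy.symm

variable [∀ (κ : Type v), PreservesColimitsOfShape (Discrete κ) F]

instance preservesLimitsOfShape_homTo (Z : D') (κ : Type v) :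
    PreservesLimitsOfShape (Discrete κ) (homTo F Z) := by
  suffices ∀ X : κ → Dᵒᵖ, PreservesLimit (Discrete.functor X) (homTo F Z) from
    ⟨fun {K} => preservesLimit_of_iso_diagram _ (Discrete.natIsoFunctor (F := K)).symm⟩
  intro X
  let c : Cofan fun t => (X t).unop := Cofan.mk (∐ fun t => (X t).unop) (Sigma.ι _)
  have hc : IsColimit c := coproductIsCoproduct _
  have hF := isColimitMapCoconeCofanMkEquiv F _ _ (isColimitOfPreserves F hc)
  refine preservesLimit_of_preserves_limit_cone (Cofan.IsColimit.op hc) ?_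
  refine (isLimitMapConeFanMkEquiv _ _ _).symm ?_
  refine isLimitOfReflects (forget AddCommGrpCat.{v}) ?_
  refine (isLimitMapConeFanMkEquiv _ _ _).symm ?_
  refine Fan.IsLimit.mk _
    (fun s => ↾fun a => equivShrink _ (Cofan.IsColimit.desc hF fun t => (equivShrink _).symm (s.proj t a)))
    (fun s t => ?_) (fun s m hm => ?_)
  · ext a
    show (homTo F Z).map (Sigma.ι (fun t => (X t).unop) t).op (equivShrink _ _) = s.proj t a
    rw [homTo_map_apply]
    refine (congrArg _ (Cofan.IsColimit.fac hF _ t)).trans ?_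
    exact Equiv.apply_symm_apply _ _
  · ext a
    obtain ⟨y, hy⟩ := (equivShrink _).surjective (m a)
    show m a = equivShrink _ _
    rw [← hy]
    refine congrArg _ (Cofan.IsColimit.hom_ext hF _ _ fun t => ?_)
    rw [Cofan.IsColimit.fac hF, Equiv.eq_symm_apply, ← hm t]
    show equivShrink _ (F.map (Sigma.ι (fun t => (X t).unop) t) ≫ y) =
      (homTo F Z).map (Sigma.ι (fun t => (X t).unop) t).op (m a)
    rw [← hy]
    exact (homTo_map_apply F Z (Sigma.ι (fun t => (X t).unop) t).op y).symm

include htri in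
/-- Compactly generated sources: functors preserving direct sums are left adjoints. -/
theorem isLeftAdjoint_of_compactlyGenerated (hD : CohDer.IsCompactlyGenerated D) : F.IsLeftAdjoint := by
  have h : ∀ Z : D', ((homTo F Z) ⋙ forget AddCommGrpCat.{v}).IsRepresentable := fun Z =>
    haveI := isHomological_homTo F htri Z
    Groth.DerivedCoh.Brown.isRepresentable_of_compactlyGenerated hD _
  let T : D' → D := fun Z => (h Z).has_representation.choose
  let r : ∀ Z, ((homTo F Z) ⋙ forget AddCommGrpCat.{v}).RepresentableBy (T Z) := fun Z =>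
    (h Z).has_representation.choose_spec.some
  let e : ∀ X Z, (F.obj X ⟶ Z) ≃ (X ⟶ T Z) := fun X Z => (equivShrink _).trans (r Z).homEquiv.symm
  refine (Adjunction.adjunctionOfEquivRight (G_obj := T) e fun X' X Z f g => ?_).isLeftAdjoint
  apply (r Z).homEquiv.injective
  rw [(r Z).homEquiv_comp]
  refine (Equiv.apply_symm_apply _ _).trans ?_
  refine (homTo_map_apply F Z f.op g).symm.trans ?_
  exact congrArg _ (Equiv.apply_symm_apply _ _).symm

end Repr

/-- A functor out of a reflective localization is a left adjoint when its composite with the localization is. -/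
theorem isLeftAdjoint_of_reflective {A B C : Type*} [Category* A] [Category* B] [Category* C]
    {L : B ⥤ A} {R : A ⥤ B} (adj : L ⊣ R) [R.Full] [R.Faithful] (F : A ⥤ C)
    [(L ⋙ F).IsLeftAdjoint] : F.IsLeftAdjoint := by
  let T := (L ⋙ F).rightAdjoint
  let adjG : L ⋙ F ⊣ T := Adjunction.ofIsLeftAdjoint _
  have hbij : ∀ {X Y : B} (η : X ⟶ Y) [IsIso (L.map η)] (Z : C),
      Function.Bijective fun g : Y ⟶ T.obj Z => η ≫ g := by
    intro X Y η _ Z
    have : IsIso ((L ⋙ F).map η) := inferInstanceAs (IsIso (F.map (L.map η)))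
    have e : (fun g : Y ⟶ T.obj Z => η ≫ g) =
        (adjG.homEquiv X Z) ∘ (asIso ((L ⋙ F).map η)).symm.homFromEquiv ∘ (adjG.homEquiv Y Z).symm := by
      funext g
      show η ≫ g = (adjG.homEquiv X Z) ((L ⋙ F).map η ≫ (adjG.homEquiv Y Z).symm g)
      rw [Adjunction.homEquiv_naturality_left, Equiv.apply_symm_apply]
    rw [e]
    exact (adjG.homEquiv X Z).bijective.comp ((Equiv.bijective _).comp (Equiv.bijective _))
  have hL : ∀ X : B, IsIso (L.map (adj.unit.app X)) := fun X => by
    have h : L.map (adj.unit.app X) ≫ adj.counit.app (L.obj X) = 𝟙 _ := adj.left_triangle_components X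
    have : IsIso (L.map (adj.unit.app X) ≫ adj.counit.app (L.obj X)) := h ▸ inferInstance
    exact IsIso.of_isIso_comp_right _ (adj.counit.app (L.obj X))
  have hu : ∀ Z, IsIso (adj.unit.app (T.obj Z)) := fun Z => by
    haveI := hL (T.obj Z)
    obtain ⟨r, hr⟩ := (hbij (adj.unit.app (T.obj Z)) Z).2 (𝟙 _)
    refine ⟨r, hr, ?_⟩
    apply (adj.homEquiv _ _).symm.injective
    rw [← cancel_epi (L.map (adj.unit.app (T.obj Z)))]
    simp only [Adjunction.homEquiv_counit]
    rw [← L.map_comp_assoc, ← L.map_comp_assoc, reassoc_of% hr]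
    simp
  haveI : ∀ Z, IsIso ((T.whiskerLeft adj.unit).app Z) := hu
  haveI : IsIso (T.whiskerLeft adj.unit) := NatIso.isIso_of_isIso_app _
  let adjF : F ⊣ T ⋙ L := adjG.restrictFullyFaithful (iC := R) (iD := 𝟭 C) (Functor.FullyFaithful.ofFullyFaithful R)
    (Functor.FullyFaithful.id C)
    ((Functor.associator _ _ _).symm ≪≫ Functor.isoWhiskerRight (asIso adj.counit) F ≪≫ F.leftUnitor ≪≫
      F.rightUnitor.symm)
    (T.leftUnitor ≪≫ T.rightUnitor.symm ≪≫ asIso (T.whiskerLeft adj.unit) ≪≫ (Functor.associator _ _ _).symm)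
  exact adjF.isLeftAdjoint

section Groth

variable {A : Type u} [Category.{v} A] [Abelian A] [IsGrothendieckAbelian.{v} A] [HasDerivedCategory.{w} A]
  {D' : Type u'} [Category.{w'} D'] [Preadditive D'] [HasZeroObject D'] [HasShift D' ℤ]
  [∀ n : ℤ, (shiftFunctor D' n).Additive] [Pretriangulated D'] [LocallySmall.{v} D']
  (F : DerivedCategory A ⥤ D')
  (htri : ∀ T ∈ distTriang (DerivedCategory A), ∃ c : F.obj T.obj₃ ⟶ (F.obj T.obj₁)⟦(1 : ℤ)⟧,
    Triangle.mk (F.map T.mor₁) (F.map T.mor₂) c ∈ distTriang D')
  [∀ (κ : Type v), PreservesColimitsOfShape (Discrete κ) F]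

include htri in
/-- Exact functors preserving direct sums are left adjoints. -/
theorem isLeftAdjoint : F.IsLeftAdjoint := by
  haveI : F.Additive := by
    haveI : HasCoproducts.{v} (DerivedCategory A) := Groth.DerivedCoh.KInjRes.hasCoproducts
    haveI : PreservesColimitsOfShape (Discrete WalkingPair) F :=
      preservesColimitsOfShape_of_equiv (Discrete.equivalence (Equiv.ulift.{v} (α := WalkingPair))) F
    haveI : PreservesColimitsOfShape (Discrete PEmpty.{1}) F :=
      preservesColimitsOfShape_of_equiv (Discrete.equivalence (Equiv.equivPEmpty PEmpty.{v + 1})) F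
    haveI : F.PreservesZeroMorphisms := Functor.preservesZeroMorphisms_of_preserves_initial_object
    haveI : PreservesBinaryBiproducts F := preservesBinaryBiproducts_of_preservesBinaryCoproducts F
    exact Functor.additive_of_preservesBinaryBiproducts F
  let U := separator A
  have hU : IsSeparator U := isSeparator_separator A
  letI : HasDerivedCategory.{v} (ModuleCat.{v} (End U)ᵐᵒᵖ) := Groth.Agent.CohDescent.hasSmallDerivedCategory _
  let adj := IsGrothendieckAbelian.tensorObjPreadditiveCoyonedaObjAdjunction U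
  haveI : (IsGrothendieckAbelian.tensorObj U).Additive := adj.left_adjoint_additive
  haveI : PreservesFiniteLimits (IsGrothendieckAbelian.tensorObj U) :=
    IsGrothendieckAbelian.GabrielPopescu.preservesFiniteLimits U hU
  haveI : PreservesFiniteColimits (IsGrothendieckAbelian.tensorObj U) := inferInstance
  have hA : Groth.DerivedAdj.EnoughKInj A := fun K => by
    obtain ⟨I, i, -, h1, h2, -⟩ := Groth.DerivedCoh.KInjRes.exists_resolution K
    exact ⟨I, i, h2, h1⟩
  haveI : ((preadditiveCoyonedaObj U).mapHomotopyCategory (ComplexShape.up ℤ) ⋙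
      DerivedCategory.Qh).HasPointwiseRightDerivedFunctor (HomotopyCategory.quasiIso A (ComplexShape.up ℤ)) :=
    Groth.DerivedAdj.hasPointwiseRightDerivedFunctor_of_bijective _
    (Groth.DerivedAdj.exists_good hA)
  obtain ⟨⟨adjD⟩, hfull, hfaith, -⟩ := Groth.Agent.S12232.result U hU
  haveI : HasCoproducts.{v} (DerivedCategory (ModuleCat.{v} (End U)ᵐᵒᵖ)) := Groth.DerivedCoh.KInjRes.hasCoproducts
  let L := (IsGrothendieckAbelian.tensorObj U).mapDerivedCategory
  haveI : L.IsLeftAdjoint := adjD.isLeftAdjoint
  haveI : ∀ κ : Type v, PreservesColimitsOfShape (Discrete κ) L := fun κ => inferInstance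
  haveI : (L ⋙ F).IsLeftAdjoint := isLeftAdjoint_of_compactlyGenerated (L ⋙ F)
    (fun T hT => htri _ (L.map_distinguished _ hT))
    ⟨PUnit.{v + 1}, _, fun _ => Groth.DerivedCoh.BrownModules.isCompactObject _,
      Groth.DerivedCoh.BrownModules.generates _⟩
  exact isLeftAdjoint_of_reflective adjD F

end Groth

end Groth.DerivedCoh.BrownGrothendieck
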