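import Groth.Agent.DerivedCoh.BrownCompact
import Groth.Agent.SitesTopoi.ProjCompact
import Groth.Agent.SiteCohomology.CompactFree
import Mathlib.Algebra.Category.ModuleCat.AB
import Mathlib.Algebra.Category.ModuleCat.Projective
import Mathlib.Algebra.Category.ModuleCat.Colimits

/-!
The derived category of modules over a ring is compactly generated by the ring.
-/

set_option autoImplicit false

universe v

open CategoryTheory CategoryTheory.Limits HomologicalComplex

set_option maxHeartbeats 1000000
set_option backward.defeqAttrib.useBackward true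
set_option backward.isDefEq.respectTransparency false

namespace Groth.DerivedCoh.BrownModules

variable (R : Type v) [Ring R]

local notation "up" => ComplexShape.up ℤ

/-- maps from the ring into direct sums are finite sums -/
lemma exists_finset_sum (T : Type v) (X : T → ModuleCat.{v} R) (z : ModuleCat.of R R ⟶ ∐ X) :
    ∃ (S : Finset T) (t : ∀ i, ModuleCat.of R R ⟶ X i), z = ∑ i ∈ S, t i ≫ Limits.Sigma.ι X i := by
  classical
  let F := forget₂ (ModuleCat.{v} R) AddCommGrpCat.{v}
  obtain ⟨S, t, ht⟩ := Groth.SiteCohomology.CompactFree.exists_finset_sum_of_isColimit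
    (isColimitMapCoconeCofanMkEquiv F _ _ (isColimitOfPreserves F (coproductIsCoproduct X))) (z.hom (1 : R))
  refine ⟨S, fun i => ModuleCat.ofHom (LinearMap.toSpanSingleton R (X i) (t i)), ModuleCat.hom_ext ?_⟩
  refine LinearMap.ext_ring (ht.trans ?_)
  simp [F, ModuleCat.hom_sum]

variable [HasDerivedCategory.{v} (ModuleCat.{v} R)]

theorem isCompactObject [HasCoproducts.{v} (DerivedCategory (ModuleCat.{v} R))] :
    CohDer.IsCompactObject ((DerivedCategory.singleFunctor (ModuleCat.{v} R) 0).obj (ModuleCat.of R R)) :=
  haveI : Projective (ModuleCat.of R R) := ModuleCat.projective_of_free (Module.Basis.singleton PUnit.{v + 1} R)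
  Groth.SitesTopoi.ProjCompact.isCompactObject_single _ (exists_finset_sum R)

theorem generates :
    CohDer.Generates fun _ : PUnit.{v + 1} =>
      (DerivedCategory.singleFunctor (ModuleCat.{v} R) 0).obj (ModuleCat.of R R) := by
  haveI : Projective (ModuleCat.of R R) := ModuleCat.projective_of_free (Module.Basis.singleton PUnit.{v + 1} R)
  haveI := Groth.SitesTopoi.ProjCompact.isKProjective_single (ModuleCat.of R R)
  intro K hK
  have hex : ∀ m : ℤ, IsZero ((DerivedCategory.homologyFunctor (ModuleCat.{v} R) 0).obj (K⟦m⟧)) := by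
    intro m
    let C := DerivedCategory.Q.objPreimage (K⟦m⟧)
    let e : DerivedCategory.Q.obj C ≅ K⟦m⟧ := DerivedCategory.Q.objObjPreimageIso _
    refine IsZero.of_iso ?_ ((DerivedCategory.homologyFunctor _ 0).mapIso e.symm ≪≫
      (DerivedCategory.homologyFunctorFactors _ 0).app C)
    show IsZero (C.homology 0)
    rw [← HomologicalComplex.exactAt_iff_isZero_homology, exactAt_iff' _ (-1) 0 1 (by simp) (by simp),
      ShortComplex.moduleCat_exact_iff]
    intro (z : C.X 0) (hz : (C.d 0 1).hom z = 0)
    let f : (single (ModuleCat.{v} R) up 0).obj (ModuleCat.of R R) ⟶ C :=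
      mkHomFromSingle (ModuleCat.ofHom (LinearMap.toSpanSingleton R (C.X 0) z)) fun j hj => by
        obtain rfl : (1 : ℤ) = j := by simpa using hj
        refine ModuleCat.hom_ext (LinearMap.ext_ring ?_)
        simp [hz]
    have hf : DerivedCategory.Q.map f = 0 :=
      (cancel_mono e.hom).1 ((hK ⟨⟩ m (DerivedCategory.Q.map f ≫ e.hom)).trans zero_comp.symm)
    have hq : (HomotopyCategory.quotient (ModuleCat.{v} R) up).map f = 0 := by
      refine (CochainComplex.IsKProjective.Qh_map_bijective
        ((single (ModuleCat.{v} R) up 0).obj (ModuleCat.of R R)) _).injective ?_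
      rw [Functor.map_zero, ← cancel_mono ((DerivedCategory.quotientCompQhIso _).hom.app C), zero_comp]
      have n := (DerivedCategory.quotientCompQhIso (ModuleCat.{v} R)).hom.naturality f
      simp only [Functor.comp_map] at n
      rw [n, hf]
      exact comp_zero
    let h := HomotopyCategory.homotopyOfEq _ _ (hq.trans (Functor.map_zero _ _ _).symm)
    have hc := h.comm 0
    rw [dNext_eq _ (show (up).Rel 0 1 from by simp), single_obj_d, zero_comp, zero_add,
      prevD_eq _ (show (up).Rel (-1) 0 from by simp)] at hc
    refine ⟨(h.hom 0 (-1)).hom ((singleObjXSelf up 0 (ModuleCat.of R R)).inv.hom (1 : R)), ?_⟩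
    have e1 := congr(($hc).hom ((singleObjXSelf up 0 (ModuleCat.of R R)).inv.hom (1 : R)))
    simp [f] at e1
    exact e1.symm
  rw [IsZero.iff_id_eq_zero]
  have : IsIso (0 : K ⟶ K) := by
    refine (DerivedCategory.isIso_iff (f := _)).2 fun n => ?_
    have hz : IsZero ((DerivedCategory.homologyFunctor (ModuleCat.{v} R) n).obj K) :=
      (hex n).of_iso (((DerivedCategory.homologyFunctor (ModuleCat.{v} R) 0).shiftIso n 0 n (by simp)).app K).symm
    exact ⟨0, hz.eq_of_src _ _, hz.eq_of_src _ _⟩
  exact (cancel_epi (0 : K ⟶ K)).1 (zero_comp.trans zero_comp.symm)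

end Groth.DerivedCoh.BrownModules
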