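import Groth.Agent.DerivedCoh.BrownGrothendieck
import Mathlib.CategoryTheory.Triangulated.HomologicalFunctor

/-!
Brown representability for the derived category of a Grothendieck abelian category.
-/

set_option autoImplicit false

universe w v u

open CategoryTheory CategoryTheory.Limits Opposite CategoryTheory.Pretriangulated

namespace Groth.DerivedCoh.BrownRepGrothendieck

/-- A presheaf on a reflective localization is representable when its composite with the
localization is. -/
theorem isRepresentable_of_reflective {A B : Type*} [Category.{v} A] [Category.{v} B]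
    {L : B ⥤ A} {R : A ⥤ B} (adj : L ⊣ R) [R.Full] [R.Faithful] (H : Aᵒᵖ ⥤ Type v)
    [(L.op ⋙ H).IsRepresentable] : H.IsRepresentable := by
  let T := (L.op ⋙ H).reprX
  let r : (L.op ⋙ H).RepresentableBy T := (L.op ⋙ H).representableBy
  let ε := adj.counit
  have : IsIso (L.map (adj.unit.app T)) := by
    have h : L.map (adj.unit.app T) ≫ adj.counit.app (L.obj T) = 𝟙 _ :=
      adj.left_triangle_components T
    have : IsIso (L.map (adj.unit.app T) ≫ adj.counit.app (L.obj T)) := h ▸ inferInstance
    exact IsIso.of_isIso_comp_right _ (adj.counit.app (L.obj T))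
  have hbij : Function.Bijective fun g : R.obj (L.obj T) ⟶ T => adj.unit.app T ≫ g := by
    have e : (fun g : R.obj (L.obj T) ⟶ T => adj.unit.app T ≫ g) =
        r.homEquiv.symm ∘ (H.mapIso (asIso (L.map (adj.unit.app T))).op).toEquiv ∘ r.homEquiv := by
      funext g
      apply r.homEquiv.injective
      simp [r.homEquiv_comp]
    rw [e]
    exact r.homEquiv.symm.bijective.comp ((Equiv.bijective _).comp r.homEquiv.bijective)
  obtain ⟨q, hq⟩ := hbij.2 (𝟙 T)
  have hq' : q ≫ adj.unit.app T = 𝟙 _ := by
    apply (adj.homEquiv _ _).symm.injective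
    rw [← cancel_epi (L.map (adj.unit.app T))]
    simp only [Adjunction.homEquiv_counit]
    rw [← L.map_comp_assoc, ← L.map_comp_assoc, reassoc_of% hq]
    simp
  let u : T ≅ R.obj (L.obj T) := ⟨adj.unit.app T, q, hq, hq'⟩
  let φ : ∀ X, (X ⟶ L.obj T) ≃ H.obj (op X) := fun X =>
    ((((Functor.FullyFaithful.ofFullyFaithful R).homEquiv).trans
      ((Iso.refl (R.obj X)).homCongr u.symm)).trans r.homEquiv).trans
        (H.mapIso (asIso (adj.counit.app X)).op).symm.toEquiv
  refine Functor.RepresentableBy.isRepresentable (Y := L.obj T)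
    { homEquiv := fun {X} => φ X
      homEquiv_comp := fun {X X'} f g => ?_ }
  have h : ∀ (Z : A) (k : Z ⟶ L.obj T), φ Z k =
      H.map (inv (adj.counit.app Z)).op (r.homEquiv (R.map k ≫ q)) := fun Z k => by
    simp [φ, u, Functor.FullyFaithful.homEquiv]
  rw [h, h, Functor.map_comp, Category.assoc, r.homEquiv_comp]
  have hn : inv (adj.counit.app X) ≫ L.map (R.map f) = f ≫ inv (adj.counit.app X') := by
    rw [IsIso.inv_comp_eq, ← Category.assoc, IsIso.eq_comp_inv]
    exact adj.counit.naturality f
  rw [← comp_apply, ← comp_apply]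
  congr 2
  change H.map (L.map (R.map f)).op ≫ H.map (inv (adj.counit.app X)).op =
    H.map (inv (adj.counit.app X')).op ≫ H.map f.op
  rw [← H.map_comp, ← H.map_comp, ← op_comp, ← op_comp, hn]

open CategoryTheory.Pretriangulated.Opposite

variable {A : Type u} [Category.{v} A] [Abelian A] [IsGrothendieckAbelian.{v} A]
  [HasDerivedCategory.{v} A]

/-- Brown representability for `D(A)`. -/
theorem isRepresentable (H : (DerivedCategory A)ᵒᵖ ⥤ AddCommGrpCat.{v}) [H.IsHomological]
    [∀ (ι : Type v), PreservesLimitsOfShape (Discrete ι) H] :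
    (H ⋙ forget AddCommGrpCat.{v}).IsRepresentable := by
  let U := separator A
  have hU : IsSeparator U := isSeparator_separator A
  letI : HasDerivedCategory.{v} (ModuleCat.{v} (End U)ᵐᵒᵖ) :=
    Groth.Agent.CohDescent.hasSmallDerivedCategory _
  let adj := IsGrothendieckAbelian.tensorObjPreadditiveCoyonedaObjAdjunction U
  haveI : (IsGrothendieckAbelian.tensorObj U).Additive := adj.left_adjoint_additive
  haveI : PreservesFiniteLimits (IsGrothendieckAbelian.tensorObj U) :=
    IsGrothendieckAbelian.GabrielPopescu.preservesFiniteLimits U hU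
  haveI : PreservesFiniteColimits (IsGrothendieckAbelian.tensorObj U) := inferInstance
  have hA : Groth.DerivedAdj.EnoughKInj A := fun K => by
    obtain ⟨I, i, -, h1, h2, -⟩ := Groth.DerivedCoh.KInjRes.exists_resolution K
    exact ⟨I, i, h2, h1⟩
  haveI : ((preadditiveCoyonedaObj U).mapHomotopyCategory (ComplexShape.up ℤ) ⋙
      DerivedCategory.Qh).HasPointwiseRightDerivedFunctor
        (HomotopyCategory.quasiIso A (ComplexShape.up ℤ)) :=
    Groth.DerivedAdj.hasPointwiseRightDerivedFunctor_of_bijective _
    (Groth.DerivedAdj.exists_good hA)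
  obtain ⟨⟨adjD⟩, hfull, hfaith, -⟩ := Groth.Agent.S12232.result U hU
  haveI : HasCoproducts.{v} (DerivedCategory (ModuleCat.{v} (End U)ᵐᵒᵖ)) :=
    Groth.DerivedCoh.KInjRes.hasCoproducts
  let L := (IsGrothendieckAbelian.tensorObj U).mapDerivedCategory
  haveI : L.IsLeftAdjoint := adjD.isLeftAdjoint
  haveI : L.op.IsRightAdjoint := adjD.op.isRightAdjoint
  haveI : ∀ κ : Type v, PreservesLimitsOfShape (Discrete κ) L.op := fun κ => inferInstance
  haveI : (L.op ⋙ H).IsHomological := inferInstance
  haveI : ((L.op ⋙ H) ⋙ forget AddCommGrpCat.{v}).IsRepresentable :=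
    Groth.DerivedCoh.Brown.isRepresentable_of_compactlyGenerated
      ⟨PUnit.{v + 1}, _, fun _ => Groth.DerivedCoh.BrownModules.isCompactObject _,
        Groth.DerivedCoh.BrownModules.generates _⟩ _
  haveI : (L.op ⋙ H ⋙ forget AddCommGrpCat.{v}).IsRepresentable := this
  exact isRepresentable_of_reflective adjD (H ⋙ forget AddCommGrpCat.{v})

end Groth.DerivedCoh.BrownRepGrothendieck
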