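import Groth.Agent.DAlg.DerivedLeftAdj
import Groth.Agent.DerivedCoh.Compact
import Groth.Prelude.Def_CohDer
import Mathlib.Algebra.Homology.DerivedCategory.TStructure
import Mathlib.Algebra.Homology.DerivedCategory.ShortExact
import Mathlib.CategoryTheory.Retract

/-!
Compact objects of the derived category of an abelian category with small generators through which
maps into direct sums factor finitely.
-/

set_option autoImplicit false

universe v u

open CategoryTheory CategoryTheory.Limits CategoryTheory.Pretriangulated HomologicalComplex Opposite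

set_option backward.defeqAttrib.useBackward true
set_option backward.isDefEq.respectTransparency false
set_option synthInstance.maxHeartbeats 400000
set_option linter.unusedSectionVars false

namespace Groth.DerivedCoh.CompactTerms

variable {A : Type u} [Category.{v} A] [Abelian A]

section Supp

variable {D : Type*} [Category D] [Preadditive D]

/-- A map into the vertex of a cofan supported on finitely many summands. -/
def Supported {T : Type*} {X : T → D} {P : D} (inj : ∀ t, X t ⟶ P) {K : D} (f : K ⟶ P) : Prop :=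
  ∃ G : Finset T, ∀ {Z : D} (h : P ⟶ Z), (∀ t ∈ G, inj t ≫ h = 0) → f ≫ h = 0

lemma supported_zero {T : Type*} {X : T → D} {P : D} (inj : ∀ t, X t ⟶ P) (K : D) :
    Supported inj (0 : K ⟶ P) :=
  ⟨∅, fun {Z} _ _ => zero_comp⟩

lemma Supported.add {T : Type*} {X : T → D} {P : D} {inj : ∀ t, X t ⟶ P} {K : D} {f g : K ⟶ P}
    (hf : Supported inj f) (hg : Supported inj g) : Supported inj (f + g) := by
  classical
  obtain ⟨G, hG⟩ := hf
  obtain ⟨G', hG'⟩ := hg
  exact ⟨G ∪ G', fun h hh => by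
    rw [Preadditive.add_comp, hG h fun t ht => hh t (Finset.mem_union_left _ ht),
      hG' h fun t ht => hh t (Finset.mem_union_right _ ht), add_zero]⟩

lemma supported_inj {T : Type*} {X : T → D} {P : D} (inj : ∀ t, X t ⟶ P) {K : D} {t : T} (g : K ⟶ X t) :
    Supported inj (g ≫ inj t) :=
  ⟨{t}, fun h hh => by rw [Category.assoc, hh t (Finset.mem_singleton_self t), comp_zero]⟩

lemma Supported.neg {T : Type*} {X : T → D} {P : D} {inj : ∀ t, X t ⟶ P} {K : D} {f : K ⟶ P}
    (hf : Supported inj f) : Supported inj (-f) := by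
  obtain ⟨G, hG⟩ := hf
  exact ⟨G, fun h hh => by rw [Preadditive.neg_comp, hG h hh, neg_zero]⟩

end Supp

section Maps

/-- Maps out of an object whose hom functor preserves direct sums are finitely supported. -/
lemma supported_of_preserves {E : A} {T : Type v} [PreservesColimitsOfShape (Discrete T) (preadditiveCoyoneda.obj (op E))]
    (X : T → A) [HasCoproduct X] (φ : E ⟶ ∐ X) : Supported (Sigma.ι X) φ := by
  let F := preadditiveCoyoneda.obj (op E)
  let hc := isColimitCofanMkObjOfIsColimit F _ _ (coproductIsCoproduct X)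
  let H : AddSubgroup (F.obj (∐ X)) :=
    { carrier := {f | Supported (Sigma.ι X) (show E ⟶ ∐ X from f)}
      zero_mem' := supported_zero _ _
      add_mem' := fun hf hg => hf.add hg
      neg_mem' := fun hf => hf.neg }
  have h : (AddCommGrpCat.ofHom (QuotientAddGroup.mk' H) : F.obj (∐ X) ⟶ AddCommGrpCat.of (_ ⧸ H)) = 0 := by
    refine Cofan.IsColimit.hom_ext hc _ _ fun t => ?_
    ext (g : E ⟶ X t)
    exact (QuotientAddGroup.eq_zero_iff _).2 (supported_inj (Sigma.ι X) g)
  exact (QuotientAddGroup.eq_zero_iff (N := H) φ).1 (ConcreteCategory.congr_hom h φ)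

end Maps

variable [IsGrothendieckAbelian.{v} A] [HasCoproducts.{v} A] [HasDerivedCategory.{v} A]
  [HasCoproducts.{v} (DerivedCategory A)]

/-- Maps from a compact object into the image of a direct sum of complexes are finitely supported. -/
lemma supported_Q {K : DerivedCategory A} (hK : CohDer.IsCompactObject K) {T : Type v}
    (X : T → CochainComplex A ℤ) (c : Cofan X) (hc : IsColimit c) (f : K ⟶ DerivedCategory.Q.obj c.pt) :
    Supported (fun t => DerivedCategory.Q.map (c.inj t)) f := by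
  classical
  let d : (∐ fun t => DerivedCategory.Q.obj (X t)) ⟶ DerivedCategory.Q.obj c.pt :=
    Sigma.desc fun t => DerivedCategory.Q.map (c.inj t)
  obtain ⟨J, hJ, ⟨ε⟩⟩ := KInjRes.exists_kInjective_iso (∐ fun t => DerivedCategory.Q.obj (X t))
  choose w hw using fun t => KInjRes.Q_map_surjective (X t) J
    (Sigma.ι (fun t => DerivedCategory.Q.obj (X t)) t ≫ ε.inv)
  let m : DerivedCategory.Q.obj c.pt ⟶ ∐ fun t => DerivedCategory.Q.obj (X t) :=
    DerivedCategory.Q.map (Cofan.IsColimit.desc hc w) ≫ ε.hom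
  have hm : ∀ t, DerivedCategory.Q.map (c.inj t) ≫ m = Sigma.ι (fun t => DerivedCategory.Q.obj (X t)) t := fun t => by
    simp only [m, ← Functor.map_comp_assoc, Cofan.IsColimit.fac, hw, Category.assoc, Iso.inv_hom_id, Category.comp_id]
  have hmd : m ≫ d = 𝟙 _ := by
    obtain ⟨J', hJ', ⟨ε'⟩⟩ := KInjRes.exists_kInjective_iso (DerivedCategory.Q.obj c.pt)
    obtain ⟨a, ha⟩ := KInjRes.Q_map_surjective c.pt J' ((m ≫ d) ≫ ε'.inv)
    obtain ⟨b, hb⟩ := KInjRes.Q_map_surjective c.pt J' ε'.inv
    let e := (coproductIsCoproduct X).coconePointUniqueUpToIso hc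
    have he : ∀ t, Sigma.ι X t ≫ e.hom = c.inj t := fun t =>
      (coproductIsCoproduct X).comp_coconePointUniqueUpToIso_hom hc ⟨t⟩
    rw [← cancel_mono ε'.inv, Category.id_comp, ← ha, ← hb,
      ← cancel_epi (DerivedCategory.Q.map e.hom), ← Functor.map_comp, ← Functor.map_comp, KInjRes.Q_map_eq_iff]
    refine KInjRes.homotopic_sigma X _ _ fun t => ?_
    rw [← KInjRes.Q_map_eq_iff, ← Category.assoc, ← Category.assoc, he, Functor.map_comp, Functor.map_comp, ha, hb,
      ← Category.assoc, ← Category.assoc, hm, Sigma.ι_desc]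
  obtain ⟨x, hx⟩ := (hK T fun t => DerivedCategory.Q.obj (X t)).2 (f ≫ m)
  have key : f = CohDer.homSumToHomCoprod K _ x ≫ d := by rw [hx, Category.assoc, hmd, Category.comp_id]
  rw [key]
  clear key hx
  induction x using DirectSum.induction_on with
  | zero => rw [map_zero, zero_comp]; exact supported_zero _ _
  | of t g =>
    rw [Compact.homSum_of, Category.assoc, Sigma.ι_desc]
    exact supported_inj (fun t => DerivedCategory.Q.map (c.inj t)) g
  | add x y hx hy => rw [map_add, Preadditive.add_comp]; exact hx.add hy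

/-- A compact object has cohomology in finitely many degrees. -/
lemma exists_isLE {K : DerivedCategory A} (hK : CohDer.IsCompactObject K) : ∃ b : ℤ, K.IsLE b := by
  classical
  let P := (DerivedCategory.Q (C := A)).objPreimage K
  let e : DerivedCategory.Q.obj P ≅ K := (DerivedCategory.Q (C := A)).objObjPreimageIso K
  let X : ULift.{v} ℤ → CochainComplex A ℤ := fun q =>
    (single A (ComplexShape.up ℤ) q.down).obj (P.opcycles q.down)
  let ψ : ∀ q : ULift.{v} ℤ, P ⟶ X q := fun q =>
    mkHomToSingle (P.pOpcycles q.down) (fun i _ => P.d_pOpcycles i q.down)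
  have hψ : ∀ (i : ℤ) (q : ULift.{v} ℤ), i ≠ q.down → (ψ q).f i = 0 := fun i q h =>
    (isZero_single_obj_X _ _ _ _ h).eq_of_tgt _ _
  let φ : P ⟶ ∐ X :=
    { f := fun i => (ψ ⟨i⟩ ≫ Sigma.ι X ⟨i⟩).f i
      comm' := fun i j hij => by
        have h1 : (ψ ⟨i⟩ ≫ Sigma.ι X ⟨i⟩).f i ≫ (∐ X).d i j = 0 := by
          rw [comp_f, Category.assoc, (Sigma.ι X ⟨i⟩).comm]
          simp [X]
        have h2 : P.d i j ≫ (ψ ⟨j⟩ ≫ Sigma.ι X ⟨j⟩).f j = 0 := by
          rw [comp_f, ← Category.assoc, ← (ψ ⟨j⟩).comm]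
          simp [X]
        rw [h1, h2] }
  let c : Cofan X := Cofan.mk (∐ X) (Sigma.ι X)
  obtain ⟨G, hG⟩ := supported_Q hK X c (coproductIsCoproduct X) (e.inv ≫ DerivedCategory.Q.map φ)
  obtain ⟨b, hb⟩ := (G.image fun q => q.down).bddAbove
  refine ⟨b, (DerivedCategory.isLE_iff K b).2 fun i hi => ?_⟩
  let p : ∐ X ⟶ X ⟨i⟩ := Sigma.desc fun q => if h : q = ⟨i⟩ then eqToHom (congrArg X h) else 0
  have hp : φ ≫ p = ψ ⟨i⟩ := by
    refine to_single_hom_ext ?_
    change (ψ ⟨i⟩ ≫ Sigma.ι X ⟨i⟩).f i ≫ p.f i = _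
    rw [comp_f, Category.assoc, ← comp_f (Sigma.ι X ⟨i⟩) p, Sigma.ι_desc, dif_pos rfl, eqToHom_refl, id_f,
      Category.comp_id]
  have h0 : DerivedCategory.Q.map (ψ ⟨i⟩) = 0 := by
    have h := hG (DerivedCategory.Q.map p) fun q hq => by
      have hne : q ≠ ⟨i⟩ := fun h => absurd (hb (Finset.mem_image_of_mem _ hq)) (by rw [h]; simp only; omega)
      rw [← Functor.map_comp]
      refine (congrArg _ ?_).trans (DerivedCategory.Q.map_zero _ _)
      exact (Sigma.ι_desc _ _).trans (dif_neg hne)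
    rw [Category.assoc, ← Functor.map_comp, hp] at h
    rw [← cancel_epi e.inv, h, comp_zero]
  have h1 : homologyMap (ψ ⟨i⟩) i = 0 := by
    let τ := DerivedCategory.homologyFunctorFactors A i
    refine (cancel_epi (τ.hom.app P)).1 ?_
    refine (τ.hom.naturality (ψ ⟨i⟩)).symm.trans ?_
    rw [Functor.comp_map, h0, Functor.map_zero, zero_comp, comp_zero]
  have h2 : IsIso (opcyclesMap (ψ ⟨i⟩) i) := by
    have hd : ((X ⟨i⟩).d ((ComplexShape.up ℤ).prev i) i) = 0 := by simp [X]
    have := (X ⟨i⟩).isIso_pOpcycles ((ComplexShape.up ℤ).prev i) i rfl hd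
    have hcomp : opcyclesMap (ψ ⟨i⟩) i = (singleObjXSelf (ComplexShape.up ℤ) i (P.opcycles i)).inv ≫ (X ⟨i⟩).pOpcycles i := by
      rw [← cancel_epi (P.pOpcycles i), p_opcyclesMap]
      simp [ψ, X, mkHomToSingle_f]
    rw [hcomp]
    exact IsIso.comp_isIso' inferInstance this
  have h3 : P.homologyι i = 0 := by
    have h := homologyι_naturality (ψ ⟨i⟩) i
    rw [h1, zero_comp] at h
    rw [← cancel_mono (opcyclesMap (ψ ⟨i⟩) i), zero_comp, ← h]
  refine IsZero.of_iso ?_ (((DerivedCategory.homologyFunctor A i).mapIso e.symm) ≪≫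
    (DerivedCategory.homologyFunctorFactors A i).app P)
  rw [IsZero.iff_id_eq_zero]
  exact (cancel_mono (P.homologyι i)).1 (by rw [h3]; simp)

section Graded

variable {L : CochainComplex A ℤ} {T : ℤ → Type v} {E : ∀ i, T i → A} (e : ∀ i, L.X i ≅ ∐ E i)

open Classical in
/-- The inclusion of some of the summands. -/
noncomputable def inF (F : ∀ i, Set (T i)) (i : ℤ) : (∐ fun t : F i => E i t.1) ⟶ L.X i :=
  (Sigma.desc fun t => Sigma.ι (E i) t.1) ≫ (e i).inv

open Classical in
/-- The projection onto some of the summands. -/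
noncomputable def prF (F : ∀ i, Set (T i)) (i : ℤ) : L.X i ⟶ ∐ fun t : F i => E i t.1 :=
  (e i).hom ≫ Sigma.desc fun t => if h : t ∈ F i then Sigma.ι (fun t : F i => E i t.1) ⟨t, h⟩ else 0

/-- The complementary summands. -/
abbrev cF (F : ∀ i, Set (T i)) (i : ℤ) : Set (T i) := (F i)ᶜ

variable {e}

lemma inF_prF_self (F : ∀ i, Set (T i)) (i : ℤ) : inF e F i ≫ prF e F i = 𝟙 _ := by
  refine Sigma.hom_ext _ _ fun t => ?_
  simp [inF, prF, t.2]

lemma inF_prF_zero (F F' : ∀ i, Set (T i)) (i : ℤ) (h : ∀ t ∈ F i, t ∉ F' i) : inF e F i ≫ prF e F' i = 0 := by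
  refine Sigma.hom_ext _ _ fun t => ?_
  simp [inF, prF, h t.1 t.2]

lemma prF_inF_add (F : ∀ i, Set (T i)) (i : ℤ) :
    prF e F i ≫ inF e F i + prF e (cF F) i ≫ inF e (cF F) i = 𝟙 _ := by
  rw [← cancel_epi (e i).inv]
  refine Sigma.hom_ext _ _ fun t => ?_
  by_cases h : t ∈ F i <;> simp [inF, prF, h]

/-- No differential leaves the chosen summands. -/
def Closed (e : ∀ i, L.X i ≅ ∐ E i) (F : ∀ i, Set (T i)) : Prop :=
  ∀ i j, inF e F i ≫ L.d i j ≫ prF e (cF F) j = 0

lemma closed_of_supp (F : ∀ i, Set (T i))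
    (h : ∀ (i : ℤ) (t : T i), t ∈ F i → ∃ G : Finset (T (i + 1)), (↑G ⊆ F (i + 1)) ∧
      ∀ {Z : A} (k : (∐ E (i + 1)) ⟶ Z), (∀ s ∈ G, Sigma.ι (E (i + 1)) s ≫ k = 0) →
        (Sigma.ι (E i) t ≫ (e i).inv ≫ L.d i (i + 1) ≫ (e (i + 1)).hom) ≫ k = 0) :
    Closed e F := fun i j => by
  by_cases hij : (ComplexShape.up ℤ).Rel i j
  · obtain rfl : i + 1 = j := hij
    refine Sigma.hom_ext _ _ fun t => ?_
    obtain ⟨G, hG, hG'⟩ := h i t.1 t.2
    have := hG' ((e (i + 1)).inv ≫ prF e (cF F) (i + 1)) fun s hs => by simp [prF, hG hs]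
    simpa [inF] using this
  · rw [L.shape i j hij, zero_comp, comp_zero]

variable {F : ∀ i, Set (T i)} (hF : Closed e F)

include hF

lemma Closed.d_prF_inF (i j : ℤ) : inF e F i ≫ L.d i j ≫ prF e F j ≫ inF e F j = inF e F i ≫ L.d i j := by
  conv_rhs => rw [← Category.comp_id (L.d i j), ← prF_inF_add (e := e) F j]
  rw [Preadditive.comp_add, Preadditive.comp_add, ← Category.assoc (L.d i j) (prF e (cF F) j),
    ← Category.assoc (inF e F i) (L.d i j ≫ prF e (cF F) j), hF i j, zero_comp, add_zero]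

lemma Closed.prF_inF_d (i j : ℤ) :
    prF e (cF F) i ≫ inF e (cF F) i ≫ L.d i j ≫ prF e (cF F) j = L.d i j ≫ prF e (cF F) j := by
  conv_rhs => rw [← Category.id_comp (L.d i j ≫ prF e (cF F) j), ← prF_inF_add (e := e) F i]
  rw [Preadditive.add_comp, Category.assoc, hF i j, comp_zero, zero_add, Category.assoc]

/-- The subcomplex on the chosen summands. -/
noncomputable def sub : CochainComplex A ℤ where
  X i := ∐ fun t : F i => E i t.1
  d i j := inF e F i ≫ L.d i j ≫ prF e F j
  shape i j h := by rw [L.shape i j h, zero_comp, comp_zero]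
  d_comp_d' i j k _ _ := by
    have h := hF.d_prF_inF i j
    simp only [← Category.assoc] at h ⊢
    rw [h]
    simp

/-- The inclusion of the subcomplex. -/
noncomputable def incl : sub hF ⟶ L where
  f i := inF e F i
  comm' i j _ := by
    change inF e F i ≫ L.d i j = (inF e F i ≫ L.d i j ≫ prF e F j) ≫ inF e F j
    rw [Category.assoc, Category.assoc, hF.d_prF_inF]

/-- The quotient complex on the other summands. -/
noncomputable def quot : CochainComplex A ℤ where
  X i := ∐ fun t : cF F i => E i t.1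
  d i j := inF e (cF F) i ≫ L.d i j ≫ prF e (cF F) j
  shape i j h := by rw [L.shape i j h, zero_comp, comp_zero]
  d_comp_d' i j k _ _ := by
    simp only [Category.assoc]
    rw [hF.prF_inF_d]
    simp

/-- The projection onto the quotient complex. -/
noncomputable def proj : L ⟶ quot hF where
  f i := prF e (cF F) i
  comm' i j _ := hF.prF_inF_d i j

lemma shortExact_sub_quot :
    (ShortComplex.mk (incl hF) (proj hF) (by ext i; exact inF_prF_zero F (cF F) i fun t h h' => h' h)).ShortExact :=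
  shortExact_of_degreewise_shortExact _ fun i => ShortComplex.Splitting.shortExact
    { r := prF e F i
      s := inF e (cF F) i
      f_r := inF_prF_self F i
      s_g := inF_prF_self (cF F) i
      id := prF_inF_add F i }

variable {F' : ∀ i, Set (T i)} (hF' : Closed e F')

/-- The map between quotient complexes for more chosen summands. -/
noncomputable def qmap (h : ∀ i, F i ⊆ F' i) : quot hF ⟶ quot hF' where
  f i := inF e (cF F) i ≫ prF e (cF F') i
  comm' i j _ := by
    have h0 : prF e (cF F) j ≫ inF e (cF F) j ≫ prF e (cF F') j = prF e (cF F') j := by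
      conv_rhs => rw [← Category.id_comp (prF e (cF F') j), ← prF_inF_add (e := e) F j]
      rw [Preadditive.add_comp, Category.assoc, inF_prF_zero F (cF F') j fun t ht ht' => ht' (h j ht), comp_zero,
        zero_add, Category.assoc]
    change (inF e (cF F) i ≫ prF e (cF F') i) ≫ inF e (cF F') i ≫ L.d i j ≫ prF e (cF F') j =
      (inF e (cF F) i ≫ L.d i j ≫ prF e (cF F) j) ≫ inF e (cF F) j ≫ prF e (cF F') j
    rw [Category.assoc, hF'.prF_inF_d, Category.assoc, Category.assoc, h0]

lemma proj_qmap (h : ∀ i, F i ⊆ F' i) : proj hF ≫ qmap hF hF' h = proj hF' := by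
  ext i
  change prF e (cF F) i ≫ inF e (cF F) i ≫ prF e (cF F') i = prF e (cF F') i
  conv_rhs => rw [← Category.id_comp (prF e (cF F') i), ← prF_inF_add (e := e) F i]
  rw [Preadditive.add_comp, Category.assoc, inF_prF_zero F (cF F') i fun t ht ht' => ht' (h i ht), comp_zero,
    zero_add, Category.assoc]

/-- A retract into the complex factors through the subcomplex if it vanishes on the quotient. -/
lemma exists_retract_sub {K : DerivedCategory A} (r : Retract K (DerivedCategory.Q.obj L))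
    (h : r.i ≫ DerivedCategory.Q.map (proj hF) = 0) : Nonempty (Retract K (DerivedCategory.Q.obj (sub hF))) := by
  obtain ⟨s, hs⟩ := Triangle.coyoneda_exact₂ _
    (DerivedCategory.triangleOfSES_distinguished (shortExact_sub_quot hF)) r.i h
  change K ⟶ DerivedCategory.Q.obj (sub hF) at s
  change r.i = s ≫ DerivedCategory.Q.map (incl hF) at hs
  exact ⟨{ i := s, r := DerivedCategory.Q.map (incl hF) ≫ r.r
           retract := by rw [← Category.assoc, ← hs, r.retract] }⟩

end Graded

variable {K : DerivedCategory A} (hK : CohDer.IsCompactObject K) (S : Set A)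
  (hS : ∀ E ∈ S, ∀ ι : Type v, PreservesColimitsOfShape (Discrete ι) (preadditiveCoyoneda.obj (op E)))

/-- A complex of sums of members of `S` of which the compact object is a retract. -/
def Rep (K : DerivedCategory A) (T : ℤ → Type v) : Prop :=
  ∃ (L : CochainComplex A ℤ) (E : ∀ i, T i → A) (_ : ∀ i t, E i t ∈ S),
    Nonempty (∀ i, L.X i ≅ ∐ E i) ∧ Nonempty (Retract K (DerivedCategory.Q.obj L))

include hK in
/-- Truncating below. -/
lemma exists_rep_bounded {T : ℤ → Type v} (h : Rep S K T) :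
    ∃ (a : ℤ) (T' : ℤ → Type v), Rep S K T' ∧ (∀ i, i < a → IsEmpty (T' i)) ∧ ∀ i, IsEmpty (T i) → IsEmpty (T' i) := by
  classical
  obtain ⟨L, E, hE, ⟨e⟩, ⟨r⟩⟩ := h
  let F : ULift.{v} ℕ → ∀ i, Set (T i) := fun n i => {_t | -(n.down : ℤ) ≤ i}
  have hF : ∀ n, Closed e (F n) := fun n i j => by
    by_cases hij : (ComplexShape.up ℤ).Rel i j
    · obtain rfl : i + 1 = j := hij
      by_cases hi : -(n.down : ℤ) ≤ i
      · rw [show prF e (cF (F n)) (i + 1) = 0 from ?_, comp_zero, comp_zero]
        rw [← cancel_epi (e (i + 1)).inv]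
        refine Sigma.hom_ext _ _ fun t => ?_
        have : t ∉ cF (F n) (i + 1) := fun h' => h' (show -(n.down : ℤ) ≤ i + 1 by omega)
        rw [prF, Iso.inv_hom_id_assoc, Sigma.ι_desc, dif_neg this]
        simp
      · refine Sigma.hom_ext _ _ fun t => absurd t.2 hi
    · rw [L.shape i j hij, zero_comp, comp_zero]
  let X : ULift.{v} ℕ → CochainComplex A ℤ := fun n => quot (hF n)
  have hz : ∀ (i : ℤ) (n : ULift.{v} ℕ), -(n.down : ℤ) ≤ i → (proj (hF n)).f i = 0 := fun i n hn => by
    refine IsZero.eq_of_tgt ?_ _ _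
    rw [IsZero.iff_id_eq_zero]
    exact Sigma.hom_ext _ _ fun t => absurd hn t.2
  let s : ℕ → Finset (ULift.{v} ℕ) := fun N => (Finset.range N).map ⟨ULift.up, ULift.up_injective⟩
  let g : ∀ (i : ℤ) (n : ULift.{v} ℕ), L.X i ⟶ (∐ X).X i := fun i n => (proj (hF n) ≫ Sigma.ι X n).f i
  have hs : ∀ (i : ℤ) (N : ℕ), (-i).toNat ≤ N → ∑ n ∈ s N, g i n = ∑ n ∈ s (-i).toNat, g i n := fun i N hN => by
    symm
    refine Finset.sum_subset (Finset.map_subset_map.2 (Finset.range_mono hN)) fun n hn hn' => ?_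
    change (proj (hF n)).f i ≫ _ = 0
    rw [hz i n ?_, zero_comp]
    simp only [s, Finset.mem_map, Finset.mem_range, Function.Embedding.coeFn_mk, not_exists, not_and] at hn'
    have := hn' n.down
    by_contra hlt
    exact this (by omega) rfl
  let φ : L ⟶ ∐ X :=
    { f := fun i => ∑ n ∈ s (-i).toNat, g i n
      comm' := fun i j _ => by
        rw [← hs i (max (-i).toNat (-j).toNat) (le_max_left _ _), ← hs j (max (-i).toNat (-j).toNat) (le_max_right _ _),
          Preadditive.sum_comp, Preadditive.comp_sum]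
        exact Finset.sum_congr rfl fun n _ => (proj (hF n) ≫ Sigma.ι X n).comm i j }
  obtain ⟨G, hG⟩ := supported_Q hK X (Cofan.mk (∐ X) (Sigma.ι X)) (coproductIsCoproduct X)
    (r.i ≫ DerivedCategory.Q.map φ)
  obtain ⟨N, hN⟩ := (G.image fun n => n.down).bddAbove
  let n₀ : ULift.{v} ℕ := ⟨N + 1⟩
  let p : ∐ X ⟶ X n₀ := Sigma.desc fun n => if h : n = n₀ then eqToHom (congrArg X h) else 0
  have hp : φ ≫ p = proj (hF n₀) := by
    ext i
    change (∑ n ∈ s (-i).toNat, g i n) ≫ p.f i = _
    rw [Preadditive.sum_comp, Finset.sum_eq_single n₀ (fun n _ hn => ?_) (fun hn => ?_)]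
    · rw [← comp_f, Category.assoc, Sigma.ι_desc, dif_pos rfl, eqToHom_refl, Category.comp_id]
    · rw [← comp_f, Category.assoc, Sigma.ι_desc, dif_neg hn, comp_zero]
      rfl
    · simp only [s, Finset.mem_map, Finset.mem_range, Function.Embedding.coeFn_mk, not_exists, not_and] at hn
      change ((proj (hF n₀)).f i ≫ _) ≫ _ = 0
      rw [hz i n₀ ?_, zero_comp, zero_comp]
      have := hn (N + 1)
      have : (n₀.down : ℤ) = (N : ℤ) + 1 := by simp [n₀]
      by_contra hlt
      exact hn (N + 1) (by omega) rfl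
  have h0 : r.i ≫ DerivedCategory.Q.map (proj (hF n₀)) = 0 := by
    have h := hG (DerivedCategory.Q.map p) fun n hn => by
      have hne : n ≠ n₀ := fun h => by
        have := hN (Finset.mem_image_of_mem _ hn)
        rw [h] at this
        simp [n₀] at this
      rw [← Functor.map_comp]
      refine (congrArg _ ?_).trans (DerivedCategory.Q.map_zero _ _)
      exact (Sigma.ι_desc _ _).trans (dif_neg hne)
    rwa [Category.assoc, ← Functor.map_comp, hp] at h
  obtain ⟨r'⟩ := exists_retract_sub (hF n₀) r h0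
  refine ⟨-(n₀.down : ℤ), fun i => F n₀ i, ⟨sub (hF n₀), fun i t => E i t.1, fun i t => hE i t.1,
    ⟨fun i => Iso.refl _⟩, ⟨r'⟩⟩, fun i hi => ⟨fun t => absurd t.2 (not_le.2 hi)⟩, fun i hi => ⟨fun t => hi.elim t.1⟩⟩

include hK hS in
/-- Making one more degree finite. -/
lemma exists_rep_step {T : ℤ → Type v} (h : Rep S K T) (j : ℤ) (hfin : ∀ i, i < j → Finite (T i)) :
    ∃ T' : ℤ → Type v, Rep S K T' ∧ (∀ i, i ≤ j → Finite (T' i)) ∧ ∀ i, IsEmpty (T i) → IsEmpty (T' i) := by
  classical
  obtain ⟨L, E, hE, ⟨e⟩, ⟨r⟩⟩ := h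
  have hsupp : ∀ (i : ℤ) (t : T i), Supported (Sigma.ι (E (i + 1)))
      (Sigma.ι (E i) t ≫ (e i).inv ≫ L.d i (i + 1) ≫ (e (i + 1)).hom) := fun i t =>
    have := hS (E i t) (hE i t) (T (i + 1))
    supported_of_preserves (E (i + 1)) _
  let F : Set (T j) → ∀ i, Set (T i) := fun B => Function.update (fun i => Set.univ) j B
  obtain ⟨B₀, hB₀, hB₀'⟩ : ∃ B₀ : Set (T j), B₀.Finite ∧ ∀ B, B₀ ⊆ B → Closed e (F B) := by
    choose G hG using hsupp
    obtain ⟨i, rfl⟩ : ∃ i, i + 1 = j := ⟨j - 1, by omega⟩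
    have := hfin i (by omega)
    refine ⟨⋃ t, ↑(G i t), Set.finite_iUnion fun t => (G i t).finite_toSet, fun B hB => closed_of_supp _ fun i' t _ =>
      ⟨G i' t, ?_, fun k hk => hG i' t k hk⟩⟩
    by_cases hi : i' + 1 = i + 1
    · obtain rfl : i' = i := by omega
      simp only [F, Function.update_self]
      exact (Set.subset_iUnion (fun t => (↑(G i' t) : Set (T (i' + 1)))) t).trans hB
    · simp [F, hi]
  have hF₀ := hB₀' B₀ subset_rfl
  let C₀ : Type v := cF (F B₀) j
  have hz : ∀ i, i ≠ j → IsZero ((quot hF₀).X i) := fun i hi => by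
    rw [IsZero.iff_id_eq_zero]
    exact Sigma.hom_ext _ _ fun t => absurd (show t.1 ∈ F B₀ i by simp [F, hi]) t.2
  let X : C₀ → CochainComplex A ℤ := fun t => (single A (ComplexShape.up ℤ) j).obj (E j t.1)
  let c : Cofan X := Cofan.mk (quot hF₀) fun t =>
    mkHomFromSingle (Sigma.ι (fun t : cF (F B₀) j => E j t.1) t) fun i hi =>
      (hz i (by simp at hi; omega)).eq_of_tgt _ _
  let des : ∀ s : Cofan X, (quot hF₀).X j ⟶ s.pt.X j := fun s =>
    Sigma.desc fun t => (singleObjXSelf (ComplexShape.up ℤ) j (E j t.1)).inv ≫ (s.inj t).f j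
  have hdes : ∀ (s : Cofan X) t, Sigma.ι (fun t : cF (F B₀) j => E j t.1) t ≫ des s =
      (singleObjXSelf (ComplexShape.up ℤ) j (E j t.1)).inv ≫ (s.inj t).f j := fun s t => Sigma.ι_desc _ _
  have hc : IsColimit c := Cofan.IsColimit.mk _
    (fun s =>
      { f := fun i => if hi : i = j then
            eqToHom (congrArg (quot hF₀).X hi) ≫ des s ≫ eqToHom (congrArg s.pt.X hi.symm)
          else 0
        comm' := fun i i' hii' => by
          by_cases hi : i = j
          · subst hi
            rw [show c.pt.d i i' = 0 from (hz i' (by simp at hii'; omega)).eq_of_tgt _ _, zero_comp, dif_pos rfl]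
            simp only [eqToHom_refl, Category.id_comp, Category.comp_id]
            refine Sigma.hom_ext _ _ fun t => ?_
            rw [← Category.assoc, hdes, Category.assoc, (s.inj t).comm]
            simp [X]
          · exact (hz i hi).eq_of_src _ _ })
    (fun s t => by
      apply from_single_hom_ext
      simp [c, mkHomFromSingle_f, X, hdes])
    (fun s m hm => by
      ext i : 1
      by_cases hi : i = j
      · subst hi
        simp only [dif_pos, eqToHom_refl, Category.id_comp, Category.comp_id]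
        refine Sigma.hom_ext _ _ fun t => ?_
        rw [hdes, ← hm t]
        simp [c, mkHomFromSingle_f, X]
      · exact (hz i hi).eq_of_src _ _)
  obtain ⟨G, hG⟩ := supported_Q hK X c hc (r.i ≫ DerivedCategory.Q.map (proj hF₀))
  let B₁ : Set (T j) := B₀ ∪ ↑(G.image fun t => t.1)
  have hB₁ : B₁.Finite := hB₀.union (Finset.finite_toSet _)
  have hF₁ := hB₀' B₁ Set.subset_union_left
  have hle : ∀ i, F B₀ i ⊆ F B₁ i := fun i => by
    by_cases hi : i = j
    · subst hi; simp [F, B₁]
    · simp [F, hi]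
  have h0 : r.i ≫ DerivedCategory.Q.map (proj hF₁) = 0 := by
    rw [← proj_qmap hF₀ hF₁ hle, Functor.map_comp, ← Category.assoc]
    refine hG _ fun t ht => ?_
    rw [← Functor.map_comp]
    refine (congrArg _ ?_).trans (DerivedCategory.Q.map_zero _ _)
    have hmem : t.1 ∈ F B₁ j := by
      simp only [F, Function.update_self, B₁]
      exact Or.inr (Finset.mem_image_of_mem _ ht)
    apply from_single_hom_ext
    simp [c, qmap, mkHomFromSingle_f, X, inF, prF, hmem]
  obtain ⟨r'⟩ := exists_retract_sub hF₁ r h0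
  refine ⟨fun i => F B₁ i, ⟨sub hF₁, fun i t => E i t.1, fun i t => hE i t.1, ⟨fun i => Iso.refl _⟩, ⟨r'⟩⟩,
    fun i hi => ?_, fun i hi => ⟨fun t => hi.elim t.1⟩⟩
  by_cases hij : i = j
  · subst hij
    simp only [F, Function.update_self]
    exact hB₁.to_subtype
  · have := hfin i (lt_of_le_of_ne hi hij)
    infer_instance

/-- The class of direct sums of members of `S`. -/
def IsSum (Y : A) : Prop := ∃ (T : Type v) (E : T → A), (∀ t, E t ∈ S) ∧ Nonempty (Y ≅ ∐ E)

lemma isSum_of_isZero {Y : A} (hY : IsZero Y) : IsSum S Y :=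
  ⟨PEmpty, PEmpty.elim, fun t => t.elim,
    ⟨hY.iso ((IsZero.iff_id_eq_zero _).2 (Sigma.hom_ext _ _ fun t => t.elim))⟩⟩

include hK in
/-- A compact object is represented by a bounded above complex of sums of members of `S`. -/
lemma exists_rep_above (h1 : ∀ X : A, ∃ (ι : Type v) (E : ι → A) (π : ∐ E ⟶ X), (∀ i, E i ∈ S) ∧ Epi π) :
    ∃ (b : ℤ) (T : ℤ → Type v), Rep S K T ∧ ∀ i, b < i → IsEmpty (T i) := by
  classical
  obtain ⟨ι, E, π, hE, hπ⟩ := h1 (separator A)
  have hsep : ∀ {Y Z : A} (f g : Y ⟶ Z), (∀ (s : ι) (φ : E s ⟶ Y), φ ≫ f = φ ≫ g) → f = g := fun {Y Z} f g h => by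
    refine (isSeparator_separator A).def f g fun ψ => ?_
    rw [← cancel_epi π]
    refine Sigma.hom_ext _ _ fun s => ?_
    simp only [← Category.assoc]
    exact h s _
  obtain ⟨b, hb⟩ := exists_isLE hK
  obtain ⟨Z, hZ, ⟨ez⟩⟩ := K.exists_iso_Q_obj_of_isLE b
  haveI := DAlg.DerivedLeftAdj.hasColimits_discrete A
  haveI := fun J : Type => DAlg.DerivedLeftAdj.hasExactColimits_discrete A J
  haveI := DAlg.DerivedLeftAdj.hasColimits_nat A
  haveI := DAlg.DerivedLeftAdj.hasExactColimits_nat A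
  let V := DAlg.DerivedLeftAdj.cover E hsep
  have hz : ∀ q, b < q → IsZero (Z.X q) := fun q hq => CochainComplex.isZero_of_isStrictlyLE Z b q hq
  have hX : ∀ q, IsSum S ((V.res.obj Z).X q) := fun q =>
    V.res_X_prop (IsSum S) (fun Y => ⟨_, _, fun k => hE _, ⟨Iso.refl _⟩⟩) (fun _ => isSum_of_isZero S)
      (fun i ⟨T, E', hE', ⟨j⟩⟩ => ⟨T, E', hE', ⟨i.symm ≪≫ j⟩⟩)
      (fun κ N h => by
        choose T E' hE' j using h
        exact ⟨_, _, fun (p : Σ k, T k) => hE' p.1 p.2,
          ⟨Sigma.mapIso (fun k => (j k).some) ≪≫ sigmaSigmaIso T E'⟩⟩) Z q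
  have hX' : ∀ q, ∃ (T : Type v) (E' : T → A), (∀ t, E' t ∈ S) ∧ Nonempty ((V.res.obj Z).X q ≅ ∐ E') ∧ (b < q → IsEmpty T) := by
    intro q
    by_cases hq : b < q
    · exact ⟨PEmpty, PEmpty.elim, fun t => t.elim, ⟨(V.res_X_zero Z b hz q hq).iso
        ((IsZero.iff_id_eq_zero _).2 (Sigma.hom_ext _ _ fun t => t.elim))⟩, fun _ => inferInstance⟩
    · obtain ⟨T, E', hE', hj⟩ := hX q
      exact ⟨T, E', hE', hj, fun h => absurd h hq⟩
  choose T E' hE' j hT using hX'
  have := V.quasiIso_resAug Z b hz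
  exact ⟨b, T, ⟨V.res.obj Z, E', hE', ⟨fun i => (j i).some⟩,
    ⟨Retract.ofIso (ez ≪≫ (asIso (DerivedCategory.Q.map (V.resAug.app Z))).symm)⟩⟩, hT⟩

include hK hS in
/-- Compact objects are retracts of bounded complexes of finite sums of members of `S`. -/
theorem exists_retract_finite [HasFiniteBiproducts A]
    (h1 : ∀ X : A, ∃ (ι : Type v) (E : ι → A) (π : ∐ E ⟶ X), (∀ i, E i ∈ S) ∧ Epi π) :
    ∃ (L : CochainComplex A ℤ) (a b : ℤ),
      (∀ i : ℤ, i < a ∨ b < i → IsZero (L.X i)) ∧
      (∀ i : ℤ, ∃ (n : ℕ) (E : Fin n → A), (∀ j, E j ∈ S) ∧ Nonempty (L.X i ≅ ⨁ E)) ∧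
      Nonempty (Retract K (DerivedCategory.Q.obj L)) := by
  classical
  obtain ⟨b, T, hT, hTb⟩ := exists_rep_above hK S h1
  obtain ⟨a, T₁, hT₁, ha₁, he₁⟩ := exists_rep_bounded hK S hT
  have key : ∀ n : ℕ, ∃ T' : ℤ → Type v, Rep S K T' ∧ (∀ i, i < a + n → Finite (T' i)) ∧
      ∀ i, i < a ∨ b < i → IsEmpty (T' i) := by
    intro n
    induction n with
    | zero => exact ⟨T₁, hT₁, fun i hi => have := ha₁ i (by simpa using hi); inferInstance,
        fun i hi => hi.elim (ha₁ i) fun h => he₁ i (hTb i h)⟩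
    | succ n ih =>
      obtain ⟨T', hT', hfin, hempty⟩ := ih
      obtain ⟨T'', hT'', hfin', he⟩ := exists_rep_step hK S hS hT' (a + n) hfin
      exact ⟨T'', hT'', fun i hi => hfin' i (by push_cast at hi; omega), fun i hi => he i (hempty i hi)⟩
  obtain ⟨T', ⟨L, E, hE, ⟨e⟩, hr⟩, hfin, hempty⟩ := key (b + 1 - a).toNat
  have hfin' : ∀ i, Finite (T' i) := fun i => by
    by_cases hi : i ≤ b
    · exact hfin i (by omega)
    · have := hempty i (Or.inr (by omega))
      infer_instance
  refine ⟨L, a, b, fun i hi => ?_, fun i => ?_, hr⟩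
  · have := hempty i hi
    exact ((IsZero.iff_id_eq_zero _).2 (Sigma.hom_ext _ _ fun t => isEmptyElim t)).of_iso (e i)
  · have := Fintype.ofFinite (T' i)
    let q := (Fintype.equivFin (T' i)).symm
    refine ⟨Fintype.card (T' i), fun k => E i (q k), fun k => hE i _, ⟨e i ≪≫
      { hom := Sigma.desc fun t => eqToHom (by rw [q.apply_symm_apply]) ≫ biproduct.ι (fun k => E i (q k)) (q.symm t)
        inv := biproduct.desc fun k => Sigma.ι (E i) (q k)
        hom_inv_id := Sigma.hom_ext _ _ fun t => ?_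
        inv_hom_id := biproduct.hom_ext' _ _ fun k => ?_ }⟩⟩
    · simp only [Sigma.ι_desc_assoc, Category.assoc, biproduct.ι_desc, Category.comp_id]
      exact Sigma.eqToHom_comp_ι (E i) (q.apply_symm_apply t).symm
    · simp only [biproduct.ι_desc_assoc, Sigma.ι_desc, Category.comp_id]
      exact biproduct.eqToHom_comp_ι (fun k => E i (q k)) (q.symm_apply_apply k).symm

end Groth.DerivedCoh.CompactTerms
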