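import Mathlib.Algebra.Homology.DerivedCategory.TStructure
import Mathlib.Algebra.Homology.DerivedCategory.FullyFaithful
import Mathlib.Algebra.Homology.DerivedCategory.HomologySequence
import Mathlib.CategoryTheory.Triangulated.TStructure.TruncLEGT

/-!
Composites of ghost maps (zero on cohomology in degrees `< k`) in a derived category kill objects
concentrated in degrees `< k` as soon as the chain is long enough.
-/

set_option autoImplicit false

universe w v u

open CategoryTheory CategoryTheory.Limits CategoryTheory.Pretriangulated CategoryTheory.Triangulated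

namespace Groth.DerivedCoh.GhostChain

open DerivedCategory

variable {A : Type u} [Category.{v} A] [Abelian A] [HasDerivedCategory.{w} A]

/-- The homology of a morphism out of an object of the heart detects its vanishing. -/
lemma eq_zero_of_homology_eq_zero (a : ℤ) {M Y : DerivedCategory A} [M.IsGE a] [M.IsLE a]
    [Y.IsGE a] (f : M ⟶ Y) (hf : (homologyFunctor A a).map f = 0) : f = 0 := by
  let t : TStructure (DerivedCategory A) := DerivedCategory.TStructure.t
  let Y' := (t.truncLE a).obj Y
  let f' : M ⟶ Y' := t.liftTruncLE f a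
  have hι : Mono ((homologyFunctor A a).map ((t.truncLEι a).app Y)) := by
    refine (HomologySequence.mono_homologyMap_mor₁_iff
      ((t.triangleLEGE a (a + 1) rfl).obj Y) (t.triangleLEGE_distinguished a (a + 1) rfl Y)
      (a - 1) a).2 ?_
    have : ((t.truncGE (a + 1)).obj Y).IsGE (a + 1) := t.isGE_truncGE_obj _ _ _ le_rfl
    exact (isZero_of_isGE ((t.truncGE (a + 1)).obj Y) (a + 1) (a - 1) (by omega)).eq_of_src _ _
  have hf' : (homologyFunctor A a).map f' = 0 := by
    rw [← cancel_mono ((homologyFunctor A a).map ((t.truncLEι a).app Y)), zero_comp, ← hf,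
      ← Functor.map_comp]
    exact congrArg _ (t.liftTruncLE_ι f a)
  have : Y'.IsGE a := inferInstanceAs (t.IsGE ((t.truncLE a).obj Y) a)
  have : Y'.IsLE a := inferInstanceAs (t.IsLE ((t.truncLE a).obj Y) a)
  obtain ⟨M₀, ⟨eM⟩⟩ := exists_iso_singleFunctor_obj_of_isGE_of_isLE M a
  obtain ⟨Y₀, ⟨eY⟩⟩ := exists_iso_singleFunctor_obj_of_isGE_of_isLE Y' a
  obtain ⟨g, hg⟩ := (singleFunctor A a).map_surjective (eM.inv ≫ f' ≫ eY.hom)
  have h0 : (homologyFunctor A a).map ((singleFunctor A a).map g) = 0 := by
    rw [hg, Functor.map_comp, Functor.map_comp, hf', zero_comp, comp_zero]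
  have hg0 : g = 0 := by
    have := NatIso.naturality_1 (singleFunctorCompHomologyFunctorIso A a) g
    rw [Functor.comp_map, h0, zero_comp, comp_zero] at this
    exact this.symm
  rw [← t.liftTruncLE_ι f a]
  have : f' = 0 := by
    rw [← cancel_epi eM.inv, ← cancel_mono eY.hom, comp_zero, zero_comp, Category.assoc, ← hg,
      hg0, Functor.map_zero]
  rw [show t.liftTruncLE f a = 0 from this, zero_comp]

/-- `f` is a composite of `m` maps which vanish on cohomology in degrees `< k`, all objects
involved being `≥ a`. -/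
inductive Chain (k a : ℤ) : ℕ → ∀ {X Y : DerivedCategory A}, (X ⟶ Y) → Prop
  | base (X : DerivedCategory A) : X.IsGE a → Chain k a 0 (𝟙 X)
  | step {m : ℕ} {X Y Z : DerivedCategory A} (f : X ⟶ Y) (g : Y ⟶ Z) : Chain k a m f → Z.IsGE a →
      (∀ p : ℤ, p < k → (homologyFunctor A p).map g = 0) → Chain k a (m + 1) (f ≫ g)

lemma Chain.isGE_target {k a : ℤ} {m : ℕ} {X Y : DerivedCategory A} {f : X ⟶ Y}
    (h : Chain k a m f) : Y.IsGE a := by
  cases h with
  | base _ h => exact h
  | step _ _ _ h _ => exact h

/-- Truncation preserves chains of ghosts. -/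
lemma Chain.truncGE {k a : ℤ} (b : ℤ) {m : ℕ} {X Y : DerivedCategory A} {f : X ⟶ Y}
    (h : Chain k a m f) :
    Chain k b m ((DerivedCategory.TStructure.t.truncGE b).map f) := by
  induction h with
  | base X _ =>
      rw [CategoryTheory.Functor.map_id]
      exact Chain.base _ (DerivedCategory.TStructure.t.isGE_truncGE_obj _ _ _ le_rfl)
  | @step m X Y Z f g _ _ hg ih =>
      rw [Functor.map_comp]
      refine Chain.step _ _ ih (DerivedCategory.TStructure.t.isGE_truncGE_obj _ _ _ le_rfl) ?_
      intro p hp
      let t : TStructure (DerivedCategory A) := DerivedCategory.TStructure.t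
      have hY : ((t.truncGE b).obj Y).IsGE b := t.isGE_truncGE_obj _ _ _ le_rfl
      by_cases hb : p < b
      · exact (isZero_of_isGE ((t.truncGE b).obj Y) b p hb).eq_of_src _ _
      · have : Epi ((homologyFunctor A p).map ((t.truncGEπ b).app Y)) := by
          refine (HomologySequence.epi_homologyMap_mor₂_iff
            ((t.triangleLEGE (b - 1) b (by omega)).obj Y)
            (t.triangleLEGE_distinguished (b - 1) b (by omega) Y) p (p + 1)).2 ?_
          have : ((t.truncLE (b - 1)).obj Y).IsLE (b - 1) := t.isLE_truncLE_obj _ _ _ le_rfl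
          exact (isZero_of_isLE ((t.truncLE (b - 1)).obj Y) (b - 1) (p + 1) (by omega)).eq_of_tgt _ _
        rw [← cancel_epi ((homologyFunctor A p).map ((t.truncGEπ b).app Y)), comp_zero,
          ← Functor.map_comp]
        have hn : (t.truncGEπ b).app Y ≫ (t.truncGE b).map g = g ≫ (t.truncGEπ b).app Z :=
          ((t.truncGEπ b).naturality g).symm
        rw [hn, Functor.map_comp, hg p hp, zero_comp]

/-- A long enough chain of ghosts kills any map out of an object in degrees `< k`. -/
theorem Chain.comp_eq_zero {k : ℤ} (m : ℕ) :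
    ∀ (a : ℤ), k ≤ a + m → ∀ {X Y : DerivedCategory A} {f : X ⟶ Y}, Chain k a m f →
      ∀ (Z : DerivedCategory A), Z.IsLE (k - 1) → ∀ ψ : Z ⟶ X, ψ ≫ f = 0 := by
  induction m with
  | zero =>
      intro a ha X Y f h Z hZ ψ
      have := h.isGE_target
      exact DerivedCategory.TStructure.t.zero_of_isLE_of_isGE _ (k - 1) a (by omega) hZ this
  | succ m ih =>
      intro a ha X Y f h Z hZ ψ
      cases h with
      | @step _ _ Y' _ f g hc hY hg =>
          by_cases hak : k ≤ a
          · exact DerivedCategory.TStructure.t.zero_of_isLE_of_isGE _ (k - 1) a (by omega) hZ hY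
          let t : TStructure (DerivedCategory A) := DerivedCategory.TStructure.t
          have h' := ih (a + 1) (by omega) (hc.truncGE (a + 1)) Z hZ
            (ψ ≫ (t.truncGEπ (a + 1)).app X)
          rw [Category.assoc] at h'
          have hn : (t.truncGEπ (a + 1)).app X ≫ (t.truncGE (a + 1)).map f =
              f ≫ (t.truncGEπ (a + 1)).app Y' := ((t.truncGEπ (a + 1)).naturality f).symm
          rw [hn, ← Category.assoc] at h'
          obtain ⟨φ, hφ⟩ : ∃ φ : Z ⟶ (t.truncLE a).obj Y', ψ ≫ f = φ ≫ (t.truncLEι a).app Y' :=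
            Triangle.coyoneda_exact₂ _ (t.triangleLEGE_distinguished a (a + 1) rfl Y') (ψ ≫ f) h'
          rw [← Category.assoc, hφ, Category.assoc]
          have : ((t.truncLE a).obj Y').IsLE a := t.isLE_truncLE_obj _ _ _ le_rfl
          have : Y'.IsGE a := hc.isGE_target
          have : ((t.truncLE a).obj Y').IsGE a := inferInstanceAs (t.IsGE ((t.truncLE a).obj Y') a)
          rw [eq_zero_of_homology_eq_zero a ((t.truncLEι a).app Y' ≫ g)
            (by rw [Functor.map_comp, hg a (by omega), comp_zero]), comp_zero]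

/-- A map inducing a bijection in the top degree `k` has fibre in degrees `< k`. -/
lemma isLE_obj₁ (k : ℤ) (T : Triangle (DerivedCategory A)) (hT : T ∈ distTriang _)
    [T.obj₂.IsLE k] (h₃ : T.obj₃.IsGE k) (h₃' : T.obj₃.IsLE k)
    [IsIso ((homologyFunctor A k).map T.mor₂)] : T.obj₁.IsLE (k - 1) := by
  rw [isLE_iff]
  intro i hi
  have h1 : (homologyFunctor A i).map T.mor₁ = 0 := by
    refine (HomologySequence.mono_homologyMap_mor₂_iff T hT i).1 ?_
    rcases eq_or_ne i k with h | h
    · subst h; infer_instance
    · exact ⟨fun _ _ _ => (isZero_of_isLE T.obj₂ k i (by omega)).eq_of_tgt _ _⟩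
  have h2 : HomologySequence.δ T (i - 1) i (by omega) = 0 := by
    refine (HomologySequence.epi_homologyMap_mor₂_iff T hT (i - 1) i).1 ?_
    rcases eq_or_ne (i - 1) k with h | h
    · rw [h]; infer_instance
    · have hz : IsZero ((homologyFunctor A (i - 1)).obj T.obj₃) := by
        rcases lt_or_gt_of_ne h with h' | h'
        · exact isZero_of_isGE _ k _ h'
        · exact isZero_of_isLE _ k _ h'
      exact ⟨fun _ _ _ => hz.eq_of_src _ _⟩
  exact (HomologySequence.exact₁ T hT (i - 1) i).isZero_of_both_zeros h2 h1

end Groth.DerivedCoh.GhostChain
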