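import Groth.Agent.DerivedCoh.HomVanish
import Groth.Agent.Misc4.CohDRHom
import Groth.Agent.Duality.SheafHomExt
import Groth.Agent.CohTwo.AdicUnit
import Groth.Agent.CohTwo.LocFreeExt
import Groth.Agent.S0002

/-!
Finiteness of the modules of morphisms in `D(O_X)` on a proper scheme over a Noetherian ring.
-/

universe u

open CategoryTheory CategoryTheory.Limits AlgebraicGeometry HomologicalComplex Pretriangulated

namespace Groth.DerivedCoh.HomFinite

open Groth.DerivedCoh.KFlat (T IsKFlat tot totL)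

attribute [local instance] HasDerivedCategory.standard
set_option maxHeartbeats 1000000
set_option linter.style.haveILetI false

local notation "up" => ComplexShape.up ℤ

variable (A : Type u) [CommRing A] {X : Scheme.{u}} [X.Over (Spec (CommRingCat.of A))]

lemma finite_of_exact [IsNoetherianRing A] {M N P : Type*} [AddCommGroup M] [Module A M] [AddCommGroup N]
    [Module A N] [AddCommGroup P] [Module A P] (f : M →ₗ[A] N) (g : N →ₗ[A] P) (hM : Module.Finite A M)
    (hP : Module.Finite A P) (h : LinearMap.range f = LinearMap.ker g) : Module.Finite A N :=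
  haveI : IsNoetherian A M := isNoetherian_of_isNoetherianRing_of_finite A M
  haveI : IsNoetherian A P := isNoetherian_of_isNoetherianRing_of_finite A P
  haveI := isNoetherian_of_range_eq_ker f g h
  Module.IsNoetherian.finite A N

/-- maps into the middle of a triangle -/
lemma finite_hom_obj₂ [IsNoetherianRing A] (P : DCoh.D X) (T : Triangle (DCoh.D X)) (hT : T ∈ distTriang _)
    (h₁ : Module.Finite A (P ⟶ T.obj₁)) (h₃ : Module.Finite A (P ⟶ T.obj₃)) :
    Module.Finite A (P ⟶ T.obj₂) := by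
  refine finite_of_exact A (Linear.rightComp A P T.mor₁) (Linear.rightComp A P T.mor₂) h₁ h₃
    (le_antisymm ?_ ?_)
  · rintro _ ⟨g, rfl⟩
    show (g ≫ T.mor₁) ≫ T.mor₂ = 0
    rw [Category.assoc, comp_distTriang_mor_zero₁₂ T hT, comp_zero]
  · intro φ hφ
    obtain ⟨g, hg⟩ := Triangle.coyoneda_exact₂ T hT φ hφ
    exact ⟨g, hg.symm⟩

/-- maps out of `O` into shifts of a coherent module -/
theorem finite_hom_single [IsNoetherianRing A] [IsProper (X ↘ Spec (CommRingCat.of A))] (H : X.Modules)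
    (hH : Coh.IsCoh H) (m : ℤ) :
    Module.Finite A (DCoh.inD X (Coh.structureModule X) ⟶ (DCoh.inD X H)⟦m⟧) := by
  rcases lt_or_ge m 0 with hm | hm
  · haveI : Subsingleton (DCoh.inD X (Coh.structureModule X) ⟶ (DCoh.inD X H)⟦m⟧) := by
      let t := DerivedCategory.TStructure.t (C := X.Modules)
      haveI : t.IsLE (DCoh.inD X (Coh.structureModule X)) 0 :=
        inferInstanceAs (DerivedCategory.IsLE ((DerivedCategory.singleFunctor X.Modules 0).obj _) 0)
      haveI : t.IsGE ((DCoh.inD X H)⟦m⟧) (-m) :=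
        haveI : t.IsGE (DCoh.inD X H) 0 :=
          inferInstanceAs (DerivedCategory.IsGE ((DerivedCategory.singleFunctor X.Modules 0).obj H) 0)
        t.isGE_shift (DCoh.inD X H) 0 m (-m) (by omega)
      exact ⟨fun a b => (t.zero a 0 (-m) (by omega)).trans (t.zero b 0 (-m) (by omega)).symm⟩
    infer_instance
  obtain ⟨n, rfl⟩ := Int.eq_ofNat_of_zero_le hm
  haveI : HasExt.{u} X.Modules := hasExt_of_enoughInjectives _
  haveI : DCoh.HasSheafHom (Coh.structureModule X) :=
    Groth.CohTwo.LocFreeExt.hasSheafHom (Coh.structureModule X)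
  have hO : FlatMod.IsFinLocFree (Coh.structureModule X) := (Groth.DerivedCoh.Duality.dpUnit (X := X)).fl
  obtain ⟨e⟩ := Groth.Duality.SheafHom.nonempty_ext_linearEquiv A (Coh.structureModule X) hO n H
  let eS : DCoh.sheafHom (Coh.structureModule X) ≅ 𝟭 X.Modules :=
    ((DCoh.sheafHomAdj (Coh.structureModule X)).ofNatIsoLeft Groth.CohTwo.LocFreeDual.lUnit).rightAdjointUniq
      Adjunction.id
  haveI := Groth.Agent.S0002.result A X _ (Groth.QCohMod.isCoh_of_iso (eS.app H).symm hH) n
  exact Module.Finite.equiv (e.symm.trans (Abelian.Ext.homLinearEquiv (R := A)))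

/-- maps out of `O` into bounded coherent objects -/
theorem finite_hom_window [IsNoetherianRing A] [IsProper (X ↘ Spec (CommRingCat.of A))] (w : ℕ) :
    ∀ (M : DCoh.D X) (a : ℤ), DCoh.IsCohD M → M.IsGE a → M.IsLE (a + w) →
      ∀ n : ℤ, Module.Finite A (DCoh.inD X (Coh.structureModule X) ⟶ M⟦n⟧) := by
  haveI : IsLocallyNoetherian X :=
    LocallyOfFiniteType.isLocallyNoetherian (X ↘ Spec (CommRingCat.of A))
  induction w with
  | zero =>
    intro M a hc hge hle n
    haveI : M.IsGE a := hge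
    haveI : M.IsLE a := by simpa using hle
    obtain ⟨H, ⟨e⟩⟩ := DerivedCategory.exists_iso_singleFunctor_obj_of_isGE_of_isLE M a
    have hH : Coh.IsCoh H := Groth.QCohMod.isCoh_of_iso
      ((DerivedCategory.homologyFunctor _ a).mapIso e ≪≫
        (DerivedCategory.singleFunctorCompHomologyFunctorIso X.Modules a).app H) (hc a)
    haveI := finite_hom_single A H hH (n - a)
    let e' : (DCoh.inD X H)⟦n - a⟧ ≅ M⟦n⟧ :=
      ((DerivedCategory.singleFunctors X.Modules).shiftIso (n - a) (a - n) 0 (by omega)).app H ≪≫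
        (((DerivedCategory.singleFunctors X.Modules).shiftIso n (a - n) a (by omega)).app H).symm ≪≫
          (shiftFunctor _ n).mapIso e.symm
    exact Module.Finite.equiv (Linear.homCongr A (Iso.refl _) e')
  | succ w ih =>
    intro M a hc hge hle n
    let t : Triangulated.TStructure (DCoh.D X) := DerivedCategory.TStructure.t
    let T := (t.triangleLTGE (a + 1)).obj M
    have hT : T ∈ distTriang _ := t.triangleLTGE_distinguished (a + 1) M
    haveI h₁ : T.obj₁.IsLE a := t.isLE_truncLT_obj M (a + 1) a (by omega)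
    haveI h₃ : T.obj₃.IsGE (a + 1) := t.isGE_truncGE_obj M (a + 1) (a + 1) le_rfl
    have h₁z : ∀ i, a < i → IsZero ((DerivedCategory.homologyFunctor _ i).obj T.obj₁) := fun i hi =>
      DerivedCategory.isZero_of_isLE _ a i hi
    have h₃z : ∀ i, i ≤ a → IsZero ((DerivedCategory.homologyFunctor _ i).obj T.obj₃) := fun i hi =>
      DerivedCategory.isZero_of_isGE _ (a + 1) i (by omega)
    have hge₁ : T.obj₁.IsGE a := (DerivedCategory.isGE_iff _ _).2 fun i hi =>
      (DerivedCategory.HomologySequence.exact₁ T hT (i - 1) i (by omega)).isZero_of_both_zeros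
        ((h₃z (i - 1) (by omega)).eq_of_src _ _)
        ((DerivedCategory.isZero_of_isGE M a i hi).eq_of_tgt _ _)
    have hle₃ : T.obj₃.IsLE (a + (w + 1 : ℕ)) := (DerivedCategory.isLE_iff _ _).2 fun i hi =>
      (DerivedCategory.HomologySequence.exact₃ T hT i (i + 1) rfl).isZero_of_both_zeros
        ((DerivedCategory.isZero_of_isLE M (a + (w + 1 : ℕ)) i hi).eq_of_src _ _)
        ((h₁z (i + 1) (by omega)).eq_of_tgt _ _)
    have hc₁ : DCoh.IsCohD T.obj₁ := fun i => by
      rcases le_or_gt i a with hi | hi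
      · haveI : Epi ((DerivedCategory.homologyFunctor _ i).map T.mor₁) :=
          (DerivedCategory.HomologySequence.epi_homologyMap_mor₁_iff T hT i).2 ((h₃z i hi).eq_of_tgt _ _)
        haveI : Mono ((DerivedCategory.homologyFunctor _ i).map T.mor₁) :=
          (DerivedCategory.HomologySequence.mono_homologyMap_mor₁_iff T hT (i - 1) i (by omega)).2
            ((h₃z (i - 1) (by omega)).eq_of_src _ _)
        haveI := isIso_of_mono_of_epi ((DerivedCategory.homologyFunctor _ i).map T.mor₁)
        exact Groth.QCohMod.isCoh_of_iso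
          (asIso ((DerivedCategory.homologyFunctor _ i).map T.mor₁)).symm (hc i)
      · exact (Groth.Misc4.CohProperSupp.cohM X).prop_of_isZero (h₁z i hi)
    have hc₃ : DCoh.IsCohD T.obj₃ :=
      Groth.Misc4.CohDRHom.isCohD_mid T.rotate (rot_of_distTriang _ hT) hc
        (Groth.Misc4.CohDRHom.isCohD_shift hc₁ 1)
    have k₁ := ih T.obj₁ a hc₁ hge₁ (t.isLE_of_le T.obj₁ a (a + w) (by omega)) n
    have k₃ := ih T.obj₃ (a + 1) hc₃ h₃ (by rw [show a + 1 + (w : ℤ) = a + (w + 1 : ℕ) by omega]; exact hle₃) n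
    exact finite_hom_obj₂ A _ _ (Triangle.shift_distinguished T hT n) k₁ k₃

/-- tensoring with a fixed module is linear -/
lemma tensor_map_smul {M M' : X.Modules} (g : M ⟶ M') (N : X.Modules) (r : A) :
    ((T X).flip.obj N).map (r • g) = r • ((T X).flip.obj N).map g := by
  rw [KLin.smul_def, KLin.smul_def, Functor.map_comp]
  exact congrArg (· ≫ ((T X).flip.obj N).map g) (Groth.CohTwo.tensorRightMod_map_smulMod N M r)

/-- the total tensor product with a fixed complex is linear -/
lemma linear_totL (K : CochainComplex X.Modules ℤ) : (totL (T X) K).Linear A :=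
  ⟨fun {C C'} f r => HomologicalComplex.hom_ext _ _ fun n => mapBifunctor.hom_ext fun p q h => by
    rw [HomologicalComplex.smul_f_apply]
    erw [Linear.comp_smul, ι_mapBifunctorMap, ι_mapBifunctorMap]
    rw [HomologicalComplex.smul_f_apply]
    change ((T X).flip.obj (K.X q)).map (r • f.f p) ≫ _ = r • (((T X).flip.obj (K.X q)).map (f.f p) ≫ _)
    rw [tensor_map_smul, Linear.smul_comp]⟩

/-- derived tensor product with a K-flat complex is linear -/
theorem linear_ltcx (K : CochainComplex X.Modules ℤ) (hK : IsKFlat (T X) K) [DCoh.HasLTensorCx K] :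
    (DCoh.LTensorCx K).Linear A := by
  haveI := linear_totL A K
  haveI : Localization.Lifting DerivedCategory.Q (HomologicalComplex.quasiIso X.Modules up)
      (totL (T X) K ⋙ DerivedCategory.Q) (DCoh.LTensorCx K) := ⟨Groth.DerivedCoh.KFlat.ltcxNatIso K hK⟩
  exact (Localization.functor_linear_iff DerivedCategory.Q (HomologicalComplex.quasiIso _ _) A
    (totL (T X) K ⋙ DerivedCategory.Q) _).1 inferInstance

/-- `Hom(K, L[n])` is finite -/
theorem finite_hom [IsNoetherianRing A] [IsProper (X ↘ Spec (CommRingCat.of A))] {K L : DCoh.D X}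
    (hK : DCoh.IsCohD K) (b : ℤ) (hKb : K.IsLE b) (hL : DCoh.IsCohD L) (a : ℤ) (hLa : L.IsGE a) (n : ℤ) :
    Module.Finite A (K ⟶ L⟦n⟧) := by
  haveI : IsLocallyNoetherian X :=
    LocallyOfFiniteType.isLocallyNoetherian (X ↘ Spec (CommRingCat.of A))
  obtain ⟨F, ⟨eF⟩⟩ := Groth.KTheory.Perf.exists_rep K
  let K₀ := (KFlat.flatResolution X).obj F
  haveI : IsIso (DerivedCategory.Q.map ((KFlat.flatResolutionAug X).app F)) :=
    (DerivedCategory.isIso_Q_map_iff_quasiIso _ _).2 (KFlat.flatResolution_quasiIso F)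
  let eK : DCoh.toD X K₀ ≅ K :=
    asIso (DerivedCategory.Q.map ((KFlat.flatResolutionAug X).app F)) ≪≫ eF
  have hK₀ := KFlat.flatResolution_isKFlat F
  haveI := KFlat.hasLTensorCx K₀
  haveI := Groth.Misc4.HasRSheafHom.hasRSheafHom K₀ hK₀ (KFlat.flatResolution_isFlat F)
  let t : Triangulated.TStructure (DCoh.D X) := DerivedCategory.TStructure.t
  haveI : (DCoh.toD X K₀).IsLE b := haveI : t.IsLE K b := hKb; t.isLE_of_iso eK.symm b
  haveI : (L⟦n⟧).IsGE (a - n) :=
    haveI : t.IsGE L a := hLa; t.isGE_shift L a n (a - n) (by omega)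
  obtain ⟨hc, hge⟩ := Groth.Misc4.CohDRHom.isCohD_isGE_rhom K₀ b
    (Groth.Misc4.CohDRHom.isCohD_of_iso eK.symm hK) (Groth.Misc4.CohDRHom.isCohD_shift hL n) (a - n)
  let R := (DCoh.RSheafHom K₀).obj (L⟦n⟧)
  let a' := min (a - n - b) 0
  haveI hgeR : t.IsGE R (a - n - b) := hge
  haveI hge' : R.IsGE a' := t.isGE_of_ge R a' (a - n - b) (min_le_left _ _)
  -- the truncation in degrees `≤ 0`
  let Tr := (t.triangleLTGE 1).obj R
  have hT : Tr ∈ distTriang _ := t.triangleLTGE_distinguished 1 R
  haveI h₁ : Tr.obj₁.IsLE 0 := t.isLE_truncLT_obj R 1 0 (by omega)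
  haveI h₃ : Tr.obj₃.IsGE 1 := t.isGE_truncGE_obj R 1 1 le_rfl
  have hge₁ : Tr.obj₁.IsGE a' := (DerivedCategory.isGE_iff _ _).2 fun i hi =>
    (DerivedCategory.HomologySequence.exact₁ Tr hT (i - 1) i (by omega)).isZero_of_both_zeros
      ((DerivedCategory.isZero_of_isGE Tr.obj₃ 1 (i - 1) (by omega)).eq_of_src _ _)
      ((DerivedCategory.isZero_of_isGE R a' i hi).eq_of_tgt _ _)
  have hc₁ : DCoh.IsCohD Tr.obj₁ := fun i => by
    rcases le_or_gt i 0 with hi | hi
    · haveI : Epi ((DerivedCategory.homologyFunctor _ i).map Tr.mor₁) :=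
        (DerivedCategory.HomologySequence.epi_homologyMap_mor₁_iff Tr hT i).2
          ((DerivedCategory.isZero_of_isGE Tr.obj₃ 1 i (by omega)).eq_of_tgt _ _)
      haveI : Mono ((DerivedCategory.homologyFunctor _ i).map Tr.mor₁) :=
        (DerivedCategory.HomologySequence.mono_homologyMap_mor₁_iff Tr hT (i - 1) i (by omega)).2
          ((DerivedCategory.isZero_of_isGE Tr.obj₃ 1 (i - 1) (by omega)).eq_of_src _ _)
      haveI := isIso_of_mono_of_epi ((DerivedCategory.homologyFunctor _ i).map Tr.mor₁)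
      exact Groth.QCohMod.isCoh_of_iso
        (asIso ((DerivedCategory.homologyFunctor _ i).map Tr.mor₁)).symm (hc i)
    · exact (Groth.Misc4.CohProperSupp.cohM X).prop_of_isZero (DerivedCategory.isZero_of_isLE _ 0 i hi)
  let O₀ := DCoh.inD X (Coh.structureModule X)
  haveI := finite_hom_window A (-a').toNat Tr.obj₁ a' hc₁ hge₁
    (by rw [Int.toNat_of_nonneg (by omega)]; simpa using h₁) 0
  haveI : Module.Finite A (O₀ ⟶ R) := by
    refine Module.Finite.of_surjective ((Linear.rightComp A O₀ Tr.mor₁).comp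
      (Linear.homCongr A (Iso.refl O₀) ((shiftFunctorZero (DCoh.D X) ℤ).app Tr.obj₁)).toLinearMap) ?_
    intro φ
    haveI : t.IsLE O₀ 0 :=
      inferInstanceAs (DerivedCategory.IsLE ((DerivedCategory.singleFunctor X.Modules 0).obj _) 0)
    obtain ⟨g, hg⟩ := Triangle.coyoneda_exact₂ Tr hT φ (t.zero _ 0 1 (by omega))
    exact ⟨(Linear.homCongr A (Iso.refl O₀) ((shiftFunctorZero (DCoh.D X) ℤ).app Tr.obj₁)).symm g,
      (congrArg (Linear.rightComp A O₀ Tr.mor₁) (LinearEquiv.apply_symm_apply _ g)).trans hg.symm⟩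
  haveI := linear_ltcx A K₀ hK₀
  let adj := DCoh.RSheafHomAdj K₀
  haveI : (DCoh.LTensorCx K₀).Additive := Groth.Misc4.HasRSheafHom.additive_ltcx K₀ hK₀
  let Ψ : (O₀ ⟶ R) →ₗ[A] ((DCoh.LTensorCx K₀).obj O₀ ⟶ L⟦n⟧) :=
    { toFun := (adj.homEquiv O₀ (L⟦n⟧)).symm
      map_add' := fun f g => by simp [Adjunction.homEquiv_counit, Functor.map_add]
      map_smul' := fun r f => by simp [Adjunction.homEquiv_counit, Functor.map_smul] }
  haveI : Module.Finite A ((DCoh.LTensorCx K₀).obj O₀ ⟶ L⟦n⟧) :=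
    Module.Finite.of_surjective Ψ (adj.homEquiv O₀ (L⟦n⟧)).symm.surjective
  exact Module.Finite.equiv (Linear.homCongr A (Groth.Misc4.PerfectCompact.ltcxUnitIso K₀ hK₀ ≪≫ eK) (Iso.refl _))

end Groth.DerivedCoh.HomFinite
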