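import Groth.Agent.Misc4.QCohTildeD
import Groth.Agent.Misc4.PerfectCompact
import Groth.Agent.Misc4.QCohDRHom
import Groth.Agent.CohTwo.ExtStructure
import Groth.Agent.DerivedCoh.RelAmp.External
import Groth.Agent.DerivedCoh.PushPull.Adjunction
import Groth.Agent.DerivedCoh.PushPull.FinitePush
import Groth.Agent.S0998

/-!
Vanishing of morphisms from perfect objects to quasi-coherent objects in very low degrees.
-/

universe u

open CategoryTheory CategoryTheory.Limits AlgebraicGeometry HomologicalComplex Pretriangulated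

namespace Groth.DerivedCoh.HomVanish

open Groth.DerivedCoh.KFlat (T IsKFlat tot)
open Groth.KTheory.Perf (Rd exists_rep nonempty_hdRd isZero_of_local isPerfect_of_iso)

attribute [local instance] HasDerivedCategory.standard
set_option maxHeartbeats 1000000
set_option linter.style.haveILetI false

local notation "up" => ComplexShape.up ℤ

variable {X : Scheme.{u}}

/-- on an affine scheme, maps `O ⟶ M` vanish when `H⁰ M = 0` -/
theorem hom_structure_eq_zero_affine (R : CommRingCat.{u}) {M : DCoh.D (Spec R)} (hM : DCoh.IsQCohD M)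
    (h0 : IsZero (DCoh.HD M 0)) (φ : DCoh.inD (Spec R) (Coh.structureModule (Spec R)) ⟶ M) : φ = 0 := by
  obtain ⟨e⟩ := Groth.CohTwo.ExtStructure.nonempty_freeOn_top_iso (Spec R)
  let s := (shiftFunctorZero (DCoh.D (Spec R)) ℤ).app M
  let e' := (DerivedCategory.singleFunctor (Spec R).Modules 0).mapIso e
  have h := Groth.Misc4.QCohTildeD.eq_zero M hM 0 h0 (e'.hom ≫ φ ≫ s.inv)
  have h' : e'.inv ≫ (e'.hom ≫ φ ≫ s.inv) ≫ s.hom = φ := by simp
  refine h'.symm.trans ((congrArg (fun t => e'.inv ≫ t ≫ s.hom) h).trans ?_)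
  exact (congrArg (fun t => e'.inv ≫ t) zero_comp).trans comp_zero

/-- `O_X` in degree zero as the image of its complex -/
noncomputable def unitIso (X : Scheme.{u}) : DCoh.toD X (DerSch.unitCx X) ≅ DCoh.inD X (Coh.structureModule X) :=
  ((DerivedCategory.singleFunctorIsoCompQ X.Modules 0).app _).symm

/-- on a qcqs scheme maps `O ⟶ M` vanish for quasi-coherent `M` in very low degrees -/
theorem exists_hom_structure_eq_zero [CompactSpace X] [QuasiSeparatedSpace X] :
    ∃ e : ℤ, ∀ M : DCoh.D X, DCoh.IsQCohD M → M.IsLE e →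
      ∀ φ : DCoh.inD X (Coh.structureModule X) ⟶ M, φ = 0 := by
  let π : X ⟶ Spec (CommRingCat.of (ULift.{u} ℤ)) := specULiftZIsTerminal.from X
  haveI : QuasiCompact π := HasAffineProperty.iff_of_isAffine.mpr ‹CompactSpace X›
  haveI : QuasiSeparated π := HasAffineProperty.iff_of_isAffine.mpr ‹QuasiSeparatedSpace X›
  haveI := PushPull.hasRpush π
  haveI := KFlat.hasLpull π
  obtain ⟨N, -, hN⟩ := Groth.Misc4.QCohCd.exists_isZero_HD π
  refine ⟨-N - 1, fun M hM hle φ => ?_⟩
  let adj := PushPull.lpullRpushAdj π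
  let eO : (DCoh.Lpull π).obj (DCoh.inD _ (Coh.structureModule _)) ≅
      DCoh.inD X (Coh.structureModule X) :=
    (DCoh.Lpull π).mapIso (unitIso _).symm ≪≫ KFlat.lpullQIso π _ (RelAmp.isKFlat_unitCx _) ≪≫
      DerivedCategory.Q.mapIso (RelAmp.pullUnitCxIso π) ≪≫ unitIso X
  have h := hom_structure_eq_zero_affine _ (Groth.Agent.S0998.result π M hM)
    (hN M hM _ hle 0 (by omega)) (adj.homEquiv _ _ (eO.hom ≫ φ))
  have h2 : eO.hom ≫ φ = 0 := by
    haveI : PreservesLimitsOfSize.{0, 0} (DCoh.Rpush π) := adj.rightAdjoint_preservesLimits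
    haveI : (DCoh.Rpush π).Additive := Functor.additive_of_preserves_binary_products _
    haveI : (DCoh.Lpull π).Additive := adj.left_adjoint_additive
    exact (adj.homAddEquiv _ _).injective (h.trans (map_zero _).symm)
  rw [← cancel_epi eO.hom, h2, comp_zero]

/-- tensoring with a complex living in degrees `≤ c` shifts upper bounds by `c` -/
lemma isStrictlyLE_tot (M P : CochainComplex X.Modules ℤ) (a c : ℤ) [M.IsStrictlyLE a]
    (hP : ∀ q, c < q → IsZero (P.X q)) : (tot (T X) M P).IsStrictlyLE (a + c) := by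
  rw [CochainComplex.isStrictlyLE_iff]
  intro n hn
  rw [IsZero.iff_id_eq_zero]
  refine mapBifunctor.hom_ext fun p q h => ?_
  have h' : p + q = n := h
  rcases lt_or_ge a p with hp | hp
  · exact (((T X).flip.obj (P.X q)).map_isZero (M.isZero_of_isStrictlyLE a p hp)).eq_of_src _ _
  · exact (((T X).obj (M.X p)).map_isZero (hP q (by omega))).eq_of_src _ _

/-- `RHom(K, -)` raises upper bounds by a uniform amount, for perfect `K` -/
theorem exists_bound_le [CompactSpace X] (K : CochainComplex X.Modules ℤ) [DCoh.HasLTensorCx K]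
    (hK : IsKFlat (T X) K) (hKp : DCoh.IsPerfect (DCoh.toD X K)) [DCoh.HasRSheafHom K] :
    ∃ c : ℤ, ∀ (a : ℤ) (M : DCoh.D X), M.IsLE a → ((DCoh.RSheafHom K).obj M).IsLE (a + c) := by
  choose V E δ hδ hx e using fun x : X => Groth.DerivedCoh.Duality.exists_local_rhom K hK hKp x
  obtain ⟨t, ht⟩ := isCompact_univ.elim_finite_subcover (fun x => (V x : Set X)) (fun x => (V x).2)
    (fun x _ => Set.mem_iUnion.2 ⟨x, hx x⟩)
  obtain ⟨c, hc⟩ := (t.image fun x => (δ x).hi).bddAbove
  refine ⟨c, fun a M hM => (DerivedCategory.isLE_iff _ _).2 fun i hi => isZero_of_local fun y => ?_⟩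
  obtain ⟨x, hxt, hy⟩ := Set.mem_iUnion₂.1 (ht (Set.mem_univ y))
  refine ⟨V x, hy, ?_⟩
  haveI := hδ x
  obtain ⟨h⟩ := nonempty_hdRd (V x).ι ((DCoh.RSheafHom K).obj M) i
  refine IsZero.of_iso ?_ h.symm
  haveI hMV : ((Rd (V x).ι).obj M).IsLE a := (DerivedCategory.isLE_iff _ _).2 fun k hk => by
    obtain ⟨h'⟩ := nonempty_hdRd (V x).ι M k
    exact ((Scheme.Modules.restrictFunctor (V x).ι).map_isZero
      ((DerivedCategory.isLE_iff M a).1 hM k hk)).of_iso h'
  obtain ⟨N, hN, ⟨eN⟩⟩ := DerivedCategory.exists_iso_Q_obj_of_isLE ((Rd (V x).ι).obj M) a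
  haveI := hN
  haveI := isStrictlyLE_tot N (δ x).V a c fun q hq => (δ x).zero q (by
    have := hc (Finset.mem_image_of_mem (fun x => (δ x).hi) hxt)
    simp only [Finset.mem_Icc]; omega)
  haveI hle : (DerivedCategory.Q.obj (tot (T _) N (δ x).V)).IsLE (a + c) := by
    exact ⟨_, Iso.refl _, inferInstance⟩
  refine IsZero.of_iso (DerivedCategory.isZero_of_isLE (DerivedCategory.Q.obj (tot (T _) N (δ x).V))
    (a + c) i hi) ((DerivedCategory.homologyFunctor _ i).mapIso ?_)
  exact (e x).some.app M ≪≫ (DCoh.LTensorCx (δ x).V).mapIso eN ≪≫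
    Groth.DerivedCoh.KFlat.ltcxIso (δ x).V
      (Groth.DerivedCoh.PCoh.isKFlat_of_isStrictlyPerfect (δ x).isStrictlyPerfect) N

/-- maps from a perfect object to quasi-coherent objects in very low degrees vanish -/
theorem exists_hom_eq_zero_low [CompactSpace X] [QuasiSeparatedSpace X] {K : DCoh.D X}
    (hK : DCoh.IsPerfect K) :
    ∃ e : ℤ, ∀ M : DCoh.D X, DCoh.IsQCohD M → M.IsLE e → ∀ φ : K ⟶ M, φ = 0 := by
  obtain ⟨F, ⟨eF⟩⟩ := exists_rep K
  let K₀ := (KFlat.flatResolution X).obj F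
  haveI : IsIso (DerivedCategory.Q.map ((KFlat.flatResolutionAug X).app F)) :=
    (DerivedCategory.isIso_Q_map_iff_quasiIso _ _).2 (KFlat.flatResolution_quasiIso F)
  let eK : DCoh.toD X K₀ ≅ K :=
    asIso (DerivedCategory.Q.map ((KFlat.flatResolutionAug X).app F)) ≪≫ eF
  have hK₀ := KFlat.flatResolution_isKFlat F
  haveI := KFlat.hasLTensorCx K₀
  haveI := Groth.Misc4.HasRSheafHom.hasRSheafHom K₀ hK₀ (KFlat.flatResolution_isFlat F)
  have hp : DCoh.IsPerfect (DCoh.toD X K₀) := isPerfect_of_iso eK.symm hK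
  obtain ⟨e, he⟩ := exists_hom_structure_eq_zero (X := X)
  obtain ⟨c, hc⟩ := exists_bound_le K₀ hK₀ hp
  refine ⟨e - c, fun M hM hle φ => ?_⟩
  let adj := DCoh.RSheafHomAdj K₀
  let eU := Groth.Misc4.PerfectCompact.ltcxUnitIso K₀ hK₀
  haveI : (DCoh.LTensorCx K₀).Additive := Groth.Misc4.HasRSheafHom.additive_ltcx K₀ hK₀
  have hle' := hc _ M hle
  rw [sub_add_cancel] at hle'
  have h := he _ (Groth.Misc4.QCohDPerf.isQCohD_rhom K₀ hp hM) hle'
    (adj.homEquiv _ M (eU.hom ≫ eK.hom ≫ φ))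
  have h2 : eU.hom ≫ eK.hom ≫ φ = 0 := (adj.homAddEquiv _ M).injective (h.trans (map_zero _).symm)
  rw [← cancel_epi eK.hom, ← cancel_epi eU.hom, h2, comp_zero, comp_zero]

end Groth.DerivedCoh.HomVanish
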