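import Groth.Agent.DerivedCoh.HomVanish
import Groth.Agent.KTheory.RelPCBounded

/-!
Morphisms from shifts of perfect objects and truncations.
-/

universe u

open CategoryTheory CategoryTheory.Limits AlgebraicGeometry HomologicalComplex Pretriangulated

namespace Groth.DerivedCoh.HomVanish

attribute [local instance] HasDerivedCategory.standard
set_option linter.style.haveILetI false

variable {X : Scheme.{u}}

/-- truncations of objects with quasi-coherent cohomology have quasi-coherent cohomology -/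
theorem isQCohD_truncs (T : Triangle (DCoh.D X)) (hT : T ∈ distTriang _) (a : ℤ)
    (h₁ : T.obj₁.IsLE (a - 1)) (h₃ : T.obj₃.IsGE a) (h₂ : DCoh.IsQCohD T.obj₂) :
    DCoh.IsQCohD T.obj₁ ∧ DCoh.IsQCohD T.obj₃ := by
  have h₁z : ∀ i, a ≤ i → IsZero ((DerivedCategory.homologyFunctor _ i).obj T.obj₁) := fun i hi =>
    DerivedCategory.isZero_of_isLE _ (a - 1) i (by omega)
  have h₃z : ∀ i, i < a → IsZero ((DerivedCategory.homologyFunctor _ i).obj T.obj₃) := fun i hi =>
    DerivedCategory.isZero_of_isGE _ a i hi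
  refine ⟨fun i => ?_, fun i => ?_⟩
  · rcases lt_or_ge i a with hi | hi
    · haveI : Epi ((DerivedCategory.homologyFunctor _ i).map T.mor₁) :=
        (DerivedCategory.HomologySequence.epi_homologyMap_mor₁_iff T hT i).2 ((h₃z i hi).eq_of_tgt _ _)
      haveI : Mono ((DerivedCategory.homologyFunctor _ i).map T.mor₁) :=
        (DerivedCategory.HomologySequence.mono_homologyMap_mor₁_iff T hT (i - 1) i (by omega)).2
          ((h₃z (i - 1) (by omega)).eq_of_src _ _)
      haveI := isIso_of_mono_of_epi ((DerivedCategory.homologyFunctor _ i).map T.mor₁)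
      exact (Groth.QCohMod.isQCoh_iff_of_iso
        (asIso ((DerivedCategory.homologyFunctor _ i).map T.mor₁))).2 (h₂ i)
    · exact Groth.Misc4.QCohDPerf.isQCoh_isZero (h₁z i hi)
  · rcases lt_or_ge i a with hi | hi
    · exact Groth.Misc4.QCohDPerf.isQCoh_isZero (h₃z i hi)
    · haveI : Mono ((DerivedCategory.homologyFunctor _ i).map T.mor₂) :=
        (DerivedCategory.HomologySequence.mono_homologyMap_mor₂_iff T hT i).2 ((h₁z i hi).eq_of_src _ _)
      haveI : Epi ((DerivedCategory.homologyFunctor _ i).map T.mor₂) :=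
        (DerivedCategory.HomologySequence.epi_homologyMap_mor₂_iff T hT i (i + 1) rfl).2
          ((h₁z (i + 1) (by omega)).eq_of_tgt _ _)
      haveI := isIso_of_mono_of_epi ((DerivedCategory.homologyFunctor _ i).map T.mor₂)
      exact (Groth.QCohMod.isQCoh_iff_of_iso
        (asIso ((DerivedCategory.homologyFunctor _ i).map T.mor₂))).1 (h₂ i)

/-- morphisms out of a shift as morphisms into a shift -/
theorem eq_zero_of_shift {P M : DCoh.D X} (n : ℤ) (h : ∀ ψ : P ⟶ M⟦-n⟧, ψ = 0) (φ : P⟦n⟧ ⟶ M) : φ = 0 := by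
  let e := (shiftFunctorCompIsoId (DCoh.D X) n (-n) (add_neg_cancel n)).app P
  apply (shiftFunctor (DCoh.D X) (-n)).map_injective
  rw [Functor.map_zero, ← cancel_epi e.inv, comp_zero]
  exact h _

/-- maps from shifts of a perfect object to low quasi-coherent objects vanish -/
theorem exists_shift_hom_eq_zero_low [CompactSpace X] [QuasiSeparatedSpace X] {P : DCoh.D X}
    (hP : DCoh.IsPerfect P) :
    ∃ e : ℤ, ∀ (M : DCoh.D X) (c n : ℤ), DCoh.IsQCohD M → M.IsLE c → c + n ≤ e →
      ∀ φ : P⟦n⟧ ⟶ M, φ = 0 := by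
  obtain ⟨e, he⟩ := exists_hom_eq_zero_low hP
  refine ⟨e, fun M c n hM hle hn φ => eq_zero_of_shift n (fun ψ => ?_) φ⟩
  refine he _ (Groth.Misc4.QCohDPerf.isQCohD_shift hM _) ?_ ψ
  have : (M⟦-n⟧).IsLE (c + n) :=
    (DerivedCategory.TStructure.t (C := X.Modules)).isLE_shift M c (-n) (c + n) (by omega)
  exact (DerivedCategory.TStructure.t (C := X.Modules)).isLE_of_le (M⟦-n⟧) (c + n) e hn

/-- maps from shifts of a perfect object to high objects vanish -/
theorem exists_shift_hom_eq_zero_high [CompactSpace X] {P : DCoh.D X} (hP : DCoh.IsPerfect P) :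
    ∃ b : ℤ, ∀ (M : DCoh.D X) (c n : ℤ), M.IsGE c → b < c + n → ∀ φ : P⟦n⟧ ⟶ M, φ = 0 := by
  obtain ⟨C, ⟨eC⟩⟩ := Groth.KTheory.Perf.exists_rep P
  obtain ⟨b, hb⟩ := Groth.KTheory.RelPC.exists_isZero_homology
    (PCoh.isPseudoCoherentD_of_iso eC.symm (PCoh.isPseudoCoherentD_of_isPerfect hP 0))
  have hle : P.IsLE b := (DerivedCategory.isLE_iff _ _).2 fun i hi =>
    ((hb i hi).of_iso ((DerivedCategory.homologyFunctorFactors _ i).app C)).of_iso
      ((DerivedCategory.homologyFunctor _ i).mapIso eC.symm)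
  let t := DerivedCategory.TStructure.t (C := X.Modules)
  refine ⟨b, fun M c n hM hn φ => ?_⟩
  haveI : t.IsLE (P⟦n⟧) (b - n) := haveI : t.IsLE P b := hle; t.isLE_shift P b n (b - n) (by omega)
  haveI : t.IsGE M c := hM
  exact t.zero φ (b - n) c (by omega)

end Groth.DerivedCoh.HomVanish
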