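import Mathlib.Algebra.Homology.DerivedCategory.KInjective
import Mathlib.Algebra.Homology.DerivedCategory.TStructure
import Mathlib.Algebra.Homology.DerivedCategory.RightDerivedFunctorPlus
import Mathlib.Algebra.Homology.Homotopy

/-!
An object of injective amplitude `≤ m` receives no nonzero map from objects in degrees `> m`.
-/

set_option autoImplicit false

universe w v u

open CategoryTheory CategoryTheory.Limits HomologicalComplex

namespace Groth.DerivedCoh.InjDimGE

variable {A : Type u} [Category.{v} A] [Abelian A]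

/-- If the cycles above degree `m` are split boundaries, maps from complexes in degrees `> m` are
null-homotopic. -/
lemma homotopy_zero_of_split (I : CochainComplex A ℤ) (m : ℤ)
    (c : ∀ i j : ℤ, I.cycles i ⟶ I.X j)
    (hc : ∀ i j : ℤ, j + 1 = i → m < i → c i j ≫ I.d j i = I.iCycles i)
    (K : CochainComplex A ℤ) [K.IsStrictlyGE (m + 1)] (φ : K ⟶ I) : Nonempty (Homotopy φ 0) := by
  let w : ∀ i k : ℤ, I.X i ⟶ I.X i := fun i k => 𝟙 _ - I.toCycles i k ≫ c k i
  have hw : ∀ i k : ℤ, i + 1 = k → m < i → w i k ≫ I.d i k = 0 := by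
    intro i k hk hi
    simp only [w, Preadditive.sub_comp, Category.id_comp, Category.assoc,
      hc k i hk (by omega), toCycles_i, sub_self]
  let r : ∀ i j : ℤ, I.X i ⟶ I.X j := fun i j =>
    if hi : m < i then
      I.liftCycles (w i (i + 1)) (i + 1) (CochainComplex.next ℤ i) (hw i (i + 1) rfl hi) ≫ c i j
    else 0
  have hr : ∀ i : ℤ, m < i →
      r i (i - 1) ≫ I.d (i - 1) i + I.d i (i + 1) ≫ r (i + 1) i = 𝟙 _ := by
    intro i hi
    have e1 : r i (i - 1) ≫ I.d (i - 1) i = w i (i + 1) := by
      simp only [r, dif_pos hi, Category.assoc, hc i (i - 1) (by omega) hi, liftCycles_i]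
    have e2 : I.d i (i + 1) ≫
        I.liftCycles (w (i + 1) (i + 1 + 1)) (i + 1 + 1) (CochainComplex.next ℤ (i + 1))
          (hw (i + 1) (i + 1 + 1) rfl (by omega)) = I.toCycles i (i + 1) := by
      rw [← cancel_mono (I.iCycles (i + 1)), Category.assoc, liftCycles_i, toCycles_i]
      simp only [w, Preadditive.comp_sub, Category.comp_id]
      rw [← Category.assoc, show I.d i (i + 1) ≫ I.toCycles (i + 1) (i + 1 + 1) = 0 from by
        rw [← cancel_mono (I.iCycles (i + 1 + 1)), Category.assoc, toCycles_i, I.d_comp_d,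
          zero_comp], zero_comp, sub_zero]
    rw [e1]
    simp only [r, dif_pos (show m < i + 1 by omega), ← Category.assoc, e2, w]
    exact sub_add_cancel _ _
  refine ⟨{ hom := fun i j => if j + 1 = i then φ.f i ≫ r i j else 0
            zero := fun i j hij => if_neg hij
            comm := fun i => ?_ }⟩
  rw [dNext_eq _ (show (ComplexShape.up ℤ).Rel i (i + 1) from rfl),
    prevD_eq _ (show (ComplexShape.up ℤ).Rel (i - 1) i by simp),
    if_pos rfl, if_pos (show i - 1 + 1 = i by omega), HomologicalComplex.zero_f_apply, add_zero,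
    ← Category.assoc, ← φ.comm i (i + 1)]
  by_cases hi : m < i
  · rw [Category.assoc, Category.assoc, ← Preadditive.comp_add, add_comm, hr i hi, Category.comp_id]
  · have h0 : φ.f i = 0 := (K.isZero_of_isStrictlyGE (m + 1) i (by omega)).eq_of_src _ _
    rw [h0, zero_comp, zero_comp, zero_comp, zero_comp, add_zero]

variable [HasDerivedCategory.{w} A] [EnoughInjectives A]

open DerivedCategory in
/-- Objects of injective amplitude `≤ m` receive no maps from objects in degrees `> m`. -/
theorem subsingleton_hom (L : DerivedCategory A) (a : ℤ) [L.IsGE a] (m : ℤ)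
    (hL : ∀ (F : A) (i : ℤ), m < i → Subsingleton ((singleFunctor A i).obj F ⟶ L))
    (K : DerivedCategory A) [K.IsGE (m + 1)] : Subsingleton (K ⟶ L) := by
  obtain ⟨L₀, hL₀, ⟨eL⟩⟩ := exists_iso_Q_obj_of_isGE L a
  obtain ⟨I, ι, hι, hI, hIge⟩ :=
    CochainComplex.Plus.modelCategoryQuillen.exists_quasiIso_injective L₀ a
  have : ∀ n, Injective (I.X n) := hI
  have : IsIso (Q.map ι) := (isIso_Q_map_iff_quasiIso (φ := ι)).2 hι
  let e : L ≅ Q.obj I := eL ≪≫ asIso (Q.map ι)
  have : I.IsKInjective := CochainComplex.isKInjective_of_injective I a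
  have hc : ∀ i j : ℤ, ∃ c : I.cycles i ⟶ I.X j, j + 1 = i → m < i → c ≫ I.d j i = I.iCycles i := by
    intro i j
    by_cases hij : j + 1 = i ∧ m < i
    swap
    · exact ⟨0, fun h1 h2 => absurd ⟨h1, h2⟩ hij⟩
    let ψ : (single A (ComplexShape.up ℤ) i).obj (I.cycles i) ⟶ I :=
      mkHomFromSingle (I.iCycles i) (fun k _ => I.iCycles_d i k)
    let eS : (singleFunctor A i).obj (I.cycles i) ≅
        Q.obj ((single A (ComplexShape.up ℤ) i).obj (I.cycles i)) :=
      (singleFunctorIsoCompQ A i).app (I.cycles i)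
    have hψ : Q.map ψ = 0 := by
      have := hL (I.cycles i) i hij.2
      rw [← cancel_epi eS.hom, ← cancel_mono e.inv, Category.assoc]
      exact Subsingleton.elim _ _
    have h0 : (HomotopyCategory.quotient A (ComplexShape.up ℤ)).map ψ = 0 := by
      apply (CochainComplex.IsKInjective.Qh_map_bijective _ I).injective
      have hn := (quotientCompQhIso A).hom.naturality ψ
      rw [Functor.comp_map, hψ, comp_zero] at hn
      rw [Functor.map_zero]
      exact Preadditive.IsIso.comp_right_eq_zero _ ((quotientCompQhIso A).hom.app I) |>.1 hn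
    let H := HomotopyCategory.homotopyOfEq ψ 0 (h0.trans (Functor.map_zero _ _ _).symm)
    refine ⟨(singleObjXSelf _ i _).inv ≫ H.hom i j, fun _ _ => ?_⟩
    have hc := H.comm i
    have hd : ((single A (ComplexShape.up ℤ) i).obj (I.cycles i)).d i (i + 1) = 0 := single_obj_d ..
    rw [dNext_eq _ (show (ComplexShape.up ℤ).Rel i (i + 1) from rfl),
      prevD_eq _ (show (ComplexShape.up ℤ).Rel j i from hij.1), hd, zero_comp, zero_add,
      HomologicalComplex.zero_f_apply, add_zero, mkHomFromSingle_f] at hc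
    rw [Category.assoc, ← hc, Iso.inv_hom_id_assoc]
  choose c hc using hc
  obtain ⟨K₀, hK₀, ⟨eK⟩⟩ := exists_iso_Q_obj_of_isGE K (m + 1)
  refine subsingleton_of_forall_eq 0 fun f => ?_
  obtain ⟨g, hg⟩ := (CochainComplex.IsKInjective.Qh_map_bijective
    ((HomotopyCategory.quotient A (ComplexShape.up ℤ)).obj K₀) I).surjective
    ((quotientCompQhIso A).hom.app K₀ ≫ eK.inv ≫ f ≫ e.hom ≫ (quotientCompQhIso A).inv.app I)
  obtain ⟨φ, rfl⟩ := (HomotopyCategory.quotient A (ComplexShape.up ℤ)).map_surjective g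
  obtain ⟨H⟩ := homotopy_zero_of_split I m c hc K₀ φ
  rw [HomotopyCategory.eq_of_homotopy _ _ H, Functor.map_zero, Functor.map_zero] at hg
  rw [← cancel_epi eK.inv, ← cancel_mono e.hom, ← cancel_mono ((quotientCompQhIso A).inv.app I),
    ← cancel_epi ((quotientCompQhIso A).hom.app K₀)]
  simpa using hg.symm

end Groth.DerivedCoh.InjDimGE
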