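import Mathlib.CategoryTheory.Localization.Triangulated
import Mathlib.CategoryTheory.Triangulated.Subcategory

/-!
The kernel of a Verdier localization.
-/

universe v u v' u'

namespace Groth.DerivedCoh.LocKernel

open CategoryTheory CategoryTheory.Limits CategoryTheory.Pretriangulated ZeroObject

variable {D : Type u} [Category.{v} D] [Preadditive D] [HasZeroObject D] [HasShift D ℤ]
  [∀ n : ℤ, (shiftFunctor D n).Additive] [Pretriangulated D]
  (S : MorphismProperty D) [S.HasLeftCalculusOfFractions]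

lemma isZero_Q_iff_post (Z : D) : IsZero (S.Q.obj Z) ↔ ∃ Z' : D, S (0 : Z ⟶ Z') := by
  constructor
  · intro h
    obtain ⟨Z', s, hs, he⟩ := (MorphismProperty.map_eq_iff_postcomp S.Q S (0 : Z ⟶ Z) (𝟙 Z)).1
      (h.eq_of_src _ _)
    rw [zero_comp, Category.id_comp] at he
    exact ⟨Z', he ▸ hs⟩
  · rintro ⟨Z', h⟩
    have := Localization.inverts S.Q S _ h
    rw [IsZero.iff_id_eq_zero, ← cancel_mono (S.Q.map (0 : Z ⟶ Z')), zero_comp, Category.id_comp,
      Functor.map_zero]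

lemma isZero_Q_iff_pre [S.HasRightCalculusOfFractions] (Z : D) :
    IsZero (S.Q.obj Z) ↔ ∃ Z' : D, S (0 : Z' ⟶ Z) := by
  constructor
  · intro h
    obtain ⟨Z', s, hs, he⟩ := (MorphismProperty.map_eq_iff_precomp S.Q S (0 : Z ⟶ Z) (𝟙 Z)).1
      (h.eq_of_src _ _)
    rw [comp_zero, Category.comp_id] at he
    exact ⟨Z', he ▸ hs⟩
  · rintro ⟨Z', h⟩
    have := Localization.inverts S.Q S _ h
    rw [IsZero.iff_id_eq_zero, ← cancel_epi (S.Q.map (0 : Z' ⟶ Z)), comp_zero, Category.comp_id,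
      Functor.map_zero]

lemma isZero_iff {E : Type u'} [Category.{v'} E] (Q : D ⥤ E) [Q.IsLocalization S] (Z : D) :
    IsZero (Q.obj Z) ↔ IsZero (S.Q.obj Z) :=
  ⟨fun h => IsZero.of_full_of_faithful_of_isZero (Localization.uniq S.Q Q S).functor _
      (h.of_iso ((Localization.compUniqFunctor S.Q Q S).app Z)),
    fun h => by
      have e := (Localization.compUniqInverse S.Q Q S).app Z
      exact IsZero.of_full_of_faithful_of_isZero (Localization.uniq S.Q Q S).inverse _ (h.of_iso e)⟩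

lemma isIso_iff {E : Type u'} [Category.{v'} E] (Q : D ⥤ E) [Q.IsLocalization S] {X Y : D}
    (f : X ⟶ Y) : IsIso (Q.map f) ↔ IsIso (S.Q.map f) := by
  have e := Localization.compUniqFunctor S.Q Q S
  rw [← isIso_iff_of_reflects_iso (S.Q.map f) (Localization.uniq S.Q Q S).functor]
  exact (NatIso.isIso_map_iff e f).symm

variable [S.IsCompatibleWithTriangulation]

lemma isZero_obj₃ (T : Triangle D) (hT : T ∈ distTriang D) (h : S T.mor₁) :
    IsZero (S.Q.obj T.obj₃) := by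
  obtain ⟨c, hc, -, -⟩ := MorphismProperty.compatible_with_triangulation (W := S) T
    (contractibleTriangle T.obj₂) hT (contractible_distinguished _) T.mor₁ (𝟙 _) h (S.id_mem _)
    rfl
  exact (S.Q.map_isZero (isZero_zero D)).of_iso (Localization.isoOfHom S.Q S c hc)

lemma isZero_biprod_left {Z Z' : D} (h : IsZero (S.Q.obj (Z ⊞ Z'))) : IsZero (S.Q.obj Z) := by
  rw [IsZero.iff_id_eq_zero, ← S.Q.map_id, ← (biprod.inl_fst : (biprod.inl : Z ⟶ Z ⊞ Z') ≫ _ = _),
    Functor.map_comp, h.eq_of_src (S.Q.map biprod.fst) 0, comp_zero]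

variable [S.HasRightCalculusOfFractions]

lemma isZero_Q_iff_triangle (Z : D) : IsZero (S.Q.obj Z) ↔
    ∃ (Z' X Y : D) (f : X ⟶ Y) (g : Y ⟶ Z ⊞ Z') (h : Z ⊞ Z' ⟶ X⟦(1 : ℤ)⟧),
      Triangle.mk f g h ∈ distTriang D ∧ S f := by
  constructor
  · intro hZ
    obtain ⟨Z', hs⟩ := (isZero_Q_iff_pre S Z).1 hZ
    obtain ⟨W, g, h, hT⟩ := distinguished_cocone_triangle (0 : Z' ⟶ Z)
    obtain ⟨e, -, -⟩ := exists_iso_binaryBiproduct_of_distTriang _ (rot_of_distTriang _ hT)
      (show -((0 : Z' ⟶ Z)⟦(1 : ℤ)⟧') = 0 by rw [Functor.map_zero, neg_zero])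
    let e' : W ≅ Z ⊞ Z'⟦(1 : ℤ)⟧ := e
    refine ⟨Z'⟦(1 : ℤ)⟧, Z', Z, 0, g ≫ e'.hom, e'.inv ≫ h, isomorphic_distinguished _ hT _ ?_, hs⟩
    refine Triangle.isoMk _ _ (Iso.refl _) (Iso.refl _) e'.symm ?_ ?_ ?_
    · exact (Category.comp_id _).trans (Category.id_comp _).symm
    · exact (Category.assoc _ _ _).trans ((congrArg (g ≫ ·) e'.hom_inv_id).trans
        ((Category.comp_id _).trans (Category.id_comp _).symm))
    · exact (congrArg ((e'.inv ≫ h) ≫ ·) ((shiftFunctor D (1 : ℤ)).map_id _)).trans (Category.comp_id _)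
  · rintro ⟨Z', X, Y, f, g, h, hT, hf⟩
    exact isZero_biprod_left S (isZero_obj₃ S _ hT hf)

lemma isIso_iff_isZero (T : Triangle D) (hT : T ∈ distTriang D) :
    IsIso (S.Q.map T.mor₁) ↔ IsZero (S.Q.obj T.obj₃) :=
  (Triangle.isZero₃_iff_isIso₁ _ (S.Q.map_distinguished T hT)).symm

end Groth.DerivedCoh.LocKernel
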