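import Groth.Agent.DerivedCoh.Duality.Braid
import Groth.Agent.DerivedCoh.KFlat.LTensorGen
import Groth.Agent.KTheory.PerfFree
import Mathlib.Algebra.Homology.BifunctorShift

/-!
Devissage of `E ⊗^L M` along a bounded complex `E` of finite free modules, and the local shape of
`K ⊗^L M` for perfect `K`.
-/

universe u

open CategoryTheory CategoryTheory.Limits CategoryTheory.Pretriangulated AlgebraicGeometry HomologicalComplex

namespace Groth.DerivedCoh.TotInduction

open Groth.DerivedCoh.KFlat (T IsKFlat tot totL)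
open Groth.DerivedCoh.ExtZero (resCx)
open Groth.KTheory.Perf (Rd rdQIso)

attribute [local instance] HasDerivedCategory.standard

variable {X : Scheme.{u}}

local notation "up" => ComplexShape.up ℤ

/-- a property of objects closed under isomorphisms, zero, shifts and extensions -/
structure Closed (Φ : DCoh.D X → Prop) : Prop where
  iso : ∀ {A B : DCoh.D X}, (A ≅ B) → Φ A → Φ B
  zero : ∀ {A : DCoh.D X}, IsZero A → Φ A
  shift : ∀ {A : DCoh.D X} (n : ℤ), Φ A → Φ (A⟦n⟧)
  ext : ∀ {T : Triangle (DCoh.D X)}, T ∈ distinguishedTriangles → Φ T.obj₁ → Φ T.obj₃ → Φ T.obj₂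

variable {Φ : DCoh.D X → Prop} (hΦ : Closed Φ) (M : CochainComplex X.Modules ℤ)

include hΦ

lemma ses {S : ShortComplex (CochainComplex X.Modules ℤ)} (hS : S.ShortExact)
    (h₁ : Φ (DCoh.toD X S.X₁)) (h₃ : Φ (DCoh.toD X S.X₃)) : Φ (DCoh.toD X S.X₂) :=
  hΦ.ext (DerivedCategory.triangleOfSES_distinguished hS) h₁ h₃

lemma tot_zero {A : CochainComplex X.Modules ℤ} (h : ∀ p, IsZero (A.X p)) :
    Φ (DCoh.toD X (tot (T X) A M)) := by
  refine hΦ.zero (DerivedCategory.Q.map_isZero ?_)
  rw [IsZero.iff_id_eq_zero]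
  refine HomologicalComplex.hom_ext _ _ fun n => mapBifunctor.hom_ext fun p q _ => ?_
  exact (((T X).flip.obj (M.X q)).map_isZero (h p)).eq_of_src _ _

lemma single_unit (hM : Φ (DCoh.toD X M)) (j : ℤ) :
    Φ (DCoh.toD X (tot (T X) ((single X.Modules up j).obj (Coh.structureModule X)) M)) := by
  let S₀ := (single X.Modules up 0).obj (Coh.structureModule X)
  let e₁ : (single X.Modules up j).obj (Coh.structureModule X) ≅ S₀⟦-j⟧ :=
    (((CochainComplex.singleFunctors X.Modules).shiftIso (-j) j 0 (by omega)).app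
      (Coh.structureModule X)).symm
  let e₂ : DCoh.toD X (tot (T X) S₀ M) ≅ DCoh.toD X M :=
    DerivedCategory.Q.mapIso (Duality.brIso S₀ M ≪≫ Duality.totUnitIso (P := M))
  exact hΦ.iso ((DerivedCategory.Q.commShiftIso (-j)).symm.app _ ≪≫
      DerivedCategory.Q.mapIso ((CochainComplex.mapBifunctorShift₁Iso S₀ M (T X) (-j)).symm ≪≫
        (totL (T X) M).mapIso e₁.symm))
    (hΦ.shift (-j) (hΦ.iso e₂.symm hM))

lemma single_free (hM : Φ (DCoh.toD X M)) (j : ℤ) : ∀ n : ℕ,
    Φ (DCoh.toD X (tot (T X) ((single X.Modules up j).obj (FlatMod.freeMod X n)) M))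
  | 0 => by
    refine tot_zero hΦ M fun p => ?_
    have hz : IsZero (FlatMod.freeMod X 0) := by
      rw [IsZero.iff_id_eq_zero]
      exact Sigma.hom_ext _ _ fun i => i.elim0
    exact ((eval X.Modules up p).map_isZero ((single X.Modules up j).map_isZero hz))
  | n + 1 => by
    let O := Coh.structureModule X
    let ι := fun i => Sigma.ι (fun _ : Fin (n + 1) => O) i
    let S : ShortComplex X.Modules := ShortComplex.mk (X₁ := O) (X₂ := FlatMod.freeMod X (n + 1))
      (X₃ := FlatMod.freeMod X n) (ι 0)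
      (Sigma.desc (Fin.cases 0 fun i => Sigma.ι (fun _ : Fin n => O) i))
      (by exact Sigma.ι_desc _ _)
    let sp : S.Splitting :=
      { r := Sigma.desc (Fin.cases (𝟙 O) fun _ => 0)
        s := Sigma.desc fun i => ι i.succ
        f_r := Sigma.ι_desc _ _
        s_g := Sigma.hom_ext _ _ fun i => by
          rw [Sigma.ι_desc_assoc]
          exact (Sigma.ι_desc _ _).trans (Category.comp_id _).symm
        id := Sigma.hom_ext _ _ fun i => by
          rw [Preadditive.comp_add, ← Category.assoc, ← Category.assoc]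
          erw [Sigma.ι_desc, Sigma.ι_desc]
          induction i using Fin.cases with
          | zero => simp only [Fin.cases_zero, zero_comp, add_zero, Category.id_comp]
                    exact (Category.comp_id _).symm
          | succ i => simp only [Fin.cases_succ, zero_comp, zero_add]
                      erw [Sigma.ι_desc]
                      exact (Category.comp_id _).symm }
    have hS : ((S.map (single X.Modules up j)).map (totL (T X) M)).ShortExact :=
      KFlat.shortExact_totL (T X) M _ fun p q =>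
        (((sp.map (single X.Modules up j)).map (eval X.Modules up p)).map
          ((T X).flip.obj (M.X q))).shortExact
    exact ses hΦ hS (single_unit hΦ M hM j) (single_free hM j n)

/-- `E ⊗ M` for a bounded complex `E` of finite free modules -/
theorem tot_free (hM : Φ (DCoh.toD X M)) (E : CochainComplex X.Modules ℤ) {a b : ℤ}
    (hab : DCoh.VanishesOutside E a b)
    (hfree : ∀ i, ∃ n : ℕ, Nonempty (E.X i ≅ FlatMod.freeMod X n)) :
    Φ (DCoh.toD X (tot (T X) E M)) := by
  have hge : ∀ (d : ℕ) (k : ℤ), b < k + d → Φ (DCoh.toD X (tot (T X) (KFlat.ge E k) M)) := by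
    intro d
    induction d with
    | zero =>
      intro k hk
      refine tot_zero hΦ M fun p => ?_
      by_cases hp : k ≤ p
      · exact (hab p (.inr (by omega))).of_iso (@asIso _ _ _ _ (KFlat.geι E k p) (KFlat.isIso_geι E hp))
      · exact KFlat.isZero_geX E (by omega)
    | succ d ih =>
      intro k hk
      have hS : ((KFlat.geSC E k).map (totL (T X) M)).ShortExact :=
        KFlat.shortExact_totL (T X) M _ fun p q =>
          ((KFlat.geSplitting E k p).map ((T X).flip.obj (M.X q))).shortExact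
      refine ses hΦ hS (ih (k + 1) (by omega)) ?_
      obtain ⟨n, ⟨e⟩⟩ := hfree k
      let e' : tot (T X) ((single X.Modules up k).obj (FlatMod.freeMod X n)) M ≅
          tot (T X) ((single X.Modules up k).obj (E.X k)) M :=
        (totL (T X) M).mapIso ((single X.Modules up k).mapIso e.symm)
      have h₃ : Φ (DCoh.toD X (tot (T X) ((single X.Modules up k).obj (E.X k)) M)) :=
        hΦ.iso (DerivedCategory.Q.mapIso e') (single_free hΦ M hM k n)
      exact h₃
  haveI : ∀ p, IsIso ((KFlat.geHom E a).f p) := fun p => by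
    by_cases hp : a ≤ p
    · exact KFlat.isIso_geι E hp
    · exact ⟨0, (KFlat.isZero_geX E (by omega)).eq_of_src _ _,
        (hab p (.inl (by omega))).eq_of_src _ _⟩
  haveI : IsIso (KFlat.geHom E a) := HomologicalComplex.Hom.isIso_of_components _
  let e' : tot (T X) (KFlat.ge E a) M ≅ tot (T X) E M :=
    (totL (T X) M).mapIso (asIso (KFlat.geHom E a))
  exact hΦ.iso (DerivedCategory.Q.mapIso e') (hge (b + 1 - a).toNat a (by omega))

omit hΦ

/-- near every point, `K ⊗^L M` for perfect `K` is `E ⊗ M` with `E` bounded finite free -/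
theorem exists_local_model (K : DCoh.D X) (hK : DCoh.IsPerfect K) [DCoh.HasLTensorCx M] (x : X) :
    ∃ (V : X.Opens) (E : CochainComplex (V : Scheme.{u}).Modules ℤ) (a b : ℤ), x ∈ V ∧
      DCoh.VanishesOutside E a b ∧ (∀ i, ∃ n : ℕ, Nonempty (E.X i ≅ FlatMod.freeMod V n)) ∧
      Nonempty ((Rd V.ι).obj ((DCoh.LTensorCx M).obj K) ≅
        DCoh.toD _ (tot (T (V : Scheme.{u})) E ((resCx V.ι).obj M))) := by
  obtain ⟨C, ⟨eC⟩⟩ := Groth.KTheory.Perf.exists_rep K
  let C' := (KFlat.flatResolution X).obj C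
  have hC' : IsKFlat (T X).flip C' := KFlat.flatResolution_isKFlat_flip C
  have hq : QuasiIso ((KFlat.flatResolutionAug X).app C) := KFlat.flatResolution_quasiIso C
  let eC' : DCoh.toD X C' ≅ K :=
    asIso (DerivedCategory.Q.map ((KFlat.flatResolutionAug X).app C)) ≪≫ eC
  obtain ⟨V, hx, hV⟩ := (Groth.KTheory.Perf.isPerfect_iff_free K).1 hK x
  obtain ⟨E, a, b, hab, hfree, ⟨e⟩⟩ := hV C' ⟨eC'⟩
  refine ⟨V, E, a, b, hx, hab, hfree, ?_⟩
  let M' := (resCx V.ι).obj M
  haveI := KFlat.hasLTensorCx M'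
  have hEf : IsKFlat (T (V : Scheme.{u})).flip E :=
    KFlat.isKFlat_of_flat _ E b (fun q hq => hab q (.inr hq)) fun q => by
      obtain ⟨n, ⟨f⟩⟩ := hfree q
      exact KFlat.flat_flip_of_isFlat (Groth.CohTwo.isFlat_of_iso f
        (PCoh.isFlat_of_isFinLocFree (Groth.LocFree.isFinLocFree_freeMod _ n)))
  have hCV := Duality.isKFlat_flip_resCx V.ι hC'
  exact ⟨(Rd V.ι).mapIso ((DCoh.LTensorCx M).mapIso eC'.symm ≪≫
      @asIso _ _ _ _ ((KFlat.ltcxCounit M).app C') (KFlat.isIso_ltcxCounit_app M C' hC')) ≪≫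
    rdQIso V.ι _ ≪≫ DerivedCategory.Q.mapIso (Duality.rtR C' V.ι M).symm ≪≫
    (@asIso _ _ _ _ ((KFlat.ltcxCounit M').app _) (KFlat.isIso_ltcxCounit_app M' _ hCV)).symm ≪≫
    (DCoh.LTensorCx M').mapIso e ≪≫
    @asIso _ _ _ _ ((KFlat.ltcxCounit M').app E) (KFlat.isIso_ltcxCounit_app M' E hEf)⟩

end Groth.DerivedCoh.TotInduction
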