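import Groth.Agent.DerivedCoh.StalkAmp.Basic
import Groth.Agent.DAlg.TorAmp
import Groth.Prelude.Def_DerSch
import Groth.Prelude.Def_DCoh3
import Groth.Agent.KTheory.PerfHomotopy

/-!
Tor amplitude relative to a base scheme, stalkwise and via representatives.

`RelAmp.AmpAt f a b K x`: the stalk of `K` at `x` has tor amplitude `[a, b]` over `O_{S, f x}`.
`RelAmp.locHasFiniteRelTorDim_iff`: for flat `f`, `DCoh.LocHasFiniteRelTorDim f K` is equivalent to
the stalkwise condition `RelAmp.LocAmp f K`, which is visibly triangulated and closed under retracts.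
-/

universe u

open CategoryTheory CategoryTheory.Limits CategoryTheory.Pretriangulated AlgebraicGeometry HomologicalComplex
open scoped TensorProduct

namespace Groth.DerivedCoh.RelAmp

open Groth.DerivedCoh.KFlat (stk)
open Groth.KTheory.Perf (Rd Rc rdQIso)

attribute [local instance] HasDerivedCategory.standard

variable {X U S : Scheme.{u}} (f : X ⟶ S)

local notation "up" => ComplexShape.up ℤ

instance (x : X) : PreservesFiniteLimits (DerSch.stalkOver f x) :=
  have : PreservesFiniteLimits (ModuleCat.restrictScalars.{u} (f.stalkMap x).hom) := inferInstance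
  have : PreservesFiniteLimits (DerSch.stalkFunctor X x) := inferInstanceAs (PreservesFiniteLimits (stk x))
  comp_preservesFiniteLimits _ _

instance (x : X) : PreservesFiniteColimits (DerSch.stalkOver f x) :=
  have : PreservesFiniteColimits (ModuleCat.restrictScalars.{u} (f.stalkMap x).hom) := inferInstance
  have : PreservesFiniteColimits (DerSch.stalkFunctor X x) := inferInstanceAs (PreservesFiniteColimits (stk x))
  comp_preservesFiniteColimits _ _

/-- the stalk over the base, on derived categories -/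
noncomputable abbrev relD (x : X) : DCoh.D X ⥤ Dual.D (S.presheaf.stalk (f.base x)) :=
  (DerSch.stalkOver f x).mapDerivedCategory

/-- the stalk over the base, computed on complexes -/
noncomputable def relDQ (x : X) (F : CochainComplex X.Modules ℤ) :
    (relD f x).obj (DCoh.toD X F) ≅ DRing.toD ((DerSch.stalkCxOver f x).obj F) :=
  (DerSch.stalkOver f x).mapDerivedCategoryFactors.app F

/-- tor amplitude of the stalk at `x` over the local ring of the base -/
def AmpAt (a b : ℤ) (K : DCoh.D X) (x : X) : Prop :=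
  DRing.HasTorAmplitudeIn (S.presheaf.stalk (f.base x)) a b ((relD f x).obj K)

variable {f} {a b : ℤ} {K L : DCoh.D X}

lemma AmpAt.of_iso {x : X} (h : AmpAt f a b K x) (e : K ≅ L) : AmpAt f a b L x :=
  Groth.DAlg.TorAmp.of_iso h ((relD f x).mapIso e)

lemma AmpAt.mono {x : X} (h : AmpAt f a b K x) {a' b' : ℤ} (ha : a' ≤ a) (hb : b ≤ b') :
    AmpAt f a' b' K x :=
  Groth.DAlg.TorAmp.mono h ha hb

lemma ampAt_toD_iff (F : CochainComplex X.Modules ℤ) (a b : ℤ) (x : X) :
    AmpAt f a b (DCoh.toD X F) x ↔ DerSch.HasTorAmplitudeAt f a b F x :=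
  ⟨fun h => Groth.DAlg.TorAmp.of_iso h (relDQ f x F), fun h => Groth.DAlg.TorAmp.of_iso h (relDQ f x F).symm⟩

lemma hasTorAmplitude_iff (F : CochainComplex X.Modules ℤ) (a b : ℤ) :
    DerSch.HasTorAmplitude f a b F ↔ ∀ x, AmpAt f a b (DCoh.toD X F) x :=
  forall_congr' fun x => (ampAt_toD_iff F a b x).symm

lemma AmpAt.shift {x : X} (h : AmpAt f a b K x) (n : ℤ) : AmpAt f (a - n) (b - n) (K⟦n⟧) x :=
  Groth.DAlg.TorAmp.of_iso (Groth.DAlg.TorAmp.shift h n) (((relD f x).commShiftIso n).app K).symm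

lemma AmpAt.of_isZero {x : X} (h : IsZero K) (a b : ℤ) : AmpAt f a b K x :=
  Groth.DAlg.TorAmp.of_isZero ((relD f x).map_isZero h) a b

lemma AmpAt.ext {T : Triangle (DCoh.D X)} (hT : T ∈ distinguishedTriangles) {x : X}
    (h₁ : AmpAt f a b T.obj₁ x) (h₃ : AmpAt f a b T.obj₃ x) : AmpAt f a b T.obj₂ x :=
  Groth.DAlg.TorAmp.ext (T := (relD f x).mapTriangle.obj T) ((relD f x).map_distinguished T hT) h₁ h₃

lemma AmpAt.retract {x : X} (s : K ⟶ L) (r : L ⟶ K) (hsr : s ≫ r = 𝟙 K) (h : AmpAt f a b L x) :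
    AmpAt f a b K x :=
  Groth.DAlg.TorAmp.retract ((relD f x).map s) ((relD f x).map r)
    (by rw [← Functor.map_comp, hsr, CategoryTheory.Functor.map_id]) h

/-- a module flat over the base has flat stalks over the local rings of the base -/
lemma flat_stalkOver {M : X.Modules} (h : FlatMod.IsFlatOver f M) (x : X) :
    Module.Flat (S.presheaf.stalk (f.base x)) ((DerSch.stalkOver f x).obj M) := h x

lemma isFlatOver_of_flat_stalkOver {M : X.Modules}
    (h : ∀ x, Module.Flat (S.presheaf.stalk (f.base x)) ((DerSch.stalkOver f x).obj M)) :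
    FlatMod.IsFlatOver f M := h

lemma isFlatOver_of_isFlat [Flat f] {M : X.Modules} (hM : FlatMod.IsFlat M) :
    FlatMod.IsFlatOver f M := by
  intro x
  let := (f.stalkMap x).hom.toAlgebra
  let := FlatMod.moduleStalkOver f M x
  have : IsScalarTower (S.presheaf.stalk (f x)) (X.presheaf.stalk x) (M.presheaf.stalk x) :=
    .of_algebraMap_smul fun _ _ => rfl
  have : Module.Flat (S.presheaf.stalk (f x)) (X.presheaf.stalk x) := Flat.stalkMap f x
  have : Module.Flat (X.presheaf.stalk x) (M.presheaf.stalk x) := hM x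
  exact Module.Flat.trans (S.presheaf.stalk (f x)) (X.presheaf.stalk x) (M.presheaf.stalk x)

lemma isFlatOver_of_isZero {M : X.Modules} (h : IsZero M) : FlatMod.IsFlatOver f M :=
  isFlatOver_of_flat_stalkOver fun x => by
    have := ModuleCat.subsingleton_of_isZero ((DerSch.stalkOver f x).map_isZero h)
    infer_instance

lemma isFlatOver_of_iso {M N : X.Modules} (e : M ≅ N) (h : FlatMod.IsFlatOver f M) :
    FlatMod.IsFlatOver f N :=
  isFlatOver_of_flat_stalkOver fun x =>
    have := flat_stalkOver h x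
    Module.Flat.of_linearEquiv ((DerSch.stalkOver f x).mapIso e).toLinearEquiv.symm

theorem ampAt_of_relFlatAmp (h : DCoh.HasRelFlatAmplitudeIn f a b K) (x : X) : AmpAt f a b K x := by
  obtain ⟨E, h0, hf, ⟨e⟩⟩ := h
  refine AmpAt.of_iso ((ampAt_toD_iff E a b x).2 ?_) e
  exact ⟨(DerSch.stalkCxOver f x).obj E, fun i hi => (DerSch.stalkOver f x).map_isZero (h0 i hi),
    fun i => flat_stalkOver (hf i) x, ⟨Iso.refl _⟩⟩

lemma exactAt_of_ampAt (F : CochainComplex X.Modules ℤ) {i : ℤ} (hi : i < a ∨ b < i)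
    (h : ∀ x, AmpAt f a b (DCoh.toD X F) x) : F.ExactAt i := by
  refine StalkAmp.exactAt_of_stalk F i fun x => ?_
  have hs := Groth.DAlg.TorAmp.subsingleton_HD ((ampAt_toD_iff F a b x).1 (h x)) hi
  have hz : ((DerSch.stalkCxOver f x).obj F).ExactAt i :=
    (exactAt_iff_isZero_homology _ i).2 (Groth.DAlg.isZero_homology_of_subsingleton hs)
  rw [exactAt_iff] at hz ⊢
  exact (ShortComplex.exact_map_iff_of_faithful (((StalkAmp.stkCx x).obj F).sc i)
    (ModuleCat.restrictScalars (f.stalkMap x).hom)).1 hz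

theorem relFlatAmp_of_ampAt [Flat f] (h : ∀ x, AmpAt f a b K x) :
    DCoh.HasRelFlatAmplitudeIn f a b K := by
  obtain ⟨C, ⟨eC⟩⟩ : ∃ C : CochainComplex X.Modules ℤ, Nonempty (DCoh.toD X C ≅ K) :=
    ⟨_, ⟨DerivedCategory.Q.objObjPreimageIso K⟩⟩
  have h' : ∀ x, AmpAt f a b (DCoh.toD X C) x := fun x => (h x).of_iso eC.symm
  by_cases hab : a ≤ b
  swap
  · have hC : C.Acyclic := fun i => exactAt_of_ampAt C (show i < a ∨ b < i by omega) h'
    let Z : CochainComplex X.Modules ℤ := HomologicalComplex.zero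
    let z : C ⟶ Z := 0
    have : QuasiIso z := ⟨fun i => (quasiIsoAt_iff_exactAt z i (hC i)).2
      (HomologicalComplex.ExactAt.of_isZero (isZero_zero X.Modules))⟩
    exact ⟨HomologicalComplex.zero, fun i _ => isZero_zero X.Modules,
      fun i => isFlatOver_of_isZero (isZero_zero X.Modules),
      ⟨(asIso (DerivedCategory.Q.map z)).symm ≪≫ eC⟩⟩
  have hC : C.IsLE b := (CochainComplex.isLE_iff C b).2 fun i hi => exactAt_of_ampAt C (.inr hi) h'
  let C' := C.truncLE b
  have h0 : ∀ p, b < p → IsZero (C'.X p) := fun p hp => C'.isZero_of_isStrictlyLE b p hp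
  have := (KFlat.schemeCover X).quasiIso_resAug C' b h0
  let P := (KFlat.schemeCover X).res.obj C'
  let β : P ⟶ C := (KFlat.schemeCover X).resAug.app C' ≫ C.ιTruncLE b
  have hP0 : ∀ p, b < p → IsZero (P.X p) := (KFlat.schemeCover X).res_X_zero C' b h0
  have hPf : ∀ n, FlatMod.IsFlatOver f (P.X n) := fun n => isFlatOver_of_isFlat
    ((KFlat.schemeCover X).res_X_prop FlatMod.IsFlat KFlat.isFlat_coverObj
      (fun _ => KFlat.isFlat_of_isZero)
      (fun e h => Groth.CohTwo.isFlat_of_iso e.symm h) KFlat.isFlat_sigma₀ C' n)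
  have hβ : QuasiIso β := by dsimp [β]; infer_instance
  let eP : DCoh.toD X P ≅ DCoh.toD X C := asIso (DerivedCategory.Q.map β)
  have hPa : ∀ x, AmpAt f a b (DCoh.toD X P) x := fun x => (h' x).of_iso eP.symm
  have : P.IsGE a := (CochainComplex.isGE_iff P a).2 fun i hi => exactAt_of_ampAt P (.inl hi) hPa
  refine ⟨P.truncGE a, fun i hi => ?_, fun i => ?_,
    ⟨(asIso (DerivedCategory.Q.map (P.πTruncGE a))).symm ≪≫ eP ≪≫ eC⟩⟩
  · rcases hi with hi | hi
    · exact (P.truncGE a).isZero_of_isStrictlyGE a i hi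
    · exact (P.truncGEXIso a i (by omega)).isZero_iff.2 (hP0 i hi)
  · rcases lt_trichotomy i a with hi | rfl | hi
    · exact isFlatOver_of_isZero ((P.truncGE a).isZero_of_isStrictlyGE a i hi)
    · refine isFlatOver_of_iso (P.truncGEXIsoOpcycles i ≪≫
        IsColimit.coconePointUniqueUpToIso (P.opcyclesIsCokernel (i - 1) i (by simp))
          (cokernelIsCokernel _)).symm (isFlatOver_of_flat_stalkOver fun x => ?_)
      let Q := (DerSch.stalkCxOver f x).obj P
      have hQf : ∀ j, Module.Flat _ (Q.X j) := fun j => flat_stalkOver (hPf j) x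
      have hflat := Groth.DAlg.flat_coker_of_isZero Q i fun M =>
        Groth.DAlg.isZero_of_torAmplitude Q (b' := b)
          (fun p hp => (DerSch.stalkOver f x).map_isZero (hP0 p hp)) hQf
          ((ampAt_toD_iff P i b x).1 (hPa x)) M (i - 1) (.inl (by omega))
      have : Module.Flat (S.presheaf.stalk (f.base x)) (ModuleCat.of (S.presheaf.stalk (f.base x))
          (((DerSch.stalkOver f x).obj (P.X i)) ⧸
          LinearMap.range ((DerSch.stalkOver f x).map (P.d (i - 1) i)).hom)) := hflat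
      exact Module.Flat.of_linearEquiv
        (PreservesCokernel.iso (DerSch.stalkOver f x) (P.d (i - 1) i) ≪≫
          ModuleCat.cokernelIsoRangeQuotient _).toLinearEquiv
    · exact isFlatOver_of_iso (P.truncGEXIso a i hi).symm (hPf i)

theorem relFlatAmp_iff [Flat f] (K : DCoh.D X) (a b : ℤ) :
    DCoh.HasRelFlatAmplitudeIn f a b K ↔ ∀ x, AmpAt f a b K x :=
  ⟨fun h => ampAt_of_relFlatAmp h, relFlatAmp_of_ampAt⟩

section restrict

/-- extension along a bijective ring map is restriction along its inverse -/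
noncomputable def unitIsoOfBijective {A B : Type u} [CommRing A] [CommRing B] (g : A →+* B)
    (hg : Function.Bijective g) :
    𝟭 (ModuleCat.{u} A) ≅ ModuleCat.extendScalars.{u, u, u} g ⋙ ModuleCat.restrictScalars g :=
  have : ∀ M, IsIso ((ModuleCat.extendRestrictScalarsAdj.{u, u, u} g).unit.app M) := fun M => by
    rw [ConcreteCategory.isIso_iff_bijective]
    letI := g.toAlgebra
    let e : A ≃ₗ[A] B := LinearEquiv.ofBijective (Algebra.linearMap A B) hg
    let e' : M ≃ₗ[A] TensorProduct A B M :=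
      (TensorProduct.lid A M).symm ≪≫ₗ TensorProduct.congr e (LinearEquiv.refl A M)
    change Function.Bijective fun m : M => (1 : B) ⊗ₜ[A] m
    convert e'.bijective using 1
    funext m
    simp [e', e]
  have := NatIso.isIso_of_isIso_app (ModuleCat.extendRestrictScalarsAdj.{u, u, u} g).unit
  asIso (ModuleCat.extendRestrictScalarsAdj.{u, u, u} g).unit

variable (j : U ⟶ X) [IsOpenImmersion j] (v : U)

/-- stalks over the base commute with restriction -/
noncomputable def stalkOverRestrictIso (f : X ⟶ S) :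
    DerSch.stalkOver f (j v) ≅ Scheme.Modules.restrictFunctor j ⋙ DerSch.stalkOver (j ≫ f) v :=
  have h : (StalkAmp.stalkInv j v).comp ((j ≫ f).stalkMap v).hom = (f.stalkMap (j v)).hom := by
    rw [Scheme.Hom.stalkMap_comp, ← CommRingCat.hom_comp]
    congr 1
    erw [Category.assoc, IsIso.hom_inv_id, Category.comp_id]
  Functor.isoWhiskerRight (StalkAmp.stkRestrictIso j v).symm _ ≪≫ Functor.associator _ _ _ ≪≫
    Functor.isoWhiskerLeft (Scheme.Modules.restrictFunctor j) (Functor.associator _ _ _ ≪≫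
      Functor.isoWhiskerLeft (stk v)
        ((Functor.isoWhiskerLeft _ (ModuleCat.restrictScalarsComp' _ _ _ h.symm)) ≪≫
          (Functor.associator _ _ _).symm ≪≫
          Functor.isoWhiskerRight (unitIsoOfBijective (StalkAmp.stalkInv j v)
            (ConcreteCategory.bijective_of_isIso (inv (j.stalkMap v)))).symm _ ≪≫
          Functor.leftUnitor _))

theorem ampAt_rd_iff (f : X ⟶ S) (K : DCoh.D X) (a b : ℤ) :
    AmpAt (j ≫ f) a b ((Rd j).obj K) v ↔ AmpAt f a b K (j v) := by
  obtain ⟨C, ⟨eC⟩⟩ : ∃ C : CochainComplex X.Modules ℤ, Nonempty (DCoh.toD X C ≅ K) :=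
    ⟨_, ⟨DerivedCategory.Q.objObjPreimageIso K⟩⟩
  let e : DRing.toD ((DerSch.stalkCxOver f (j v)).obj C) ≅
      DRing.toD ((DerSch.stalkCxOver (j ≫ f) v).obj ((Rc j).obj C)) :=
    DerivedCategory.Q.mapIso (HomologicalComplex.Hom.isoOfComponents
      (fun i => (stalkOverRestrictIso j v f).app (C.X i))
      fun i k _ => ((stalkOverRestrictIso j v f).hom.naturality (C.d i k)).symm)
  let e' : (relD f (j v)).obj K ≅ (relD (j ≫ f) v).obj ((Rd j).obj K) :=
    (relD f (j v)).mapIso eC.symm ≪≫ relDQ f (j v) C ≪≫ e ≪≫ (relDQ (j ≫ f) v _).symm ≪≫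
      (relD (j ≫ f) v).mapIso ((rdQIso j C).symm ≪≫ (Rd j).mapIso eC)
  exact ⟨fun h => Groth.DAlg.TorAmp.of_iso h e'.symm, fun h => Groth.DAlg.TorAmp.of_iso h e'⟩

end restrict

/-- locally of finite tor amplitude over the base, stalkwise -/
def LocAmp (f : X ⟶ S) (K : DCoh.D X) : Prop :=
  ∀ x : X, ∃ (V : X.Opens) (a b : ℤ), x ∈ V ∧ ∀ y ∈ V, AmpAt f a b K y

theorem LocAmp.of_iso (h : LocAmp f K) (e : K ≅ L) : LocAmp f L := fun x => by
  obtain ⟨V, a, b, hx, hV⟩ := h x
  exact ⟨V, a, b, hx, fun y hy => (hV y hy).of_iso e⟩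

theorem LocAmp.ext {T : Triangle (DCoh.D X)} (hT : T ∈ distinguishedTriangles)
    (h₁ : LocAmp f T.obj₁) (h₃ : LocAmp f T.obj₃) : LocAmp f T.obj₂ := fun x => by
  obtain ⟨V, a, b, hx, hV⟩ := h₁ x
  obtain ⟨W, c, d, hx', hW⟩ := h₃ x
  exact ⟨V ⊓ W, min a c, max b d, ⟨hx, hx'⟩, fun y hy => AmpAt.ext hT
    ((hV y hy.1).mono (min_le_left _ _) (le_max_left _ _))
    ((hW y hy.2).mono (min_le_right _ _) (le_max_right _ _))⟩

theorem LocAmp.shift (h : LocAmp f K) (n : ℤ) : LocAmp f (K⟦n⟧) := fun x => by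
  obtain ⟨V, a, b, hx, hV⟩ := h x
  exact ⟨V, a - n, b - n, hx, fun y hy => (hV y hy).shift n⟩

theorem LocAmp.of_isZero (h : IsZero K) : LocAmp f K := fun x =>
  ⟨⊤, 0, 0, trivial, fun _ _ => AmpAt.of_isZero h 0 0⟩

theorem LocAmp.retract (s : K ⟶ L) (r : L ⟶ K) (hsr : s ≫ r = 𝟙 K) (h : LocAmp f L) : LocAmp f K :=
  fun x => by
    obtain ⟨V, a, b, hx, hV⟩ := h x
    exact ⟨V, a, b, hx, fun y hy => AmpAt.retract s r hsr (hV y hy)⟩

/-- finite tor dimension over the base, by representatives, is stalkwise finite tor amplitude -/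
theorem locHasFiniteRelTorDim_iff [Flat f] (K : DCoh.D X) :
    DCoh.LocHasFiniteRelTorDim f K ↔ LocAmp f K := by
  refine ⟨fun h x => ?_, fun h x => ?_⟩
  · obtain ⟨V, a, b, hx, hV⟩ := h x
    obtain ⟨F, ⟨i⟩⟩ := Groth.KTheory.Perf.exists_rep K
    refine ⟨V, a, b, hx, fun y hy => ?_⟩
    exact AmpAt.of_iso ((ampAt_rd_iff V.ι ⟨y, hy⟩ f _ a b).1
      (AmpAt.of_iso (ampAt_of_relFlatAmp (hV F ⟨i⟩) ⟨y, hy⟩) (rdQIso V.ι F).symm)) i
  · obtain ⟨V, a, b, hx, hV⟩ := h x
    refine ⟨V, a, b, hx, fun F ⟨i⟩ => relFlatAmp_of_ampAt fun v => ?_⟩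
    exact AmpAt.of_iso ((ampAt_rd_iff V.ι v f (DCoh.toD X F) a b).2
      ((hV v.1 v.2).of_iso i.symm)) (rdQIso V.ι F)

theorem locFiniteTorAmplitude_iff (F : CochainComplex X.Modules ℤ) :
    DerSch.LocFiniteTorAmplitude f F ↔ LocAmp f (DCoh.toD X F) :=
  forall_congr' fun x => exists_congr fun V => exists_congr fun a => exists_congr fun b =>
    and_congr_right fun _ => forall_congr' fun y => imp_congr_right fun _ =>
      (ampAt_toD_iff F a b y).symm

end Groth.DerivedCoh.RelAmp
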