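import Groth.Agent.DerivedCoh.RelPerfectAffine
import Groth.Agent.DerivedCoh.PCoh.Pullback
import Groth.Agent.S0997
import Groth.Agent.S1055
import Groth.Agent.S7075
import Groth.Agent.S7240
import Groth.Agent.Misc4.QCohDPerf
import Groth.Agent.PropsBasic2.TildeExact

/-!
Base change of relative perfection.
-/

universe u

open CategoryTheory CategoryTheory.Limits AlgebraicGeometry
open scoped TensorProduct

namespace Groth.DerivedCoh.RelPerfectBC

open Groth.DerivedCoh Groth.DerivedCoh.PCoh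
open Groth.DerivedCoh.RelAmp (AmpAt LocAmp)
open Groth.KTheory.Perf (Rd Rc rdQIso exists_rep)
open Groth.DerivedCoh.KFlat (T IsKFlat)

attribute [local instance] HasDerivedCategory.standard

local notation "up" => ComplexShape.up ℤ

variable {X Y U W : Scheme.{u}}

/-- inverse images commute with restriction along a square -/
noncomputable def pullSquareIso (g : X ⟶ Y) (h : U ⟶ X) [IsOpenImmersion h] (j : W ⟶ Y)
    [IsOpenImmersion j] (q : U ⟶ W) (w : h ≫ g = q ≫ j) :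
    Scheme.Modules.pullback g ⋙ Scheme.Modules.restrictFunctor h ≅
      Scheme.Modules.restrictFunctor j ⋙ Scheme.Modules.pullback q :=
  Functor.isoWhiskerLeft _ (Scheme.Modules.restrictFunctorIsoPullback _) ≪≫
    Scheme.Modules.pullbackComp _ _ ≪≫ Scheme.Modules.pullbackCongr w ≪≫
    (Scheme.Modules.pullbackComp _ _).symm ≪≫
    Functor.isoWhiskerRight (Scheme.Modules.restrictFunctorIsoPullback _).symm _

/-- restricting `Lg^*` along a square -/
theorem nonempty_rd_Lpull_square (g : X ⟶ Y) [DCoh.HasLpull g] (h : U ⟶ X) [IsOpenImmersion h]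
    (j : W ⟶ Y) [IsOpenImmersion j] (q : U ⟶ W) [DCoh.HasLpull q] (w : h ≫ g = q ≫ j) (K : DCoh.D Y) :
    Nonempty ((Rd h).obj ((DCoh.Lpull g).obj K) ≅ (DCoh.Lpull q).obj ((Rd j).obj K)) := by
  obtain ⟨F, ⟨e⟩⟩ := exists_rep K
  have := KFlat.flatResolution_quasiIso F
  let P := (KFlat.flatResolution Y).obj F
  have hP : IsKFlat (T Y) P := KFlat.flatResolution_isKFlat F
  let eP : DCoh.toD Y P ≅ K :=
    asIso (DerivedCategory.Q.map ((KFlat.flatResolutionAug Y).app F)) ≪≫ e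
  exact ⟨(Rd _).mapIso ((DCoh.Lpull g).mapIso eP.symm ≪≫ KFlat.lpullQIso g P hP) ≪≫ rdQIso _ _ ≪≫
    DerivedCategory.Q.mapIso ((NatIso.mapHomologicalComplex (pullSquareIso g h j q w) up).app P) ≪≫
    (KFlat.lpullQIso q ((Rc j).obj P) (isKFlat_rc j hP)).symm ≪≫
    (DCoh.Lpull q).mapIso ((rdQIso j P).symm ≪≫ (Rd j).mapIso eP)⟩

/-- pseudo-coherent objects have quasi-coherent cohomology -/
theorem isQCohD_of_pc {E : DCoh.D X} (hE : ∀ m : ℤ, DCoh.IsPseudoCoherentD m E) : DCoh.IsQCohD E :=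
  fun i => (Groth.Agent.S7240.result (i - 1) E (hE _)).1 i (by omega)

/-- base change of relative perfection -/
theorem relPerfect_baseChange {S S' : Scheme.{u}} (f : X ⟶ S) [Flat f] [LocallyOfFinitePresentation f]
    (g : S' ⟶ S) [DCoh.HasLpull (pullback.fst f g)] (K : DCoh.D X)
    (hpc : ∀ m : ℤ, DCoh.IsPseudoCoherentD m K) (hamp : LocAmp f K) :
    LocAmp (pullback.snd f g) ((DCoh.Lpull (pullback.fst f g)).obj K) := by
  intro x'
  obtain ⟨V, hV, hxV, -⟩ := exists_isAffineOpen_mem_and_subset (U := (⊤ : S.Opens))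
    (x := f (pullback.fst f g x')) trivial
  obtain ⟨O, hO, hxO, hOV⟩ := exists_isAffineOpen_mem_and_subset (U := f ⁻¹ᵁ V)
    (x := pullback.fst f g x') hxV
  have hxg : g (pullback.snd f g x') ∈ V := by
    rw [← Scheme.Hom.comp_apply, ← pullback.condition, Scheme.Hom.comp_apply]
    exact hxV
  obtain ⟨V', hV', hxV', hV'V⟩ := exists_isAffineOpen_mem_and_subset (U := g ⁻¹ᵁ V)
    (x := pullback.snd f g x') hxg
  letI := (f.appLE V O hOV).hom.toAlgebra
  letI := (g.appLE V V' hV'V).hom.toAlgebra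
  let R : Type u := Γ(S, V)
  let A : Type u := Γ(X, O)
  let R' : Type u := Γ(S', V')
  haveI : Algebra.FinitePresentation Γ(S, V) Γ(X, O) := f.finitePresentation_appLE hV hO hOV
  haveI : Module.Flat Γ(S, V) Γ(X, O) := Flat.flat_appLE f hV hO hOV
  haveI : ∀ B : CommRingCat.{u}, PreservesFiniteLimits (tilde.functor B) := fun B =>
    Groth.PropsBasic2.preservesFiniteLimits_tilde B
  let φ := Spec.map (f.appLE V O hOV)
  let ψ := Spec.map (g.appLE V V' hV'V)
  have eφ : φ ≫ hV.fromSpec = hO.fromSpec ≫ f := IsAffineOpen.SpecMap_appLE_fromSpec f hV hO hOV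
  have eψ : ψ ≫ hV.fromSpec = hV'.fromSpec ≫ g := IsAffineOpen.SpecMap_appLE_fromSpec g hV hV' hV'V
  let σ := pullback.map φ ψ f g hO.fromSpec hV'.fromSpec hV.fromSpec eφ eψ
  haveI : IsOpenImmersion σ := by
    change IsOpenImmersion (pullback.map _ _ _ _ _ _ _ _ _)
    rw [pullback_map_eq_pullbackFstFstIso_inv]
    infer_instance
  have hσ₁ : σ ≫ pullback.fst f g = pullback.fst φ ψ ≫ hO.fromSpec := pullback.lift_fst _ _ _
  have hσ₂ : σ ≫ pullback.snd f g = pullback.snd φ ψ ≫ hV'.fromSpec := pullback.lift_snd _ _ _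
  let sy := pullbackSymmetry φ ψ
  let P := Spec (CommRingCat.of (Γ(S', V') ⊗[Γ(S, V)] Γ(X, O)))
  let π : P ⟶ pullback ψ φ := (pullbackSpecIso Γ(S, V) Γ(S', V') Γ(X, O)).inv
  haveI : IsIso π := inferInstanceAs (IsIso (pullbackSpecIso Γ(S, V) Γ(S', V') Γ(X, O)).inv)
  let h : P ⟶ pullback f g := π ≫ sy.inv ≫ σ
  let incR : Γ(X, O) →+* Γ(S', V') ⊗[Γ(S, V)] Γ(X, O) :=
    (Algebra.TensorProduct.includeRight : Γ(X, O) →ₐ[Γ(S, V)] Γ(S', V') ⊗[Γ(S, V)] Γ(X, O)).toRingHom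
  let q : P ⟶ Spec Γ(X, O) := Spec.map (CommRingCat.ofHom incR)
  let p : P ⟶ Spec Γ(S', V') :=
    Spec.map (CommRingCat.ofHom (algebraMap Γ(S', V') (Γ(S', V') ⊗[Γ(S, V)] Γ(X, O))))
  have hπq : π ≫ pullback.snd ψ φ = q := pullbackSpecIso_inv_snd _ _ _
  have hπp : π ≫ pullback.fst ψ φ = p := pullbackSpecIso_inv_fst' _ _ _
  have h₁ : h ≫ pullback.fst f g = q ≫ hO.fromSpec := by
    simp only [h, Category.assoc, hσ₁]
    rw [pullbackSymmetry_inv_comp_fst_assoc, ← hπq, Category.assoc]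
  have h₂ : h ≫ pullback.snd f g = p ≫ hV'.fromSpec := by
    simp only [h, Category.assoc, hσ₂]
    rw [pullbackSymmetry_inv_comp_snd_assoc, ← hπp, Category.assoc]
  -- the algebraic object
  haveI := KFlat.hasLpull q
  haveI : DRing.HasLBaseChange incR := Groth.DAlg.hasLBaseChange _
  obtain ⟨M, ⟨eM⟩⟩ := ((Groth.Agent.S0997.result Γ(X, O)).2.2 _).1
    (Groth.Misc4.QCohDPerf.isQCohD_restrict hO.fromSpec (isQCohD_of_pc hpc))
  have hM : Dual2.IsRelPerfect Γ(S, V) Γ(X, O) M := (RelPerfectAffine.chart_iff f hO hV hOV K M eM.symm).1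
    ⟨fun m => RelPerfectAffine.isPseudoCoherentD_rd _ (hpc m), RelPerfectAffine.locAmp_rd _ f hamp⟩
  have hM' := Groth.Agent.S7075.result Γ(S, V) Γ(X, O) Γ(S', V') M hM
  haveI : Module.Flat Γ(S', V') (Γ(S', V') ⊗[Γ(S, V)] Γ(X, O)) := inferInstance
  haveI : Algebra.FinitePresentation Γ(S', V') (Γ(S', V') ⊗[Γ(S, V)] Γ(X, O)) := inferInstance
  have hN := (Groth.Agent.S7264.result Γ(S', V') (Γ(S', V') ⊗[Γ(S, V)] Γ(X, O)) _).2 hM'
  obtain ⟨eB⟩ := Groth.Agent.S1055.result incR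
  obtain ⟨eSq⟩ := nonempty_rd_Lpull_square (pullback.fst f g) h hO.fromSpec q h₁ K
  let e : (DCoh.tildeD (CommRingCat.of (Γ(S', V') ⊗[Γ(S, V)] Γ(X, O)))).obj ((DRing.LBaseChange incR).obj M) ≅
      (Rd h).obj ((DCoh.Lpull (pullback.fst f g)).obj K) :=
    eB.app M ≪≫ (DCoh.Lpull q).mapIso eM ≪≫ eSq.symm
  haveI : Flat p := (HasRingHomProperty.Spec_iff (P := @Flat)).2 (RingHom.flat_algebraMap_iff.2 inferInstance)
  have hloc : LocAmp (h ≫ pullback.snd f g) ((Rd h).obj ((DCoh.Lpull (pullback.fst f g)).obj K)) := by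
    rw [h₂]
    exact ((RelPerfectAffine.locAmp_comp_base p hV'.fromSpec _).2
      ((RelAmp.locHasFiniteRelTorDim_iff _).1 hN.2)).of_iso e
  obtain ⟨z, hz⟩ : ∃ z, h z = x' := by
    obtain ⟨w, hw⟩ : x' ∈ Set.range σ := by
      rw [Scheme.Pullback.range_map, Set.mem_inter_iff, Set.mem_preimage, Set.mem_preimage,
        hO.range_fromSpec, hV'.range_fromSpec]
      exact ⟨hxO, hxV'⟩
    refine ⟨(inv π) (sy.hom w), ?_⟩
    rw [← Scheme.Hom.comp_apply, ← Scheme.Hom.comp_apply]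
    simp only [h, IsIso.inv_hom_id_assoc, Iso.hom_inv_id_assoc]
    exact hw
  exact hz ▸ RelPerfectAffine.exists_amp_of_rd h (pullback.snd f g) hloc z

end Groth.DerivedCoh.RelPerfectBC
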