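import Groth.Agent.Misc4.QCohDRHom
import Groth.Agent.DerivedAdj.Devissage
import Groth.Agent.AbSub.TruncFactor
import Groth.Agent.DerivedCoh.Duality.LocalModel
import Groth.Agent.DerivedCoh.PCoh.Pullback
import Groth.Agent.DerivedCoh.PCoh.Perfect

/-!
`RHom` out of pseudo-coherent objects: the sharp degree bound.
-/

universe u

open CategoryTheory CategoryTheory.Limits AlgebraicGeometry HomologicalComplex Pretriangulated

namespace Groth.DerivedCoh.RHomQCohSharp

open Groth.DerivedCoh.KFlat (T IsKFlat tot totL totR)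
open Groth.DerivedCoh.PCoh (Below Near)
open Groth.Misc4.QCohDPerf Groth.KTheory.Perf Groth.Misc4.QCohDRHom

attribute [local instance] HasDerivedCategory.standard

set_option maxHeartbeats 1000000
set_option linter.style.haveILetI false

local notation "up" => ComplexShape.up ℤ

variable {X : Scheme.{u}}

/-- a morphism seen as an isomorphism by objects in degrees `≤ i` is one on `Hⁱ` -/
theorem isIso_hd_of_bijective_sharp {R R' : DCoh.D X} (φ : R ⟶ R') (i : ℤ)
    (h : ∀ S : DCoh.D X, S.IsLE i → Function.Bijective (fun a : S ⟶ R => a ≫ φ)) :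
    IsIso ((DerivedCategory.homologyFunctor X.Modules i).map φ) := by
  let t : Triangulated.TStructure (DCoh.D X) := DerivedCategory.TStructure.t
  let H := DerivedCategory.homologyFunctor X.Modules i
  haveI h1 : IsIso (H.map ((t.truncLEι i).app R)) := Groth.DerivedAdj.isIso_homologyMap_truncLE R i i le_rfl
  haveI h2 : IsIso (H.map ((t.truncLEι i).app R')) := Groth.DerivedAdj.isIso_homologyMap_truncLE R' i i le_rfl
  obtain ⟨a, ha⟩ := (h _ (inferInstanceAs (t.IsLE ((t.truncLE i).obj R') i))).2 ((t.truncLEι i).app R')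
  have hn := (t.truncLEι i).naturality φ
  have hb : (t.truncLE i).map φ ≫ a = (t.truncLEι i).app R :=
    (h _ (inferInstanceAs (t.IsLE ((t.truncLE i).obj R) i))).1 (by
      show ((t.truncLE i).map φ ≫ a) ≫ φ = _
      rw [Category.assoc, show a ≫ φ = _ from ha]
      exact hn)
  refine ⟨inv (H.map ((t.truncLEι i).app R')) ≫ H.map a, ?_, ?_⟩
  · have e1 : H.map ((t.truncLEι i).app R) ≫ H.map φ =
        H.map ((t.truncLE i).map φ) ≫ H.map ((t.truncLEι i).app R') :=
      (H.map_comp _ _).symm.trans ((congrArg H.map hn.symm).trans (H.map_comp _ _))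
    refine (cancel_epi (H.map ((t.truncLEι i).app R))).1 ?_
    refine (reassoc_of% e1) _ |>.trans ?_
    rw [IsIso.hom_inv_id_assoc]
    exact ((H.map_comp _ _).symm.trans (congrArg H.map hb)).trans (Category.comp_id _).symm
  · exact (Category.assoc _ _ _).trans ((congrArg (fun p => inv (H.map ((t.truncLEι i).app R')) ≫ p)
      ((H.map_comp _ _).symm.trans (congrArg H.map ha))).trans (IsIso.inv_hom_id _))

/-- comparing `RHom` out of two complexes linked by a near isomorphism -/
theorem isQCoh_hd_of_near_sharp {A K : CochainComplex X.Modules ℤ} (g : A ⟶ K) (hA : IsKFlat (T X) A)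
    (hK : IsKFlat (T X) K) {m : ℤ} (hg : Near m (DerivedCategory.Q.map g)) [DCoh.HasLTensorCx K]
    [DCoh.HasRSheafHom K] [DCoh.HasLTensorCx A] [DCoh.HasRSheafHom A] {L : DCoh.D X} {a : ℤ}
    [L.IsGE a] (i : ℤ) (hi : i + m + 1 ≤ a)
    (hq : (DCoh.HD ((DCoh.RSheafHom A).obj L) i).IsQuasicoherent) :
    (DCoh.HD ((DCoh.RSheafHom K).obj L) i).IsQuasicoherent := by
  let Z := CochainComplex.mappingCone (𝟙 A)
  have hZ : IsKFlat (T X) Z := hA.mappingCone (T X) (𝟙 A) hA
  let S₀ : ShortComplex (CochainComplex X.Modules ℤ) :=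
    ShortComplex.mk (biprod.inl : K ⟶ K ⊞ Z) biprod.snd biprod.inl_snd
  let K₁ := K ⊞ Z
  have hK₁ : IsKFlat (T X) K₁ :=
    (Groth.DerivedCoh.KFlat.isKFlat_two_of_three (T X) S₀ fun Y q =>
      (((ShortComplex.Splitting.ofHasBinaryBiproduct K Z).map (eval X.Modules up q)).map
        ((T X).obj Y)).shortExact).2.1 hK hZ
  have hz : IsZero (DerivedCategory.Q.obj Z) := by
    rw [IsZero.iff_id_eq_zero, ← CategoryTheory.Functor.map_id,
      DerivedCategory.Q_map_eq_of_homotopy _ (CochainComplex.mappingCone.homotopyToZeroOfId A)]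
    exact Functor.map_zero _ _ _
  let p : K₁ ⟶ K := biprod.fst
  haveI : IsIso (DerivedCategory.Q.map p) := by
    refine ⟨DerivedCategory.Q.map biprod.inl, ?_, ?_⟩
    · rw [← Functor.map_comp, ← CategoryTheory.Functor.map_id]
      have : DerivedCategory.Q.map (biprod.snd ≫ biprod.inr : K₁ ⟶ K₁) = 0 := by
        rw [Functor.map_comp, hz.eq_of_tgt (DerivedCategory.Q.map biprod.snd) 0, zero_comp]
      conv_rhs => rw [← biprod.total, Functor.map_add, this, add_zero]
    · rw [← Functor.map_comp, biprod.inl_fst, CategoryTheory.Functor.map_id]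
  haveI : QuasiIso p := (DerivedCategory.isIso_Q_map_iff_quasiIso _ p).1 inferInstance
  let g₁ : A ⟶ K₁ := biprod.lift g (CochainComplex.mappingCone.inr (𝟙 A))
  have hg₁ : Near m (DerivedCategory.Q.map g₁) := by
    have : DerivedCategory.Q.map g₁ = DerivedCategory.Q.map g ≫ inv (DerivedCategory.Q.map p) := by
      rw [IsIso.eq_comp_inv, ← Functor.map_comp, biprod.lift_fst]
    rw [this]
    exact hg.comp (Groth.DerivedCoh.PCoh.near_of_isIso _)
  let r : ∀ q, K₁.X q ⟶ A.X q := fun q =>
    (biprod.snd : K₁ ⟶ Z).f q ≫ (CochainComplex.mappingCone.snd (𝟙 A)).v q q (add_zero q)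
  have hr : ∀ q, g₁.f q ≫ r q = 𝟙 _ := fun q => by
    rw [← Category.assoc, ← comp_f, biprod.lift_snd, CochainComplex.mappingCone.inr_f_snd_v]
  haveI : ∀ q, Mono (g₁.f q) := fun q => (show IsSplitMono (g₁.f q) from ⟨⟨r q, hr q⟩⟩).mono
  haveI : Mono g₁ := HomologicalComplex.mono_of_mono_f _ fun q => inferInstance
  let S : ShortComplex (CochainComplex X.Modules ℤ) :=
    ShortComplex.mk g₁ (cokernel.π g₁) (cokernel.condition g₁)
  have hS : S.ShortExact :=
    ShortComplex.ShortExact.mk' (ShortComplex.exact_of_g_is_cokernel _ (cokernelIsCokernel g₁))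
      inferInstance inferInstance
  have hsp : ∀ q, Nonempty (S.map (eval X.Modules up q)).Splitting := fun q => by
    have hSq := hS.map_of_exact (eval X.Modules up q)
    exact ⟨ShortComplex.Splitting.ofExactOfRetraction _ hSq.exact (r q) (hr q) hSq.epi_g⟩
  have hC : IsKFlat (T X) S.X₃ :=
    (Groth.DerivedCoh.KFlat.isKFlat_two_of_three (T X) S fun Y q =>
      ((hsp q).some.map ((T X).obj Y)).shortExact).1 hA hK₁
  have hCb : Below m (DCoh.toD X S.X₃) :=
    Groth.DerivedCoh.PCoh.below_of_near _ (DerivedCategory.triangleOfSES_distinguished hS) hg₁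
  haveI := Groth.DerivedCoh.KFlat.hasLTensorCx K₁
  let cK := Groth.DerivedCoh.Duality.ltcxMapIso hK₁ hK p
  let adjK : DCoh.LTensorCx K₁ ⊣ DCoh.RSheafHom K := (DCoh.RSheafHomAdj K).ofNatIsoLeft cK.symm
  let adjA := DCoh.RSheafHomAdj A
  letI : Localization.Lifting DerivedCategory.Q (HomologicalComplex.quasiIso X.Modules up)
      (DCoh.tensorCxQ A) (DCoh.LTensorCx A) := ⟨Groth.DerivedCoh.KFlat.ltcxNatIso A hA⟩
  letI : Localization.Lifting DerivedCategory.Q (HomologicalComplex.quasiIso X.Modules up)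
      (DCoh.tensorCxQ K₁) (DCoh.LTensorCx K₁) := ⟨Groth.DerivedCoh.KFlat.ltcxNatIso K₁ hK₁⟩
  let τ : DCoh.LTensorCx A ⟶ DCoh.LTensorCx K₁ :=
    Localization.liftNatTrans DerivedCategory.Q (HomologicalComplex.quasiIso X.Modules up)
      (DCoh.tensorCxQ A) (DCoh.tensorCxQ K₁) _ _
      (Functor.whiskerRight ((DCoh.tensorCx (X := X)).flip.map g₁) DerivedCategory.Q)
  let φ : (DCoh.RSheafHom K).obj L ⟶ (DCoh.RSheafHom A).obj L :=
    adjA.homEquiv _ _ (τ.app _ ≫ adjK.counit.app L)
  have hb : ∀ S' : DCoh.D X, S'.IsLE i →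
      Function.Bijective (fun b : S' ⟶ (DCoh.RSheafHom K).obj L => b ≫ φ) := fun S' hS' => by
    haveI := hS'
    have hτ : Function.Bijective (fun b : (DCoh.LTensorCx K₁).obj S' ⟶ L => τ.app S' ≫ b) := by
      have hB : Below (i + 1) S' := fun l hl => DerivedCategory.isZero_of_isLE S' i l (by omega)
      obtain ⟨P, -, hPf, hP0, ⟨e⟩⟩ := Groth.DerivedCoh.PCoh.exists_flat_rep_of_below hB
      have hPk : IsKFlat (T X).flip P := by
        haveI : ∀ N, PreservesColimitsOfShape ℕ ((T X).flip.obj N) := fun N =>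
          Groth.DerivedCoh.KFlat.preservesColimitsOfShape_tensorBi_flip N
        exact Groth.DerivedCoh.KFlat.isKFlat_of_flat (T X).flip P i
          (fun q hq => hP0 q (by omega))
          (fun q => Groth.DerivedCoh.KFlat.flat_flip_of_isFlat (hPf q))
      have hT := DerivedCategory.triangleOfSES_distinguished
        (Groth.DerivedCoh.KFlat.shortExact_totR (T X) P S fun _ q =>
          ((hsp q).some.map ((T X).obj _)).shortExact)
      have hTb := below_tot hP0 hPk hC hCb
      haveI : (DCoh.toD X (tot (T X) P S.X₃)).IsLE (i + m - 1) := by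
        rw [DerivedCategory.isLE_iff]
        exact fun l hl => hTb l (by omega)
      haveI : ((DCoh.toD X (tot (T X) P S.X₃))⟦(-1 : ℤ)⟧).IsLE (i + m) :=
        DerivedCategory.TStructure.t.isLE_shift _ (i + m - 1) (-1) (i + m) (by omega)
      have hbij := bijective_precomp (L := L) _ hT
        (fun g => Groth.TruncFactor.zero_of_isLE_of_isGE g (i + m - 1) a (by omega)
          ‹(DCoh.toD X (tot (T X) P S.X₃)).IsLE (i + m - 1)› inferInstance)
        (fun g => Groth.TruncFactor.zero_of_isLE_of_isGE g (i + m) a (by omega)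
          ‹((DCoh.toD X (tot (T X) P S.X₃))⟦(-1 : ℤ)⟧).IsLE (i + m)› inferInstance)
      let eA : (DCoh.LTensorCx A).obj S' ≅ DCoh.toD X (tot (T X) P A) :=
        (DCoh.LTensorCx A).mapIso e.symm ≪≫ Groth.DerivedCoh.KFlat.ltcxIso A hA P
      let eK : (DCoh.LTensorCx K₁).obj S' ≅ DCoh.toD X (tot (T X) P K₁) :=
        (DCoh.LTensorCx K₁).mapIso e.symm ≪≫ Groth.DerivedCoh.KFlat.ltcxIso K₁ hK₁ P
      have hsq : τ.app S' ≫ eK.hom = eA.hom ≫ DerivedCategory.Q.map ((totR (T X) P).map g₁) := by
        have := τ.naturality e.inv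
        simp only [eA, eK, Iso.trans_hom, Functor.mapIso_hom, Iso.symm_hom, Category.assoc]
        rw [← reassoc_of% this]
        refine congrArg (_ ≫ ·) ?_
        rw [show τ.app (DCoh.toD X P) = _ from Localization.liftNatTrans_app _ _ _ _ _ _ _ P]
        change ((Groth.DerivedCoh.KFlat.ltcxNatIso A hA).hom.app P ≫
            DerivedCategory.Q.map ((totR (T X) P).map g₁) ≫
            (Groth.DerivedCoh.KFlat.ltcxNatIso K₁ hK₁).inv.app P) ≫
            (Groth.DerivedCoh.KFlat.ltcxNatIso K₁ hK₁).hom.app P =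
          (Groth.DerivedCoh.KFlat.ltcxNatIso A hA).hom.app P ≫
            DerivedCategory.Q.map ((totR (T X) P).map g₁)
        refine (Category.assoc _ _ _).trans (congrArg
          (fun z => (Groth.DerivedCoh.KFlat.ltcxNatIso A hA).hom.app P ≫ z) ?_)
        exact (Category.assoc _ _ _).trans ((congrArg
          (fun z => DerivedCategory.Q.map ((totR (T X) P).map g₁) ≫ z)
          ((Groth.DerivedCoh.KFlat.ltcxNatIso K₁ hK₁).inv_hom_id_app P)).trans (Category.comp_id _))
      have : (fun b : (DCoh.LTensorCx K₁).obj S' ⟶ L => τ.app S' ≫ b) =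
          Iso.homFromEquiv eA.symm ∘ (fun b => DerivedCategory.Q.map ((totR (T X) P).map g₁) ≫ b) ∘
            Iso.homFromEquiv eK := by
        funext b
        change τ.app S' ≫ b = eA.hom ≫ DerivedCategory.Q.map ((totR (T X) P).map g₁) ≫ eK.inv ≫ b
        exact (congrArg (τ.app S' ≫ ·) (eK.hom_inv_id_assoc b)).symm.trans
          ((Category.assoc _ _ _).symm.trans ((congrArg (· ≫ eK.inv ≫ b) hsq).trans (Category.assoc _ _ _)))
      rw [this]
      exact eA.symm.homFromEquiv.bijective.comp (hbij.comp eK.homFromEquiv.bijective)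
    have : (fun b : S' ⟶ (DCoh.RSheafHom K).obj L => b ≫ φ) =
        adjA.homEquiv S' L ∘ (fun b => τ.app S' ≫ b) ∘ (adjK.homEquiv S' L).symm := by
      funext b
      refine (adjA.homEquiv_naturality_left b _).symm.trans (congrArg (adjA.homEquiv S' L) ?_)
      change _ = τ.app S' ≫ (adjK.homEquiv S' L).symm b
      rw [Adjunction.homEquiv_counit, ← τ.naturality_assoc]
    rw [this, Equiv.comp_bijective, Equiv.bijective_comp]
    exact hτ
  haveI := isIso_hd_of_bijective_sharp φ i hb
  exact (Groth.QCohMod.isQCoh_iff_of_iso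
    (asIso ((DerivedCategory.homologyFunctor X.Modules i).map φ))).2 hq

end Groth.DerivedCoh.RHomQCohSharp
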