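import Groth.Agent.DerivedCoh.RelAmp
import Groth.Agent.DAlg.TorAmpLocal
import Groth.Agent.DAlg.PCDescent
import Groth.Agent.DAlg.BaseChange
import Groth.Agent.S1121
import Groth.Prelude.Def_DCoh3

/-!
Relative tor amplitude of `K~` on `Spec A` over `Spec R`: it is the tor amplitude of `K` over `R`.
-/

universe u

open CategoryTheory CategoryTheory.Limits AlgebraicGeometry HomologicalComplex

namespace Groth.DerivedCoh.RelAmpTilde

noncomputable section

open Groth.DAlg Groth.DerivedCoh KFlatMod
open Groth.DerivedCoh.RelAmp (AmpAt ampAt_toD_iff)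
open Groth.DerivedCoh.KFlat (stk)

attribute [local instance] HasDerivedCategory.standard
set_option linter.style.haveILetI false

local notation "up" => ComplexShape.up ℤ

lemma additive_tilde (R : Type u) [CommRing R] : (tilde.functor (CommRingCat.of R)).Additive :=
  (fun (S : CommRingCat.{u}) => (inferInstance : (tilde.functor S).Additive)) _

attribute [local instance] additive_tilde

variable {A B : Type u} [CommRing A] [CommRing B]

/-- restriction along `φ` then comparison of composites -/
lemma torAmp_res_comp_iff {C : Type u} [CommRing C] (φ : A →+* B) (β : B →+* C) (E : DRing.Cx C)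
    (a b : ℤ) :
    DRing.HasTorAmplitudeIn A a b (DRing.toD ((DRing.restrictCx φ).obj ((DRing.restrictCx β).obj E))) ↔
      DRing.HasTorAmplitudeIn A a b (DRing.toD ((DRing.restrictCx (β.comp φ)).obj E)) := by
  obtain ⟨e⟩ := nonempty_res_comp φ β (DRing.toD E)
  let e' : DRing.toD ((DRing.restrictCx φ).obj ((DRing.restrictCx β).obj E)) ≅
      DRing.toD ((DRing.restrictCx (β.comp φ)).obj E) :=
    (resQIso φ _).symm ≪≫ (DRing.restrictD φ).mapIso (resQIso β E).symm ≪≫ e ≪≫ resQIso _ E
  exact ⟨fun h => TorAmp.of_iso h e', fun h => TorAmp.of_iso h e'.symm⟩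

/-- a complex over a localization: amplitude over the ring gives amplitude over the localization -/
theorem torAmp_of_localization {S : Type u} [CommRing S] (α : A →+* S) (M : Submonoid A)
    (hS : letI := α.toAlgebra; IsLocalization M S) (E : DRing.Cx S) (a b : ℤ)
    (h : DRing.HasTorAmplitudeIn A a b (DRing.toD ((DRing.restrictCx α).obj E))) :
    DRing.HasTorAmplitudeIn S a b (DRing.toD E) := by
  letI := α.toAlgebra
  haveI : IsLocalization M S := hS
  haveI : DRing.HasLBaseChange α := hasLBaseChange _
  have hfl : α.Flat := IsLocalization.flat S M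
  obtain ⟨e⟩ := nonempty_lBaseChange_extCx α hfl ((DRing.restrictCx α).obj E)
  have hc : ∀ N : ModuleCat.{u} S,
      IsIso ((ModuleCat.extendRestrictScalarsAdj.{u, u, u} α).counit.app N) := fun N => by
    letI : Module A N := Module.compHom N α
    haveI : IsScalarTower A S N := .of_algebraMap_smul fun _ _ => rfl
    haveI : IsLocalizedModule M (LinearMap.id : N →ₗ[A] N) := isLocalizedModule_id M N S
    have hb := (isLocalizedModule_iff_isBaseChange M S (LinearMap.id : N →ₗ[A] N)).1 inferInstance
    rw [ConcreteCategory.isIso_iff_bijective]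
    let ψ := ((ModuleCat.extendRestrictScalarsAdj.{u, u, u} α).counit.app N).hom
    have hψ : ∀ z, ψ z = hb.equiv z := fun z => TensorProduct.induction_on z
      ((map_zero ψ).trans (map_zero hb.equiv).symm)
      (fun s n => (hb.equiv_tmul s n).symm)
      (fun y z hy hz =>
        (map_add ψ y z).trans ((congrArg₂ (· + ·) hy hz).trans (map_add hb.equiv y z).symm))
    exact (funext hψ : ⇑ψ = ⇑hb.equiv) ▸ hb.equiv.bijective
  refine TorAmp.of_iso (TorAmp.baseChange α h) (e ≪≫ DerivedCategory.Q.mapIso
    (HomologicalComplex.Hom.isoOfComponents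
      (fun i => @asIso _ _ _ _ _ (hc (E.X i)))
      fun i j _ => ((ModuleCat.extendRestrictScalarsAdj.{u, u, u} α).counit.naturality (E.d i j)).symm))

/-- the local version of tor amplitude over a base, tensor form -/
theorem torAmp_res_of_tensor_maximal (φ : A →+* B) (K : DRing.Cx B) (a b : ℤ)
    (h : ∀ (J : Ideal B) [J.IsMaximal], DRing.HasTorAmplitudeIn A a b (DRing.toD ((DRing.restrictCx φ).obj
      ((((T B).obj (ModuleCat.of B (Localization.AtPrime J))).mapHomologicalComplex up).obj K)))) :
    DRing.HasTorAmplitudeIn A a b (DRing.toD ((DRing.restrictCx φ).obj K)) := by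
  haveI : ∀ N : ModuleCat.{u} A, DRing.HasLTensor A N := hasLTensor
  refine (hasTorAmplitudeIn_iff _ a b).2 fun N i hi => ?_
  haveI := resAug_quasiIso (R := A) ((single (ModuleCat.{u} A) up 0).obj N)
  have hW := res_isKFlat (R := A) ((single (ModuleCat.{u} A) up 0).obj N)
  let w := (resAug A).app ((single (ModuleCat.{u} A) up 0).obj N)
  let W := (resFunctor A).obj ((single (ModuleCat.{u} A) up 0).obj N)
  rw [subsingleton_lTensor_iff N w hW]
  have hloc : ∀ (J : Ideal B) [J.IsMaximal],
      ((((T B).obj (ModuleCat.of B (Localization.AtPrime J))).mapHomologicalComplex up).obj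
        (KFlat.tot (T B) K (extCx φ W))).ExactAt i := by
    intro J hJ
    let M : ModuleCat.{u} B := ModuleCat.of B (Localization.AtPrime J)
    have h₂ := (hasTorAmplitudeIn_iff _ a b).1 (h J) N i hi
    rw [subsingleton_lTensor_iff N w hW] at h₂
    have h₃ : IsZero (((DRing.restrictCx φ).obj ((((T B).obj M).mapHomologicalComplex up).obj
        (KFlat.tot (T B) K (extCx φ W)))).homology i) :=
      h₂.of_iso ((homologyFunctor _ _ i).mapIso
        ((DRing.restrictCx φ).mapIso (assocTotIso M K (extCx φ W)) ≪≫ resTotIso φ _ W))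
    rwa [← exactAt_iff_isZero_homology, exactAt_restrictCx_iff] at h₃
  have h₄ := exactAt_of_tensor_maximal _ i hloc
  rw [← exactAt_restrictCx_iff φ, exactAt_iff_isZero_homology] at h₄
  exact h₄.of_iso ((homologyFunctor _ _ i).mapIso (resTotIso φ K W)).symm

/-- the stalk rings of `Spec A` are localizations -/
lemma isLocalization_toStalkRing (x : Spec (CommRingCat.of A)) :
    letI := (Groth.Agent.S1121.toStalkRing x).hom.toAlgebra
    IsLocalization (x : PrimeSpectrum A).asIdeal.primeCompl ((Spec (CommRingCat.of A)).presheaf.stalk x) := by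
  let φ := (Groth.Agent.S1121.toStalkRing x).hom
  letI := φ.toAlgebra
  have h0 : @IsLocalization A _ (x : PrimeSpectrum A).asIdeal.primeCompl
      ((Spec (CommRingCat.of A)).presheaf.stalk x) _
      (inferInstanceAs (Algebra (CommRingCat.of A)
        ((Spec.structureSheaf (CommRingCat.of A)).presheaf.stalk x))) :=
    StructureSheaf.IsLocalization.to_stalk (CommRingCat.of A) x
  have e : φ.toAlgebra = (inferInstanceAs (Algebra (CommRingCat.of A)
      ((Spec.structureSheaf (CommRingCat.of A)).presheaf.stalk x))) :=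
    Algebra.algebra_ext _ _ fun r => rfl
  exact (congrArg (fun a => @IsLocalization A _ (x : PrimeSpectrum A).asIdeal.primeCompl
    ((Spec (CommRingCat.of A)).presheaf.stalk x) _ a) e).mpr h0

lemma toStalkRing_stalkMap (φ : A →+* B) (x : Spec (CommRingCat.of B)) :
    ((Spec.map (CommRingCat.ofHom φ)).stalkMap x).hom.comp
        (Groth.Agent.S1121.toStalkRing ((Spec.map (CommRingCat.ofHom φ)).base x)).hom =
      (Groth.Agent.S1121.toStalkRing x).hom.comp φ := by
  have h : Groth.Agent.S1121.toStalkRing ((Spec.map (CommRingCat.ofHom φ)).base x) ≫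
      (Spec.map (CommRingCat.ofHom φ)).stalkMap x =
      CommRingCat.ofHom φ ≫ Groth.Agent.S1121.toStalkRing x := by
    dsimp only [Groth.Agent.S1121.toStalkRing]
    erw [Category.assoc, Scheme.Hom.germ_stalkMap, ← Category.assoc, ← Category.assoc,
      Scheme.ΓSpecIso_inv_naturality]
    rfl
  exact congrArg CommRingCat.Hom.hom h

section main

variable (φ : A →+* B) [PreservesFiniteLimits (tilde.functor (CommRingCat.of B))]

/-- the complex of stalks of `K~`, restricted to the base ring -/
lemma torAmp_res_stalk_iff (K : DRing.Cx B) (x : Spec (CommRingCat.of B)) (a b : ℤ) :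
    DerSch.HasTorAmplitudeAt (Spec.map (CommRingCat.ofHom φ)) a b
        (((tilde.functor (CommRingCat.of B)).mapHomologicalComplex up).obj K) x ↔
      DRing.HasTorAmplitudeIn A a b (DRing.toD ((DRing.restrictCx φ).obj
        ((DRing.restrictCx (Groth.Agent.S1121.toStalkRing x).hom).obj
          (extCx (Groth.Agent.S1121.toStalkRing x).hom K)))) := by
  let f := Spec.map (CommRingCat.ofHom φ)
  let αp := (Groth.Agent.S1121.toStalkRing (f.base x)).hom
  let β := (Groth.Agent.S1121.toStalkRing x).hom
  let E : DRing.Cx ((Spec (CommRingCat.of A)).presheaf.stalk (f.base x)) :=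
    (DRing.restrictCx (f.stalkMap x).hom).obj (extCx β K)
  let eS : DRing.toD ((DerSch.stalkCxOver f x).obj
      (((tilde.functor (CommRingCat.of B)).mapHomologicalComplex up).obj K)) ≅ DRing.toD E :=
    DerivedCategory.Q.mapIso (HomologicalComplex.Hom.isoOfComponents
      (fun i => (ModuleCat.restrictScalars (f.stalkMap x).hom).mapIso
        ((Groth.Agent.S1121.tildeStkIso x).app (K.X i)))
      fun i k _ => ((Functor.isoWhiskerRight (Groth.Agent.S1121.tildeStkIso x)
        (ModuleCat.restrictScalars (f.stalkMap x).hom)).hom.naturality (K.d i k)).symm)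
  rw [torAmp_res_comp_iff, show β.comp φ = (f.stalkMap x).hom.comp αp from (toStalkRing_stalkMap φ x).symm,
    ← torAmp_res_comp_iff]
  refine ⟨fun h => ?_, fun h => TorAmp.of_iso
    (torAmp_of_localization αp _ (isLocalization_toStalkRing (f.base x)) E a b h) eS.symm⟩
  letI := αp.toAlgebra
  haveI : Module.Flat A ((Spec (CommRingCat.of A)).presheaf.stalk (f.base x)) :=
    haveI := isLocalization_toStalkRing (A := A) (f.base x)
    IsLocalization.flat _ (f.base x : PrimeSpectrum A).asIdeal.primeCompl
  have h' := TorAmp.restrict (A := A) (d := 0)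
    (TorAmp.mono (torAmp_mD_of_flat (ModuleCat.of A ((Spec (CommRingCat.of A)).presheaf.stalk (f.base x))))
      (by simp) le_rfl) (TorAmp.of_iso h eS)
  rw [Nat.cast_zero, sub_zero] at h'
  exact TorAmp.of_iso h' (resQIso αp E)

/-- relative tor amplitude of `K~` is tor amplitude of `K` over the base ring -/
theorem hasTorAmplitude_tilde_iff (K : DRing.Cx B) (a b : ℤ) :
    DerSch.HasTorAmplitude (Spec.map (CommRingCat.ofHom φ)) a b
        (((tilde.functor (CommRingCat.of B)).mapHomologicalComplex up).obj K) ↔
      DRing.HasTorAmplitudeIn A a b (DRing.toD ((DRing.restrictCx φ).obj K)) := by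
  refine ⟨fun h => torAmp_res_of_tensor_maximal φ K a b fun J _ => ?_, fun h x => ?_⟩
  · let x : Spec (CommRingCat.of B) := (⟨J, inferInstance⟩ : PrimeSpectrum B)
    let β := (Groth.Agent.S1121.toStalkRing x).hom
    letI := β.toAlgebra
    haveI : IsLocalization J.primeCompl ((Spec (CommRingCat.of B)).presheaf.stalk x) :=
      isLocalization_toStalkRing x
    let g := IsLocalization.algEquiv J.primeCompl ((Spec (CommRingCat.of B)).presheaf.stalk x)
      (Localization.AtPrime J)
    let eM : (ModuleCat.restrictScalars β).obj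
        (ModuleCat.of ((Spec (CommRingCat.of B)).presheaf.stalk x) ((Spec (CommRingCat.of B)).presheaf.stalk x)) ≅
        ModuleCat.of B (Localization.AtPrime J) :=
      (AddEquiv.toLinearEquiv (M := (ModuleCat.restrictScalars β).obj
          (ModuleCat.of ((Spec (CommRingCat.of B)).presheaf.stalk x)
            ((Spec (CommRingCat.of B)).presheaf.stalk x)))
        (M₂ := Localization.AtPrime J) g.toAddEquiv
        fun r z => g.toLinearEquiv.map_smul r z).toModuleIso
    exact TorAmp.of_iso ((torAmp_res_stalk_iff φ K x a b).1 (h x)) (DerivedCategory.Q.mapIso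
      ((DRing.restrictCx φ).mapIso ((NatIso.mapHomologicalComplex
        (extResNatIso β ≪≫ (T B).mapIso eM) up).app K)))
  · let β := (Groth.Agent.S1121.toStalkRing x).hom
    letI := β.toAlgebra
    let L := (Spec (CommRingCat.of B)).presheaf.stalk x
    haveI : Module.Flat B ((ModuleCat.restrictScalars β).obj (ModuleCat.of L L)) :=
      haveI := isLocalization_toStalkRing (A := B) x
      (IsLocalization.flat L (x : PrimeSpectrum B).asIdeal.primeCompl : Module.Flat B L)
    exact (torAmp_res_stalk_iff φ K x a b).2 (TorAmp.of_iso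
      (torAmp_res_tensor_flat φ ((ModuleCat.restrictScalars β).obj (ModuleCat.of L L)) K h)
      (DerivedCategory.Q.mapIso ((DRing.restrictCx φ).mapIso
        ((NatIso.mapHomologicalComplex (extResNatIso β) up).app K))).symm)

/-- version for objects of `D(B)` and complexes representing `M~` -/
theorem hasTorAmplitude_tildeD_iff (M : Dual.D B) (F : CochainComplex (Spec (CommRingCat.of B)).Modules ℤ)
    (e : DCoh.toD (Spec (CommRingCat.of B)) F ≅ (DCoh.tildeD (CommRingCat.of B)).obj M) (a b : ℤ) :
    DerSch.HasTorAmplitude (Spec.map (CommRingCat.ofHom φ)) a b F ↔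
      DRing.HasTorAmplitudeIn A a b ((DRing.restrictD φ).obj M) := by
  obtain ⟨K, ⟨eK⟩⟩ : ∃ K : DRing.Cx B, Nonempty (DRing.toD K ≅ M) :=
    ⟨_, ⟨DerivedCategory.Q.objObjPreimageIso M⟩⟩
  haveI : PreservesFiniteColimits (tilde.functor (CommRingCat.of B)) :=
    haveI := (tilde.adjunction (R := CommRingCat.of B)).leftAdjoint_preservesColimits
    inferInstance
  let P := ((tilde.functor (CommRingCat.of B)).mapHomologicalComplex up).obj K
  let eP : DCoh.toD _ P ≅ DCoh.toD _ F :=
    ((tilde.functor (CommRingCat.of B)).mapDerivedCategoryFactors.app K).symm ≪≫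
      (DCoh.tildeD (CommRingCat.of B)).mapIso eK ≪≫ e.symm
  let eR : DRing.toD ((DRing.restrictCx φ).obj K) ≅ (DRing.restrictD φ).obj M :=
    (resQIso φ K).symm ≪≫ (DRing.restrictD φ).mapIso eK
  constructor
  · intro h
    exact TorAmp.of_iso ((hasTorAmplitude_tilde_iff φ K a b).1 fun x =>
      (ampAt_toD_iff P a b x).1 (((ampAt_toD_iff F a b x).2 (h x)).of_iso eP.symm)) eR
  · intro h x
    exact (ampAt_toD_iff F a b x).1 (((ampAt_toD_iff P a b x).2
      ((hasTorAmplitude_tilde_iff φ K a b).2 (TorAmp.of_iso h eR.symm) x)).of_iso eP)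

end main

end

end Groth.DerivedCoh.RelAmpTilde
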