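import Groth.Agent.DerivedCoh.RelAmpTilde
import Groth.Agent.DerivedCoh.TildeD.Iff
import Groth.Agent.DerivedCoh.PCoh.ModuleFP
import Groth.Agent.DAlg.FlatFPModulePC
import Groth.Agent.DAlg.TorDim
import Groth.Agent.DAlg.PCoh
import Groth.Agent.FlatMorOne.GoodLocus
import Groth.Agent.PropsBasic.FPSections
import Groth.Agent.Pi1FPDesc.Basic
import Groth.Agent.QCohMod.ExtendFP
import Groth.Agent.PropsBasic2.TildeExact

/-!
`S`-flat modules of finite presentation are pseudo-coherent; relative perfection by bounded complexes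
of `S`-flat modules of finite presentation.
-/

universe u

open CategoryTheory CategoryTheory.Limits AlgebraicGeometry HomologicalComplex

namespace Groth.DerivedCoh.RelPerfectFP

open Groth.DerivedCoh Groth.DerivedCoh.PCoh
open Groth.DerivedCoh.RelAmp (AmpAt)
open Groth.KTheory.Perf (Rd Rc rdQIso nonempty_rdComp)

attribute [local instance] HasDerivedCategory.standard

local notation "up" => ComplexShape.up ℤ

section ring

variable {R : Type u} [CommRing R]

lemma flat_of_modIso {P Q : ModuleCat.{u} R} (e : P ≅ Q) (h : Module.Flat R P) : Module.Flat R Q :=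
  haveI := h
  Module.Flat.of_linearEquiv e.symm.toLinearEquiv

/-- the bottom term of a complex of amplitude `[a, b]` with flat higher terms is flat -/
theorem flat_bottom (C : DRing.Cx R) {a b c : ℤ} (hC : DRing.VanishesOutside C a b)
    (hflat : ∀ i, a < i → Module.Flat R (C.X i))
    (h : DRing.HasTorAmplitudeIn R a c (DRing.toD C)) : Module.Flat R (C.X a) := by
  let b' := max (max b c) a
  let N := C.X a
  let D₁ := KFlat.ge C (a + 1)
  have h₁ : DRing.HasTorAmplitudeIn R (a + 1) (b' + 1) (DRing.toD D₁) := by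
    refine ⟨D₁, fun i hi => ?_, fun i => ?_, ⟨Iso.refl _⟩⟩
    · by_cases hp : a + 1 ≤ i
      · exact (hC i (.inr (by omega))).of_iso (@asIso _ _ _ _ (KFlat.geι C (a + 1) i) (KFlat.isIso_geι C hp))
      · exact KFlat.isZero_geX C (by omega)
    · by_cases hp : a + 1 ≤ i
      · have := hflat i (by omega)
        exact Module.Flat.of_linearEquiv
          (@asIso _ _ _ _ (KFlat.geι C (a + 1) i) (KFlat.isIso_geι C hp)).toLinearEquiv
      · have := ModuleCat.subsingleton_of_isZero (KFlat.isZero_geX C (show i < a + 1 by omega))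
        exact (inferInstance : Module.Flat R ((KFlat.geX C (a + 1) i : ModuleCat.{u} R)))
  haveI : ∀ p, IsIso ((KFlat.geHom C a).f p) := fun p => by
    by_cases hp : a ≤ p
    · exact KFlat.isIso_geι C hp
    · exact ⟨0, (KFlat.isZero_geX C (by omega)).eq_of_src _ _, (hC p (.inl (by omega))).eq_of_src _ _⟩
  haveI : IsIso (KFlat.geHom C a) := HomologicalComplex.Hom.isIso_of_components _
  have h₂ : DRing.HasTorAmplitudeIn R a b' (DRing.toD (KFlat.ge C a)) :=
    Groth.DAlg.TorAmp.of_iso (Groth.DAlg.TorAmp.mono h le_rfl (by omega)) (DerivedCategory.Q.mapIso (asIso (KFlat.geHom C a))).symm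
  have h₃ := Groth.DAlg.TorAmp.cone (DerivedCategory.triangleOfSES_distinguished (KFlat.shortExact_geSC C a)) h₁ h₂
  let e : DRing.toD ((single (ModuleCat.{u} R) up a).obj N) ≅
      (DerivedCategory.singleFunctor (ModuleCat.{u} R) a).obj N :=
    ((DerivedCategory.singleFunctorIsoCompQ _ a).app N).symm
  let e' : ((DerivedCategory.singleFunctor (ModuleCat.{u} R) a).obj N)⟦a⟧ ≅ Groth.DAlg.mD N :=
    ((DerivedCategory.singleFunctors (ModuleCat.{u} R)).shiftIso a 0 a (by omega)).app N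
  have h₄ : DRing.HasTorAmplitudeIn R 0 (b' - a) (Groth.DAlg.mD N) := by
    have := Groth.DAlg.TorAmp.shift (Groth.DAlg.TorAmp.of_iso (show DRing.HasTorAmplitudeIn R a b'
      (DRing.toD ((single (ModuleCat.{u} R) up a).obj N)) from h₃) e) a
    rw [sub_self] at this
    exact Groth.DAlg.TorAmp.of_iso this e'
  exact Groth.DAlg.flat_of_torAmp_zero (Groth.DAlg.TorAmp.top h₄ fun i hi =>
    Groth.DAlg.subsingleton_HD_mD N (by omega))

end ring

variable {X S U : Scheme.{u}}

/-- pseudo-coherence is local, along open immersions -/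
lemma pcohOn_of_rd (j : U ⟶ X) [IsOpenImmersion j] {m : ℤ} {K : DCoh.D X}
    (h : DCoh.IsPseudoCoherentD m ((Rd j).obj K)) (z : U) :
    ∃ V : X.Opens, j z ∈ V ∧ PCohOn m K V := by
  obtain ⟨W, hW, E, α, hE, hα⟩ := (isPseudoCoherentD_iff m _).1 h z
  obtain ⟨c⟩ := nonempty_rdComp (k := W.ι) (j := j) (l := W.ι ≫ j) rfl K
  exact ⟨(W.ι ≫ j).opensRange, ⟨⟨z, hW⟩, rfl⟩,
    pcohOn_of_range _ hE (α ≫ c.inv) (hα.comp (near_of_isIso _))⟩

/-- an `S`-flat module of finite presentation is pseudo-coherent -/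
theorem pc_flat_fp (f : X ⟶ S) [Flat f] [LocallyOfFinitePresentation f] {M : X.Modules}
    (hM : CohB1.IsFP M) (hfl : FlatMod.IsFlatOver f M) (m : ℤ) :
    DCoh.IsPseudoCoherentD m (DCoh.inD X M) := by
  rw [isPseudoCoherentD_iff]
  intro x
  obtain ⟨V, hV, hxV, -⟩ := exists_isAffineOpen_mem_and_subset (U := (⊤ : S.Opens)) (x := f x) trivial
  obtain ⟨O, hO, hxO, hOV⟩ := exists_isAffineOpen_mem_and_subset (U := f ⁻¹ᵁ V) (x := x) hxV
  letI := (f.appLE V O hOV).hom.toAlgebra
  haveI : Algebra.FinitePresentation Γ(S, V) Γ(X, O) := f.finitePresentation_appLE hV hO hOV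
  haveI : Module.Flat Γ(S, V) Γ(X, O) := Flat.flat_appLE f hV hO hOV
  let j := hO.fromSpec
  let g := Spec.map (f.appLE V O hOV)
  have hjg : g ≫ hV.fromSpec = j ≫ f := IsAffineOpen.SpecMap_appLE_fromSpec f hV hO hOV
  haveI := hM
  haveI : M.IsQuasicoherent := inferInstance
  let M₁ := (Scheme.Modules.restrictFunctor j).obj M
  have hM₁ : CohB1.IsFP M₁ := Groth.Pi1FPDesc.isFP_of_iso
    ((Scheme.Modules.restrictFunctorIsoPullback j).app M).symm (Groth.QCohMod.isFP_pullback j M hM)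
  haveI := hM₁
  haveI : M₁.IsQuasicoherent := inferInstance
  let N : ModuleCat.{u} Γ(X, O) := moduleSpecΓFunctor.obj M₁
  let I : (tilde.functor Γ(X, O)).obj N ≅ M₁ := @asIso _ _ _ _ (Scheme.Modules.fromTildeΓ (R := Γ(X, O)) M₁)
    (Scheme.Modules.isIso_fromTildeΓ_of_isQuasicoherent (R := Γ(X, O)) M₁)
  haveI : Module.FinitePresentation Γ(X, O) N :=
    (Groth.PropsBasic.FPSections.isFP_tilde_iff N).1 (Groth.Pi1FPDesc.isFP_of_iso I.symm hM₁)
  have hflat₁ : ∀ z, FlatMod.IsFlatOverAt g ((tilde.functor Γ(X, O)).obj N) z := fun z => by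
    have h1 : Module.Flat (S.presheaf.stalk ((j ≫ f).base z)) ((DerSch.stalkOver (j ≫ f) z).obj M₁) :=
      flat_of_modIso ((RelAmp.stalkOverRestrictIso j z f).app M) (RelAmp.flat_stalkOver hfl (j z))
    have h2 : FlatMod.IsFlatOverAt (g ≫ hV.fromSpec) M₁ z := by
      rw [hjg]
      exact h1
    exact (Groth.FlatMorOne.isFlatOverAt_congr g I z).2
      ((Groth.FlatMorOne.isFlatOverAt_comp_openImmersion g hV.fromSpec M₁ z).1 h2)
  haveI : PreservesFiniteLimits (tilde.functor (CommRingCat.of Γ(X, O))) :=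
    Groth.PropsBasic2.preservesFiniteLimits_tilde _
  haveI : PreservesFiniteColimits (tilde.functor (CommRingCat.of Γ(X, O))) :=
    haveI := (tilde.adjunction (R := CommRingCat.of Γ(X, O))).leftAdjoint_preservesColimits
    inferInstance
  haveI := RelAmpTilde.additive_tilde Γ(X, O)
  let φ := algebraMap Γ(S, V) Γ(X, O)
  let K : DRing.Cx Γ(X, O) := (single (ModuleCat.{u} Γ(X, O)) up 0).obj N
  have hamp : DerSch.HasTorAmplitude (Spec.map (CommRingCat.ofHom φ)) 0 0
      (((tilde.functor (CommRingCat.of Γ(X, O))).mapHomologicalComplex up).obj K) := fun z => by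
    refine (RelAmp.ampAt_toD_iff _ 0 0 z).1 (RelAmp.ampAt_of_relFlatAmp ⟨_, fun i hi => ?_, fun i => ?_, ⟨Iso.refl _⟩⟩ z)
    · exact (tilde.functor (CommRingCat.of Γ(X, O))).map_isZero (isZero_single_obj_X up 0 N i (by omega))
    · by_cases hi : i = 0
      · exact RelAmp.isFlatOver_of_iso ((tilde.functor (CommRingCat.of Γ(X, O))).mapIso
          (singleObjXIsoOfEq up 0 N i hi)).symm hflat₁
      · exact RelAmp.isFlatOver_of_isZero
          ((tilde.functor (CommRingCat.of Γ(X, O))).map_isZero (isZero_single_obj_X up 0 N i hi))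
  have hN := (RelAmpTilde.hasTorAmplitude_tilde_iff φ K 0 0).1 hamp
  haveI : Module.Flat Γ(S, V) ((ModuleCat.restrictScalars φ).obj N) :=
    Groth.DAlg.flat_of_torAmp_zero (Groth.DAlg.TorAmp.of_iso hN (DerivedCategory.Q.mapIso
      ((HomologicalComplex.singleMapHomologicalComplex (ModuleCat.restrictScalars φ) up 0).app N) ≪≫
      ((DerivedCategory.singleFunctorIsoCompQ _ 0).app _).symm))
  letI : Module Γ(S, V) N := Module.compHom N φ
  haveI : IsScalarTower Γ(S, V) Γ(X, O) N := .of_algebraMap_smul fun _ _ => rfl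
  haveI : Module.Flat Γ(S, V) N := (inferInstance : Module.Flat Γ(S, V) ((ModuleCat.restrictScalars φ).obj N))
  have hpc := Groth.DAlg.isPseudoCoherentModule'_of_flat_finitePresentation Γ(S, V) Γ(X, O) N
  have h3 := (TildeD.isPseudoCoherentD_tildeD_iff (A := Γ(X, O)) _ m).2
    ((Groth.DAlg.isPseudoCoherent'_iff_forall).1 hpc m)
  let e : (DCoh.tildeD (CommRingCat.of Γ(X, O))).obj (Dual.inD Γ(X, O) N) ≅
      (Rd j).obj (DCoh.inD X M) :=
    (DCoh.tildeD _).mapIso ((DerivedCategory.singleFunctorIsoCompQ _ 0).app N) ≪≫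
      (tilde.functor (CommRingCat.of Γ(X, O))).mapDerivedCategoryFactors.app K ≪≫
      DerivedCategory.Q.mapIso ((HomologicalComplex.singleMapHomologicalComplex
        (tilde.functor (CommRingCat.of Γ(X, O))) up 0).app N ≪≫
          (single _ up 0).mapIso I) ≪≫
      ((DerivedCategory.singleFunctorIsoCompQ _ 0).app M₁).symm ≪≫ (rdInDIso j M).symm
  obtain ⟨z, hz⟩ : ∃ z, j z = x := by
    have : x ∈ Set.range j := by rw [hO.range_fromSpec]; exact hxO
    exact this
  exact hz ▸ pcohOn_of_rd j (isPseudoCoherentD_of_iso e h3) z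

/-- a bounded complex of `S`-flat modules of finite presentation is pseudo-coherent -/
theorem pc_of_bounded (f : X ⟶ S) [Flat f] [LocallyOfFinitePresentation f]
    (G : CochainComplex X.Modules ℤ) {a b : ℤ} (hG : DCoh.VanishesOutside G a b)
    (h : ∀ i, CohB1.IsFP (G.X i) ∧ FlatMod.IsFlatOver f (G.X i)) (m : ℤ) :
    DCoh.IsPseudoCoherentD m (DCoh.toD X G) := by
  refine Groth.DAlg.bounded_induction (fun K : DCoh.D X => ∀ n : ℤ, DCoh.IsPseudoCoherentD n K)
    (fun _ _ e h n => isPseudoCoherentD_of_iso e (h n))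
    (fun T hT h₁ h₃ n => isPseudoCoherentD_obj₂ T hT (h₁ n) (h₃ n))
    (fun K hK n => isPseudoCoherentD_of_isPerfect (Groth.KTheory.Perf.isPerfect_of_isZero hK) n)
    G a b hG (fun i n => ?_) m
  refine isPseudoCoherentD_of_shift (m := n - i) i n (by omega) ?_
  exact isPseudoCoherentD_of_iso
    (((DerivedCategory.singleFunctors X.Modules).shiftIso i 0 i (by omega)).app (G.X i)).symm
    (pc_flat_fp f (h i).1 (h i).2 (n - i))

/-- `S`-perfect objects are locally bounded complexes of `S`-flat modules of finite presentation -/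
theorem exists_fp_flat_model (f : X ⟶ S) [Flat f] {E : DCoh.D X}
    (hpc : ∀ m : ℤ, DCoh.IsPseudoCoherentD m E) (hamp : RelAmp.LocAmp f E) (x : X) :
    ∃ (V : X.Opens) (G : CochainComplex (V : Scheme.{u}).Modules ℤ) (a b : ℤ), x ∈ V ∧
      DCoh.VanishesOutside G a b ∧
      (∀ i, CohB1.IsFP (G.X i) ∧ FlatMod.IsFlatOver (V.ι ≫ f) (G.X i)) ∧
      Nonempty (DCoh.toD _ G ≅ (Rd V.ι).obj E) := by
  obtain ⟨V₀, a, b, hx₀, hV₀⟩ := hamp x
  obtain ⟨W, hxW, hW⟩ := (isPseudoCoherentD_iff (a - 1) E).1 (hpc _) x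
  let V := V₀ ⊓ W
  obtain ⟨P, α, hP, hα⟩ := hW.mono_open (inf_le_right : V ≤ W)
  have hK : ∀ v, AmpAt (V.ι ≫ f) a b ((Rd V.ι).obj E) v := fun v =>
    (RelAmp.ampAt_rd_iff V.ι v f E a b).2 (hV₀ _ v.2.1)
  obtain ⟨Y, g, s, hs, hfac⟩ : ∃ (Y : CochainComplex (V : Scheme.{u}).Modules ℤ) (g : P ⟶ Y)
      (e : DCoh.toD _ Y ≅ (Rd V.ι).obj E), Near (a - 1) (DerivedCategory.Q.map g) ∧
        DerivedCategory.Q.map g ≫ e.hom = α := by
    obtain ⟨F, ⟨iF⟩⟩ := Groth.KTheory.Perf.exists_rep ((Rd V.ι).obj E)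
    obtain ⟨Y, g, t, ht, hfac⟩ := DerivedCategory.left_fac (α ≫ iF.inv)
    refine ⟨Y, g, (@asIso _ _ _ _ (DerivedCategory.Q.map t) ht).symm ≪≫ iF, ?_, ?_⟩
    · have : DerivedCategory.Q.map g = α ≫ iF.inv ≫ DerivedCategory.Q.map t := by
        rw [← Category.assoc, hfac]; simp
      rw [this]
      exact hα.comp ((near_of_isIso _).comp (@near_of_isIso _ _ _ _ _ _ _ (DerivedCategory.Q.map t) ht))
    · simp only [Iso.trans_hom, Iso.symm_hom, asIso_inv]
      rw [← Category.assoc, ← hfac, Category.assoc, Iso.inv_hom_id, Category.comp_id]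
  have hY : ∀ v, AmpAt (V.ι ≫ f) a b (DCoh.toD _ Y) v := fun v => (hK v).of_iso s.symm
  haveI : Y.IsGE a := (CochainComplex.isGE_iff Y a).2 fun i hi => RelAmp.exactAt_of_ampAt Y (.inl hi) hY
  obtain ⟨⟨pa, pb, hpab⟩, hfl⟩ := id hP
  have hq : ∀ i, a ≤ i → IsIso (homologyMap g i) := fun i hi =>
    ((MorphismProperty.isomorphisms _).arrow_mk_iso_iff
      (Arrow.isoOfNatIso (DerivedCategory.homologyFunctorFactors _ i) (Arrow.mk g))).1 (hs.1 i (by omega))
  haveI : QuasiIso (CochainComplex.truncGEMap g a) :=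
    (CochainComplex.quasiIso_truncGEMap_iff g a).2 fun i hi => by
      rw [quasiIsoAt_iff_isIso_homologyMap]
      exact hq i hi
  let C := P.truncGE a
  let eC : DCoh.toD _ C ≅ (Rd V.ι).obj E :=
    asIso (DerivedCategory.Q.map (CochainComplex.truncGEMap g a)) ≪≫
      (asIso (DerivedCategory.Q.map (Y.πTruncGE a))).symm ≪≫ s
  have hC : DCoh.VanishesOutside C a (max pb a) := fun i hi => by
    rcases hi with hi | hi
    · exact C.isZero_of_isStrictlyGE a i hi
    · exact (P.truncGEXIso a i (by omega)).isZero_iff.2 (hpab i (.inr (by omega)))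
  have hflat : ∀ i, a < i → FlatMod.IsFlatOver (V.ι ≫ f) (C.X i) := fun i hi =>
    RelAmp.isFlatOver_of_iso (P.truncGEXIso a i hi).symm
      (RelAmp.isFlatOver_of_isFlat (isFlat_of_isFinLocFree (hfl i)))
  refine ⟨V, C, a, max pb a, ⟨hx₀, hxW⟩, hC, fun i => ?_, ⟨eC⟩⟩
  rcases lt_trichotomy i a with hi | rfl | hi
  · exact ⟨Groth.PropsBasic.LocFree.isFP_of_isFinLocFree _
        (Groth.KTheory.LocFree.isFinLocFree_zero (hC i (.inl hi))),
      RelAmp.isFlatOver_of_isZero (hC i (.inl hi))⟩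
  · refine ⟨?_, RelAmp.isFlatOver_of_flat_stalkOver fun v => ?_⟩
    · have := Groth.KTheory.LocFree.isQCoh (hfl (i - 1))
      have := Groth.KTheory.LocFree.isQCoh (hfl i)
      exact Groth.Pi1FPDesc.isFP_of_iso (P.truncGEXIsoOpcycles i ≪≫
          IsColimit.coconePointUniqueUpToIso (P.opcyclesIsCokernel (i - 1) i (by simp))
            (cokernelIsCokernel _)).symm
        (Groth.QCohMod.isFP_cokernel_of_isFT _ (Groth.PropsBasic.LocFree.isFP_of_isFinLocFree _ (hfl i))
          (Groth.PropsBasic.LocFree.isFT_of_isFP _ (Groth.PropsBasic.LocFree.isFP_of_isFinLocFree _ (hfl (i - 1)))))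
    · exact flat_bottom ((DerSch.stalkCxOver (V.ι ≫ f) v).obj C)
        (fun k hk => (DerSch.stalkOver (V.ι ≫ f) v).map_isZero (hC k hk))
        (fun k hk => RelAmp.flat_stalkOver (hflat k hk) v)
        ((RelAmp.ampAt_toD_iff C i b v).1 ((hK v).of_iso eC.symm))
  · exact ⟨Groth.Pi1FPDesc.isFP_of_iso (P.truncGEXIso a i hi).symm
      (Groth.PropsBasic.LocFree.isFP_of_isFinLocFree _ (hfl i)), hflat i hi⟩

end Groth.DerivedCoh.RelPerfectFP
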