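import Groth.Agent.DerivedCoh.RelAmpTilde
import Groth.Agent.DerivedCoh.RelPerfectFP
import Groth.Agent.S7264
import Mathlib.AlgebraicGeometry.Morphisms.Flat

/-!
Relative perfection read on affine charts.
-/

universe u

open CategoryTheory CategoryTheory.Limits AlgebraicGeometry HomologicalComplex

namespace Groth.DerivedCoh.RelPerfectAffine

open Groth.DerivedCoh Groth.DerivedCoh.PCoh
open Groth.DerivedCoh.RelAmp (AmpAt LocAmp)
open Groth.KTheory.Perf (Rd rdQIso nonempty_rdComp rc_isStrictlyPerfect)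

attribute [local instance] HasDerivedCategory.standard

local notation "up" => ComplexShape.up ℤ

variable {X S T U : Scheme.{u}}

lemma isPseudoCoherentD_rd (j : U ⟶ X) [IsOpenImmersion j] {m : ℤ} {L : DCoh.D X}
    (h : DCoh.IsPseudoCoherentD m L) : DCoh.IsPseudoCoherentD m ((Rd j).obj L) := by
  rw [isPseudoCoherentD_iff] at h ⊢
  intro u
  obtain ⟨V, hx, E, α, hE, hα⟩ := h (j u)
  obtain ⟨c₁⟩ := nonempty_rdComp (k := (j ⁻¹ᵁ V).ι) (j := j) (l := (j ∣_ V) ≫ V.ι) (morphismRestrict_ι j V) L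
  obtain ⟨c₂⟩ := nonempty_rdComp (k := j ∣_ V) (j := V.ι) (l := (j ∣_ V) ≫ V.ι) rfl L
  exact ⟨j ⁻¹ᵁ V, hx, _, (rdQIso (j ∣_ V) E).inv ≫ (Rd (j ∣_ V)).map α ≫ c₂.inv ≫ c₁.hom,
    rc_isStrictlyPerfect _ hE, (near_of_isIso _).comp ((near_rd _ hα).comp (near_of_isIso _))⟩

/-- stalks over the base, after an open immersion of the base -/
noncomputable def stalkOverCompBaseIso (g : X ⟶ T) (i : T ⟶ S) (x : X) :
    DerSch.stalkOver (g ≫ i) x ≅
      DerSch.stalkOver g x ⋙ ModuleCat.restrictScalars (i.stalkMap (g.base x)).hom :=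
  Functor.isoWhiskerLeft _ (ModuleCat.restrictScalarsComp' (i.stalkMap (g.base x)).hom
    (g.stalkMap x).hom ((g ≫ i).stalkMap x).hom (by rw [Scheme.Hom.stalkMap_comp]; rfl)) ≪≫
    (Functor.associator _ _ _).symm

/-- tor amplitude along a bijective map of rings -/
theorem torAmp_res_bijective {A B : Type u} [CommRing A] [CommRing B] (σ : A →+* B)
    (hσ : Function.Bijective σ) (E : DRing.Cx B) (a b : ℤ) :
    DRing.HasTorAmplitudeIn A a b (DRing.toD ((DRing.restrictCx σ).obj E)) ↔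
      DRing.HasTorAmplitudeIn B a b (DRing.toD E) := by
  letI := σ.toAlgebra
  constructor
  · intro h
    haveI : IsLocalization (⊥ : Submonoid A) A := IsLocalization.self bot_le
    exact RelAmpTilde.torAmp_of_localization σ ⊥ (IsLocalization.isLocalization_of_algEquiv ⊥
      (AlgEquiv.ofBijective (Algebra.ofId A B) hσ)) E a b h
  · intro h
    haveI : Module.Flat A B := RingHom.Flat.of_bijective (f := σ) hσ
    have h' := Groth.DAlg.TorAmp.restrict (A := A) (d := 0)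
      (Groth.DAlg.TorAmp.mono (Groth.DAlg.torAmp_mD_of_flat (ModuleCat.of A B)) (by simp) le_rfl) h
    rw [Nat.cast_zero, sub_zero] at h'
    exact Groth.DAlg.TorAmp.of_iso h' (Groth.DAlg.resQIso σ E)

/-- an open immersion of the base does not change the amplitude -/
theorem ampAt_comp_base (g : X ⟶ T) (i : T ⟶ S) [IsOpenImmersion i] (K : DCoh.D X) (a b : ℤ) (x : X) :
    AmpAt (g ≫ i) a b K x ↔ AmpAt g a b K x := by
  obtain ⟨F, ⟨e⟩⟩ := Groth.KTheory.Perf.exists_rep K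
  let σ := (i.stalkMap (g.base x)).hom
  let E := (DerSch.stalkCxOver g x).obj F
  let eC : DRing.toD ((DerSch.stalkCxOver (g ≫ i) x).obj F) ≅ DRing.toD ((DRing.restrictCx σ).obj E) :=
    DerivedCategory.Q.mapIso (HomologicalComplex.Hom.isoOfComponents
      (fun k => (stalkOverCompBaseIso g i x).app (F.X k))
      fun k l _ => ((stalkOverCompBaseIso g i x).hom.naturality (F.d k l)).symm)
  have hb := torAmp_res_bijective σ (ConcreteCategory.bijective_of_isIso (i.stalkMap (g.base x))) E a b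
  refine ⟨fun h => AmpAt.of_iso ((RelAmp.ampAt_toD_iff F a b x).2 ?_) e,
    fun h => AmpAt.of_iso ((RelAmp.ampAt_toD_iff F a b x).2 ?_) e⟩
  · exact hb.1 (Groth.DAlg.TorAmp.of_iso ((RelAmp.ampAt_toD_iff F a b x).1 (h.of_iso e.symm)) eC)
  · exact Groth.DAlg.TorAmp.of_iso (hb.2 ((RelAmp.ampAt_toD_iff F a b x).1 (h.of_iso e.symm))) eC.symm

theorem locAmp_comp_base (g : X ⟶ T) (i : T ⟶ S) [IsOpenImmersion i] (K : DCoh.D X) :
    LocAmp (g ≫ i) K ↔ LocAmp g K :=
  forall_congr' fun _ => exists_congr fun _ => exists_congr fun a => exists_congr fun b =>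
    and_congr_right fun _ => forall_congr' fun y => imp_congr_right fun _ => ampAt_comp_base g i K a b y

theorem locAmp_rd (j : U ⟶ X) [IsOpenImmersion j] (f : X ⟶ S) {K : DCoh.D X} (h : LocAmp f K) :
    LocAmp (j ≫ f) ((Rd j).obj K) := fun v => by
  obtain ⟨W, a, b, hW, hamp⟩ := h (j v)
  exact ⟨j ⁻¹ᵁ W, a, b, hW, fun y hy => (RelAmp.ampAt_rd_iff j y f K a b).2 (hamp _ hy)⟩

theorem exists_amp_of_rd (j : U ⟶ X) [IsOpenImmersion j] (f : X ⟶ S) {K : DCoh.D X}
    (h : LocAmp (j ≫ f) ((Rd j).obj K)) (v : U) :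
    ∃ (W : X.Opens) (a b : ℤ), j v ∈ W ∧ ∀ y ∈ W, AmpAt f a b K y := by
  obtain ⟨W, a, b, hW, hamp⟩ := h v
  exact ⟨j ''ᵁ W, a, b, ⟨v, hW, rfl⟩, fun y ⟨z, hz, hzy⟩ =>
    hzy ▸ (RelAmp.ampAt_rd_iff j z f K a b).1 (hamp z hz)⟩

/-- relative perfection on an affine chart -/
theorem chart_iff (f : X ⟶ S) [Flat f] [LocallyOfFinitePresentation f] {O : X.Opens} (hO : IsAffineOpen O)
    {V : S.Opens} (hV : IsAffineOpen V) (hOV : O ≤ f ⁻¹ᵁ V)
    [PreservesFiniteLimits (tilde.functor Γ(X, O))]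
    (E : DCoh.D X) (M : DerivedCategory (ModuleCat.{u} Γ(X, O)))
    (e : (Rd hO.fromSpec).obj E ≅ (DCoh.tildeD Γ(X, O)).obj M) :
    ((∀ m : ℤ, DCoh.IsPseudoCoherentD m ((Rd hO.fromSpec).obj E)) ∧
        LocAmp (hO.fromSpec ≫ f) ((Rd hO.fromSpec).obj E)) ↔
      @Dual2.IsRelPerfect Γ(S, V) Γ(X, O) _ _ (f.appLE V O hOV).hom.toAlgebra M := by
  letI := (f.appLE V O hOV).hom.toAlgebra
  haveI : Algebra.FinitePresentation Γ(S, V) Γ(X, O) := f.finitePresentation_appLE hV hO hOV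
  haveI : Module.Flat Γ(S, V) Γ(X, O) := Flat.flat_appLE f hV hO hOV
  haveI : PreservesFiniteLimits (tilde.functor (CommRingCat.of Γ(X, O))) :=
    inferInstanceAs (PreservesFiniteLimits (tilde.functor Γ(X, O)))
  let g := Spec.map (CommRingCat.ofHom (algebraMap Γ(S, V) Γ(X, O)))
  haveI : Flat g := (HasRingHomProperty.Spec_iff (P := @Flat)).2 (RingHom.flat_algebraMap_iff.2 inferInstance)
  have hg : g ≫ hV.fromSpec = hO.fromSpec ≫ f := IsAffineOpen.SpecMap_appLE_fromSpec f hV hO hOV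
  rw [← Groth.Agent.S7264.result Γ(S, V) Γ(X, O) M, RelAmp.locHasFiniteRelTorDim_iff, ← hg]
  refine and_congr (forall_congr' fun m => ⟨isPseudoCoherentD_of_iso e, isPseudoCoherentD_of_iso e.symm⟩) ?_
  exact (locAmp_comp_base g hV.fromSpec _).trans ⟨fun h => h.of_iso e, fun h => h.of_iso e.symm⟩

end Groth.DerivedCoh.RelPerfectAffine
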