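import Groth.Agent.DerivedCoh.RelPerfectBC
import Groth.Agent.DAlg.RelPerfectBC
import Groth.Agent.DAlg.ResTot
import Groth.Agent.S7094

/-!
Relative perfection and boundedness on the fibres.
-/

universe u

open CategoryTheory CategoryTheory.Limits AlgebraicGeometry HomologicalComplex
open scoped TensorProduct

namespace Groth.DerivedCoh.RelPerfectFibre

open Groth.DerivedCoh Groth.DerivedCoh.PCoh
open Groth.DerivedCoh.RelAmp (AmpAt LocAmp)
open Groth.KTheory.Perf (Rd rdQIso exists_rep nonempty_hdRd isZero_of_local)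

attribute [local instance] HasDerivedCategory.standard
set_option linter.style.haveILetI false

local notation "up" => ComplexShape.up ℤ

variable {X U S : Scheme.{u}}

/-- the chart of a base change at an affine chart of the base change morphism -/
theorem exists_bc_chart {S' : Scheme.{u}} (f : X ⟶ S) (g : S' ⟶ S) [DCoh.HasLpull (pullback.fst f g)]
    {V : S.Opens} (hV : IsAffineOpen V) {O : X.Opens} (hO : IsAffineOpen O) (hOV : O ≤ f ⁻¹ᵁ V)
    (R' : Type u) [CommRing R'] [Algebra Γ(S, V) R'] (i' : Spec (CommRingCat.of R') ⟶ S')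
    [IsOpenImmersion i'] (eψ : Spec.map (CommRingCat.ofHom (algebraMap Γ(S, V) R')) ≫ hV.fromSpec = i' ≫ g) :
    letI := (f.appLE V O hOV).hom.toAlgebra
    ∃ (h : Spec (CommRingCat.of (R' ⊗[Γ(S, V)] Γ(X, O))) ⟶ pullback f g) (_ : IsOpenImmersion h),
      Set.range h = pullback.fst f g ⁻¹' (O : Set X) ∩ pullback.snd f g ⁻¹' Set.range i' ∧
      h ≫ pullback.fst f g = Spec.map (CommRingCat.ofHom
        ((Algebra.TensorProduct.includeRight : Γ(X, O) →ₐ[Γ(S, V)] R' ⊗[Γ(S, V)] Γ(X, O)).toRingHom)) ≫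
          hO.fromSpec := by
  letI := (f.appLE V O hOV).hom.toAlgebra
  let φ := Spec.map (f.appLE V O hOV)
  let ψ' := Spec.map (CommRingCat.ofHom (algebraMap Γ(S, V) R'))
  have eφ : φ ≫ hV.fromSpec = hO.fromSpec ≫ f := IsAffineOpen.SpecMap_appLE_fromSpec f hV hO hOV
  let σ := pullback.map φ ψ' f g hO.fromSpec i' hV.fromSpec eφ eψ
  haveI : IsOpenImmersion σ := by
    change IsOpenImmersion (pullback.map _ _ _ _ _ _ _ _ _)
    rw [pullback_map_eq_pullbackFstFstIso_inv]
    infer_instance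
  have hσ₁ : σ ≫ pullback.fst f g = pullback.fst φ ψ' ≫ hO.fromSpec := pullback.lift_fst _ _ _
  let sy := pullbackSymmetry φ ψ'
  let π : Spec (CommRingCat.of (R' ⊗[Γ(S, V)] Γ(X, O))) ⟶ pullback ψ' φ :=
    (pullbackSpecIso Γ(S, V) R' Γ(X, O)).inv
  haveI : IsIso π := inferInstanceAs (IsIso (pullbackSpecIso Γ(S, V) R' Γ(X, O)).inv)
  refine ⟨π ≫ sy.inv ≫ σ, inferInstance, ?_, ?_⟩
  · rw [← hO.range_fromSpec, ← Scheme.Pullback.range_map φ ψ' f g hO.fromSpec i' hV.fromSpec eφ eψ]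
    ext x
    constructor
    · rintro ⟨z, rfl⟩
      exact ⟨sy.inv (π z), by rw [← Scheme.Hom.comp_apply, ← Scheme.Hom.comp_apply]⟩
    · rintro ⟨w, rfl⟩
      refine ⟨(inv π) (sy.hom w), ?_⟩
      rw [← Scheme.Hom.comp_apply, ← Scheme.Hom.comp_apply]
      simp only [IsIso.inv_hom_id_assoc, Iso.hom_inv_id_assoc]
      rfl
  · simp only [Category.assoc, hσ₁]
    rw [pullbackSymmetry_inv_comp_fst_assoc, ← Category.assoc, show π ≫ pullback.snd ψ' φ = _ from
      pullbackSpecIso_inv_snd _ _ _]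
    rfl

/-- locally of finite amplitude over the base gives locally bounded below -/
theorem exists_isGE_of_locAmp {g : X ⟶ S} {L : DCoh.D X} (h : LocAmp g L) (x : X) :
    ∃ (W : X.Opens) (a : ℤ), x ∈ W ∧ ((Rd W.ι).obj L).IsGE a := by
  obtain ⟨W, a, b, hx, hW⟩ := h x
  refine ⟨W, a, hx, (DerivedCategory.isGE_iff _ a).2 fun i hi => ?_⟩
  obtain ⟨F, ⟨e⟩⟩ := exists_rep ((Rd W.ι).obj L)
  refine KFlat.isZero_hd_of_iso e.symm ((KFlat.isZero_hd_toD_iff F i).2
    (RelAmp.exactAt_of_ampAt (f := W.ι ≫ g) (a := a) (b := b) F (.inl hi) fun v => ?_))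
  exact ((RelAmp.ampAt_rd_iff W.ι v g L a b).2 (hW _ v.2)).of_iso e.symm

/-- locally bounded below is bounded below on quasi-compact pieces -/
theorem exists_bound (h : U ⟶ X) [IsOpenImmersion h] [CompactSpace U] {L : DCoh.D X}
    (hL : ∀ z : U, ∃ (W : X.Opens) (a : ℤ), h z ∈ W ∧ ((Rd W.ι).obj L).IsGE a) :
    ∃ a : ℤ, ∀ i, i < a → IsZero (DCoh.HD ((Rd h).obj L) i) := by
  choose W a hz hW using hL
  obtain ⟨t, ht⟩ := isCompact_univ.elim_finite_subcover (fun z => ((h ⁻¹ᵁ W z : U.Opens) : Set U))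
    (fun z => (h ⁻¹ᵁ W z).2) (fun z _ => Set.mem_iUnion.2 ⟨z, hz z⟩)
  obtain ⟨lo, hlo⟩ := (t.image a).bddBelow
  refine ⟨lo, fun i hi => ((?_ : IsZero ((DCoh.HD L i).restrict h))).of_iso (nonempty_hdRd h L i).some⟩
  refine isZero_of_local fun z => ?_
  obtain ⟨w, hw, hzw⟩ := Set.mem_iUnion₂.1 (ht (Set.mem_univ z))
  have hGE := hW w
  have h0 : IsZero ((DCoh.HD L i).restrict (W w).ι) :=
    (((DerivedCategory.isGE_iff _ (a w)).1 hGE i
      (lt_of_lt_of_le hi (hlo (Finset.mem_coe.2 (Finset.mem_image_of_mem a hw)))))).of_iso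
        (nonempty_hdRd (W w).ι L i).some.symm
  refine ⟨h ⁻¹ᵁ W w, hzw, IsZero.of_iso ((Scheme.Modules.restrictFunctor (h ∣_ W w)).map_isZero h0) ?_⟩
  exact ((Scheme.Modules.restrictFunctorComp _ _).app _).symm ≪≫
    (Scheme.Modules.restrictFunctorCongr (morphismRestrict_ι h (W w)).symm).app _ ≪≫
    (Scheme.Modules.restrictFunctorComp _ _).app _

/-- vanishing of `κ ⊗ᴸ X` from vanishing of the derived base change -/
theorem subsingleton_lTensor_of_lBaseChange {R R' : Type u} [CommRing R] [CommRing R'] [Algebra R R']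
    [DRing.HasLTensor R (ModuleCat.of R R')] [DRing.HasLBaseChange (algebraMap R R')]
    {K : Dual.D R} {b : ℤ} (hb : ∀ i, b < i → Subsingleton (Dual.HD R K i)) {i : ℤ}
    (h : Subsingleton (Dual.HD R' ((DRing.LBaseChange (algebraMap R R')).obj K) i)) :
    Subsingleton (Dual.HD R ((DRing.LTensor R (ModuleCat.of R R')).obj K) i) := by
  open Groth.DAlg in
  obtain ⟨P, hP, hfree, ⟨e⟩⟩ := exists_free_rep R hb
  have hflat : DRing.TermwiseFlat P := fun i => haveI := hfree i; inferInstance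
  obtain ⟨e₁⟩ := nonempty_lTensorFlatIso P hP hflat (ModuleCat.of R R')
  obtain ⟨e₂⟩ := nonempty_lBaseChangeFlatIso (algebraMap R R') P hP hflat
  have hz : IsZero ((extCx (algebraMap R R') P).homology i) := isZero_homology_of_subsingleton
    (HDCongr (e₂.symm ≪≫ (DRing.LBaseChange (algebraMap R R')).mapIso e) i).toEquiv.subsingleton
  let eM : (ModuleCat.restrictScalars (algebraMap R R')).obj (ModuleCat.of R' R') ≅ ModuleCat.of R R' :=
    (AddEquiv.toLinearEquiv (M := (ModuleCat.restrictScalars (algebraMap R R')).obj (ModuleCat.of R' R'))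
      (M₂ := R')
      { toFun := fun z => z, invFun := fun z => z, left_inv := fun _ => rfl, right_inv := fun _ => rfl,
        map_add' := fun _ _ => rfl } fun r z => (Algebra.smul_def r (show R' from z)).symm).toModuleIso
  have hz' : IsZero ((DRing.tensorCx P (ModuleCat.of R R')).homology i) := by
    rw [← exactAt_iff_isZero_homology, ← exactAt_restrictCx_iff (algebraMap R R')] at hz
    rw [exactAt_iff_isZero_homology] at hz
    exact hz.of_iso ((homologyFunctor _ _ i).mapIso ((NatIso.mapHomologicalComplex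
      (extResNatIso (algebraMap R R') ≪≫ (Groth.DAlg.KFlatMod.T R).mapIso eM ≪≫
        BraidedCategory.tensorLeftIsoTensorRight _) up).app P)).symm
  haveI := subsingleton_HD_toD hz'
  exact (HDCongr (e₁.symm ≪≫ (DRing.LTensor R (ModuleCat.of R R')).mapIso e) i).symm.toEquiv.subsingleton

/-- boundedness below on the fibres gives finite tor amplitude over the base -/
theorem locAmp_of_bounded_fibres (f : X ⟶ S) [Flat f] [LocallyOfFinitePresentation f]
    [∀ s : S, DCoh.HasLpull (f.fiberι s)] (E : DCoh.D X) (hE : ∀ m : ℤ, DCoh.IsPseudoCoherentD m E)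
    (hbd : ∀ x : X, ∃ (W : X.Opens) (a : ℤ), x ∈ W ∧ ((Rd W.ι).obj E).IsGE a)
    (hfib : ∀ (s : S) (y : ↥(f.fiber s)), ∃ (W : (f.fiber s).Opens) (a : ℤ), y ∈ W ∧
      ((Rd W.ι).obj ((DCoh.Lpull (f.fiberι s)).obj E)).IsGE a) :
    LocAmp f E := by
  open Groth.DAlg in
  intro x
  obtain ⟨V, hV, hxV, -⟩ := exists_isAffineOpen_mem_and_subset (U := (⊤ : S.Opens)) (x := f x) trivial
  obtain ⟨O, hO, hxO, hOV⟩ := exists_isAffineOpen_mem_and_subset (U := f ⁻¹ᵁ V) (x := x) hxV
  letI := (f.appLE V O hOV).hom.toAlgebra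
  haveI : Algebra.FinitePresentation Γ(S, V) Γ(X, O) := f.finitePresentation_appLE hV hO hOV
  haveI : Module.Flat Γ(S, V) Γ(X, O) := Flat.flat_appLE f hV hO hOV
  haveI : ∀ B : CommRingCat.{u}, PreservesFiniteLimits (tilde.functor B) := fun B =>
    Groth.PropsBasic2.preservesFiniteLimits_tilde B
  haveI : ∀ N : ModuleCat.{u} Γ(S, V), DRing.HasLTensor Γ(S, V) N := hasLTensor
  obtain ⟨M, ⟨eM⟩⟩ := ((Groth.Agent.S0997.result Γ(X, O)).2.2 _).1
    (Groth.Misc4.QCohDPerf.isQCohD_restrict hO.fromSpec (RelPerfectBC.isQCohD_of_pc hE))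
  have hpcM : DRing.IsPseudoCoherent' Γ(X, O) M := isPseudoCoherent'_iff_forall.2 fun m =>
    (TildeD.isPseudoCoherentD_tildeD_iff (A := Γ(X, O)) M m).1
      (isPseudoCoherentD_of_iso eM.symm (RelPerfectAffine.isPseudoCoherentD_rd _ (hE m)))
  obtain ⟨E₀, b, hb₀, -, ⟨e₀⟩⟩ := id hpcM
  have hbM : ∀ i, b < i → Subsingleton (Dual.HD Γ(X, O) M i) := fun i hi =>
    subsingleton_HD_of_iso e₀ (hb₀ i hi)
  have hrel : Dual2.IsRelPerfect Γ(S, V) Γ(X, O) M := by
    refine (Groth.Agent.S7094.result Γ(S, V) Γ(X, O) M hpcM).2 ⟨?_, fun p => ?_⟩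
    · obtain ⟨a, ha⟩ := exists_bound hO.fromSpec fun z => hbd (hO.fromSpec z)
      exact ⟨a, fun i hi => ModuleCat.subsingleton_of_isZero ((TildeD.isZero_HD_iff (A := Γ(X, O)) M i).1
        ((ha i hi).of_iso ((DerivedCategory.homologyFunctor _ i).mapIso eM)))⟩
    · let R' : Type u := p.asIdeal.ResidueField
      let ψ : Γ(S, V) →+* R' := algebraMap Γ(S, V) R'
      let q₀ : Spec Γ(S, V) := p
      let s := hV.fromSpec q₀
      let i' : Spec (CommRingCat.of R') ⟶ Spec (S.residueField s) :=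
        Spec.map (Scheme.Spec.residueFieldIso Γ(S, V) p).hom ≫ Spec.map (hV.fromSpec.residueFieldMap q₀)
      haveI : IsOpenImmersion i' := inferInstanceAs (IsOpenImmersion (_ ≫ _))
      have eψ : Spec.map (CommRingCat.ofHom ψ) ≫ hV.fromSpec = i' ≫ S.fromSpecResidueField s := by
        simp only [i', Category.assoc]
        rw [Scheme.Hom.SpecMap_residueFieldMap_fromSpecResidueField,
          ← Scheme.Spec.map_residueFieldIso_inv_eq_fromSpecResidueField, ← Category.assoc,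
          ← Category.assoc, ← Spec.map_comp]
        simp [ψ]
        rfl
      haveI : DCoh.HasLpull (pullback.fst f (S.fromSpecResidueField s)) :=
        (inferInstance : DCoh.HasLpull (f.fiberι s))
      obtain ⟨h, _, -, h₁⟩ := exists_bc_chart f (S.fromSpecResidueField s) hV hO hOV R' i' eψ
      obtain ⟨a, ha⟩ := exists_bound h fun z => hfib s (h z)
      let incR : Γ(X, O) →+* R' ⊗[Γ(S, V)] Γ(X, O) := (Algebra.TensorProduct.includeRight :
        Γ(X, O) →ₐ[Γ(S, V)] R' ⊗[Γ(S, V)] Γ(X, O)).toRingHom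
      let q : Spec (CommRingCat.of (R' ⊗[Γ(S, V)] Γ(X, O))) ⟶ Spec Γ(X, O) := Spec.map (CommRingCat.ofHom incR)
      haveI hq : DCoh.HasLpull q := KFlat.hasLpull _
      letI : Algebra Γ(X, O) (R' ⊗[Γ(S, V)] Γ(X, O)) := incR.toAlgebra
      haveI : IsScalarTower Γ(S, V) Γ(X, O) (R' ⊗[Γ(S, V)] Γ(X, O)) :=
        IsScalarTower.of_algebraMap_eq fun r =>
          ((Algebra.TensorProduct.includeRight : Γ(X, O) →ₐ[Γ(S, V)] R' ⊗[Γ(S, V)] Γ(X, O)).commutes r).symm
      haveI : Algebra.IsPushout Γ(S, V) R' Γ(X, O) (R' ⊗[Γ(S, V)] Γ(X, O)) := inferInstance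
      haveI : DRing.HasLBaseChange (algebraMap Γ(X, O) (R' ⊗[Γ(S, V)] Γ(X, O))) := hasLBaseChange _
      haveI : DRing.HasLBaseChange incR := hasLBaseChange _
      haveI : DRing.HasLBaseChange (algebraMap Γ(S, V) R') := hasLBaseChange _
      obtain ⟨eB⟩ := Groth.Agent.S1055.result incR
      obtain ⟨eSq⟩ := RelPerfectBC.nonempty_rd_Lpull_square (pullback.fst f (S.fromSpecResidueField s)) h
        hO.fromSpec q h₁ E
      obtain ⟨eR⟩ := nonempty_res_lBaseChange_iso (R := Γ(S, V)) (A := Γ(X, O)) (R' := R')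
        (A' := R' ⊗[Γ(S, V)] Γ(X, O)) hbM
      refine ⟨a, fun i hi => ?_⟩
      have hz := (TildeD.isZero_HD_iff (A := R' ⊗[Γ(S, V)] Γ(X, O)) _ i).1 ((ha i hi).of_iso
        ((DerivedCategory.homologyFunctor _ i).mapIso
          (eB.app M ≪≫ (DCoh.Lpull _).mapIso eM ≪≫ eSq.symm)))
      refine subsingleton_lTensor_of_lBaseChange (R' := R') (b := b)
        (fun j hj => (resHD_subsingleton_iff _ M j).2 (hbM j hj)) ?_
      have := (resHD_subsingleton_iff (algebraMap R' (R' ⊗[Γ(S, V)] Γ(X, O))) _ i).2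
        (ModuleCat.subsingleton_of_isZero hz)
      exact (HDCongr eR i).toEquiv.subsingleton
  have hloc := ((RelPerfectAffine.chart_iff f hO hV hOV E M eM.symm).2 hrel).2
  obtain ⟨z, hz⟩ : ∃ z, hO.fromSpec z = x := by
    have : x ∈ Set.range hO.fromSpec := by rw [hO.range_fromSpec]; exact hxO
    exact this
  exact hz ▸ RelPerfectAffine.exists_amp_of_rd hO.fromSpec f hloc z

end Groth.DerivedCoh.RelPerfectFibre
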