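import Groth.Agent.OmegaSheaf.AffineHom
import Groth.Agent.OmegaSheaf.IdealMod
import Groth.Agent.LocFree.Affine
import Groth.Agent.PicAux.Sections
import Groth.Agent.QCohMod.ExtendFT
import Groth.Agent.QCohMod.OpenSupport
import Groth.Agent.EulerDeg.CartierDegree
import Groth.Agent.PropsBasic.LocFree
import Groth.Agent.CohBase.AffineHomCriterion
import Groth.Prelude.Def_PerfAux

/-!
The resolution property implies affine intersections of affine opens.
-/

universe u

open CategoryTheory CategoryTheory.Limits AlgebraicGeometry TopologicalSpace Opposite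

namespace Groth.DerivedCoh.ResPropAffineDiag

open Groth.PicAux (res oneSec homOfSection homOfSection_one)

set_option maxHeartbeats 1000000

/-- the sum of morphisms on sections -/
lemma sum_app {Y : Scheme.{u}} {M N : Y.Modules} {ι : Type} (s : Finset ι) (f : ι → (M ⟶ N)) (U : Y.Opens)
    (x : Γ(M, U)) : (∑ i ∈ s, f i).app U x = ∑ i ∈ s, (f i).app U x := by
  classical
  induction s using Finset.induction_on with
  | empty => rfl
  | insert a s ha ih =>
    rw [Finset.sum_insert ha, Finset.sum_insert ha, ← ih]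
    rfl

/-- the value of the morphism attached to a section -/
lemma homOfSection_app {Y : Scheme.{u}} {M : Y.Modules} (e : Γ(M, ⊤)) (W : Y.Opens) (c : Γ(Y, W)) :
    (homOfSection e).app W c = c • res M le_top e := by
  have h1 : (homOfSection e).app W (oneSec Y W) = res M le_top e := by
    refine Eq.trans ?_ (congrArg (res M le_top) (homOfSection_one e))
    refine Eq.trans ?_ (Groth.PicAux.app_res (homOfSection e) le_top (oneSec Y ⊤))
    exact congrArg ((homOfSection e).app W) (map_one (Y.presheaf.map (homOfLE (le_top : W ≤ ⊤)).op).hom).symm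
  rw [← h1]
  refine Eq.trans ?_ (Scheme.Modules.Hom.app_smul (homOfSection e) c (oneSec Y W))
  exact congrArg ((homOfSection e).app W) (mul_one c).symm

/-- sections of a finite locally free module on an affine scheme are spanned by global ones -/
theorem exists_span {Y : Scheme.{u}} [IsAffine Y] {N : Y.Modules} (hN : FlatMod.IsFinLocFree N) :
    ∃ (n : ℕ) (e : Fin n → Γ(N, ⊤)), ∀ (W : Y.Opens) (σ : Γ(N, W)),
      ∃ c : Fin n → Γ(Y, W), σ = ∑ j, c j • res N le_top (e j) := by
  obtain ⟨hfin, hproj⟩ := Groth.LocFree.finite_projective_sections hN (isAffineOpen_top Y)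
  haveI := hfin
  haveI := hproj
  haveI : N.IsQuasicoherent := Groth.KTheory.LocFree.isQCoh hN
  obtain ⟨n, p, hp⟩ := Module.Finite.exists_fin' Γ(Y, ⊤) Γ(N, ⊤)
  obtain ⟨s, hs⟩ := Module.projective_lifting_property p LinearMap.id hp
  let e : Fin n → Γ(N, ⊤) := fun j => p (Pi.single j 1)
  choose A hA using fun j => Groth.OmegaSheaf.exists_hom_of_linear (M := N)
    (F := Coh.structureModule Y) ((LinearMap.proj j).comp s).toAddMonoidHom
    (fun r m => ((LinearMap.proj j).comp s).map_smul r m)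
  have hid : (∑ j, A j ≫ homOfSection (e j)) = 𝟙 N := Groth.OmegaSheaf.hom_ext_of_top fun m => by
    rw [sum_app]
    refine Eq.trans (Finset.sum_congr rfl fun j _ => ?_)
      (show ∑ j, s m j • e j = m from ?_)
    · show (homOfSection (e j)).app ⊤ ((A j).app ⊤ m) = _
      rw [hA j m, homOfSection_app, Groth.PicAux.res_self]
      rfl
    · conv_rhs => rw [← show p (s m) = m from LinearMap.congr_fun hs m, pi_eq_sum_univ' (s m)]
      rw [map_sum]
      simp [e, map_smul]
  refine ⟨n, e, fun W σ => ⟨fun j => (A j).app W σ, ?_⟩⟩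
  conv_lhs => rw [show σ = (𝟙 N : N ⟶ N).app W σ from rfl, ← hid, sum_app]
  exact Finset.sum_congr rfl fun j _ => homOfSection_app (e j) W _

/-- a quasi-compact open of an affine scheme cut out by values of a map from a vector bundle -/
theorem isAffineOpen_of_hom {Y : Scheme.{u}} [IsAffine Y] {N : Y.Modules} (hN : FlatMod.IsFinLocFree N)
    (ψ : N ⟶ Coh.structureModule Y) (W : Y.Opens) (σ : Γ(N, W)) (hσ : ψ.app W σ = oneSec Y W)
    (hvan : ∀ t : Γ(N, ⊤), Y.basicOpen (show Γ(Y, ⊤) from ψ.app ⊤ t) ≤ W) : IsAffineOpen W := by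
  obtain ⟨n, e, he⟩ := exists_span hN
  obtain ⟨c, hc⟩ := he W σ
  let f : Fin n → Γ(Y, ⊤) := fun j => ψ.app ⊤ (e j)
  let g : Fin n → Γ(Y, W) := fun j => Y.presheaf.map (homOfLE (le_top : W ≤ ⊤)).op (f j)
  have h1 : (1 : Γ(Y, W)) = ∑ j, c j * g j := by
    refine Eq.trans hσ.symm ?_
    rw [hc, map_sum]
    refine Finset.sum_congr rfl fun j _ => ?_
    refine (Scheme.Modules.Hom.app_smul ψ (c j) (res N le_top (e j))).trans ?_
    exact congrArg (fun z => c j * z) (Groth.PicAux.app_res ψ (le_top : W ≤ ⊤) (e j))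
  refine isAffineOpen_of_isAffineOpen_basicOpen W (Set.range g) ?_ ?_
  · rw [Ideal.eq_top_iff_one, h1]
    exact sum_mem fun j _ => Ideal.mul_mem_left _ _ (Ideal.subset_span ⟨j, rfl⟩)
  · rintro _ ⟨j, rfl⟩
    have : Y.basicOpen (g j) = Y.basicOpen (f j) :=
      (Y.basicOpen_res (f j) (homOfLE (le_top : W ≤ ⊤)).op).trans (inf_eq_right.2 (hvan (e j)))
    rw [this]
    exact (isAffineOpen_top Y).basicOpen _

/-- on a scheme with the resolution property two affine opens meet in an affine open -/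
theorem isAffineOpen_inf {X : Scheme.{u}} [CompactSpace X] [QuasiSeparatedSpace X]
    (hX : PerfAux.HasResolutionProperty X) {U V : X.Opens} (hU : IsAffineOpen U) (hV : IsAffineOpen V) :
    IsAffineOpen (U ⊓ V) := by
  let I := Scheme.IdealSheafData.vanishingIdeal ⟨(U : Set X)ᶜ, U.2.isClosed_compl⟩
  have hsupp : ∀ x, x ∈ (U : Set X) → x ∉ (I.support : Set X) := fun x hx h => by
    rw [Scheme.IdealSheafData.coe_support_vanishingIdeal] at h
    exact h hx
  let F := ClSub.idealMod I
  let S := ShortComplex.mk (ClSub.idealModι I) (ClSub.toSubscheme I) (kernel.condition (ClSub.toSubscheme I))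
  let R := Scheme.Modules.restrictFunctor U.ι
  have hq0 : IsZero (R.obj (ClSub.quotMod I)) :=
    (Groth.QCohMod.isZero_restrict_iff_stalk _ U).2 fun x hx => by
      have h' : Subsingleton ((ClSub.quotMod I).presheaf.stalk x) := not_not.1 fun h =>
        hsupp x hx (Groth.EulerDeg.support_quotMod_subset I h)
      haveI : Subsingleton ↑((Groth.QCohMod.stalk x).obj (ClSub.quotMod I)) := h'
      exact AddCommGrpCat.isZero_of_subsingleton _
  haveI : PreservesFiniteLimits R := Groth.CohBase.preservesFiniteLimits_restrictFunctor U.ι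
  haveI : PreservesFiniteColimits R := ⟨fun _ _ _ => inferInstance⟩
  have hSR : (S.map R).ShortExact := (Groth.PicAux.shortExact_idealMod I).map_of_exact R
  haveI hiso : IsIso (R.map (ClSub.idealModι I)) := hSR.isIso_f_iff.2 hq0
  -- extend the restricted ideal to a submodule of finite type
  have hG : CohB1.IsFT (R.obj F) := by
    have e : R.obj F ≅ Coh.structureModule (U : Scheme.{u}) :=
      asIso (R.map (ClSub.idealModι I)) ≪≫ Scheme.Modules.restrictUnitIso U.ι
    exact Groth.QCohMod.isFT_of_iso e.symm (Groth.PropsBasic.LocFree.isFT_of_isFP _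
      (Groth.PropsBasic.LocFree.isFP_of_isFinLocFree _ (Groth.LocFree.isFinLocFree_unit _)))
  obtain ⟨L, _, _, V', hV'a, hV'c, hW', hU'⟩ : ∃ (L : Type u) (_ : LinearOrder L) (_ : WellFoundedLT L)
      (V' : L → X.Opens), (∀ l, IsAffineOpen (V' l)) ∧ ⨆ l, V' l = ⊤ ∧
      (∀ l, IsCompact ((V' l : Set X) ∩ ⋃ m ∈ Set.Iio l, (V' m : Set X))) ∧
      ∀ l, IsCompact ((V' l : Set X) ∩ U) := by
    choose W hW hxW _ using fun x : X => X.isBasis_affineOpens.exists_subset_of_mem_open (Set.mem_univ x) isOpen_univ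
    choose W' hW' hWW' using hW
    obtain ⟨t, ht⟩ := isCompact_univ.elim_finite_subcover W
      (fun x => hWW' x ▸ (W' x).2) (fun x _ => Set.mem_iUnion.2 ⟨x, hxW x⟩)
    refine ⟨ULift.{u} (Fin t.card), LinearOrder.lift' ULift.down ULift.down_injective, ?_,
      fun l => W' (t.equivFin.symm l.down), fun l => hW' _, ?_, fun l => ?_, fun l => ?_⟩
    · exact ⟨InvImage.wf ULift.down wellFounded_lt⟩
    · refine eq_top_iff.2 fun x _ => ?_
      obtain ⟨y, hyt, hy⟩ := Set.mem_iUnion₂.1 (ht (Set.mem_univ x))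
      exact Opens.mem_iSup.2 ⟨⟨t.equivFin ⟨y, hyt⟩⟩, by simpa [← hWW'] using hy⟩
    · rw [Set.inter_iUnion₂]
      exact (Set.toFinite _).isCompact_biUnion fun m _ =>
        (hW' _).isCompact.inter_of_isOpen (hW' _).isCompact (W' _).2 (W' _).2
    · exact (hW' _).isCompact.inter_of_isOpen hU.isCompact (W' _).2 U.2
  obtain ⟨G', i', ε, _, hq, hft, hε⟩ := Groth.QCohMod.exists_extension_subsheaf (F := F) (𝟙 (R.obj F))
    hG V' hV'a hV'c hW' hU'
  obtain ⟨E, π, hE, hπ⟩ := hX G' hq hft
  let ψ : E ⟶ Coh.structureModule X := π ≫ i' ≫ ClSub.idealModι I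
  haveI : Epi (R.map ψ) := by
    have hi : R.map i' = ε.hom := by rw [← hε, Category.comp_id]
    rw [R.map_comp, R.map_comp, hi]
    infer_instance
  haveI : IsAffine (U : Scheme.{u}) := hU
  haveI : IsAffine (V : Scheme.{u}) := hV
  haveI : E.IsQuasicoherent := Groth.KTheory.LocFree.isQCoh hE
  haveI : (R.obj E).IsQuasicoherent := inferInstance
  haveI : (R.obj (Coh.structureModule X)).IsQuasicoherent :=
    haveI := Groth.PicAux.isQCoh_structureModule X
    inferInstance
  obtain ⟨τ, hτ⟩ := Groth.QCohMod.app_surjective_of_epi (R.map ψ) (isAffineOpen_top (U : Scheme.{u}))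
    (oneSec X (U.ι ''ᵁ ⊤))
  -- on `V`
  let ψV : E.restrict V.ι ⟶ Coh.structureModule (V : Scheme.{u}) :=
    (Scheme.Modules.restrictFunctor V.ι).map ψ ≫ (Scheme.Modules.restrictUnitIso V.ι).hom
  have hψV : ∀ (W : (V : Scheme.{u}).Opens) (t : Γ(E, V.ι ''ᵁ W)), ψV.app W t = ψ.app (V.ι ''ᵁ W) t :=
    fun W t => by
      show (V.ι.appIso W).hom (ψ.app (V.ι ''ᵁ W) t) = _
      rw [Scheme.Opens.ι_appIso]
      rfl
  let W : (V : Scheme.{u}).Opens := V.ι ⁻¹ᵁ U
  have himg : V.ι ''ᵁ W = U ⊓ V := by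
    show V.ι ''ᵁ (V.ι ⁻¹ᵁ U) = U ⊓ V
    rw [Scheme.Hom.image_preimage_eq_opensRange_inf, Scheme.Opens.opensRange_ι, inf_comm]
  have hle : V.ι ''ᵁ W ≤ U.ι ''ᵁ ⊤ := by rw [himg, U.ι_image_top]; exact inf_le_left
  have haff := isAffineOpen_of_hom (Groth.LocFree.isFinLocFree_restrict V.ι hE) ψV W (res E hle τ) (by
    rw [hψV]
    refine (Groth.PicAux.app_res ψ hle τ).trans ?_
    refine (congrArg (res (Coh.structureModule X) hle) hτ).trans ?_
    exact map_one (X.presheaf.map (homOfLE hle).op).hom) fun t => by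
      intro y hy
      rw [hψV] at hy
      have hy' : (V.ι y : X) ∈ X.basicOpen (show Γ(X, V.ι ''ᵁ ⊤) from ψ.app (V.ι ''ᵁ ⊤) t) := by
        exact (Scheme.Opens.ι_image_basicOpen (U := V) (ψ.app (V.ι ''ᵁ ⊤) t)).le ⟨y, hy, rfl⟩
      show V.ι y ∈ U
      by_contra hyU
      have hVt : IsAffineOpen (V.ι ''ᵁ ⊤) := by rw [V.ι_image_top]; exact hV
      have hs : V.ι y ∈ (I.support : Set X) := by
        rw [Scheme.IdealSheafData.coe_support_vanishingIdeal]
        exact hyU
      have hmem := Groth.OmegaSheaf.idealSect_mem I ⟨_, hVt⟩ (i'.app _ (π.app _ t))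
      have hz := ((Scheme.IdealSheafData.coe_support_inter I ⟨_, hVt⟩).le
        ⟨hs, (⟨y, trivial, rfl⟩ : V.ι y ∈ (V.ι ''ᵁ ⊤))⟩).1
      rw [Scheme.mem_zeroLocus_iff] at hz
      exact hz _ hmem hy'
  rw [← himg]
  exact haff.image_of_isOpenImmersion V.ι

end Groth.DerivedCoh.ResPropAffineDiag
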