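import Groth.Agent.QCohMod.FPColimit
import Groth.Agent.ResPropLib.Generators
import Groth.Agent.Misc4.DerivedCoprod
import Groth.Agent.CohTwo.LocFreeDual
import Groth.Agent.LocFree.Tensor
import Groth.Agent.OmegaSheaf.IdealMod
import Groth.Agent.Flatmor4.StageZero
import Groth.Agent.PropsBasic.LocFree
import Groth.Agent.FlatmorThree.Resolution
import Groth.Prelude.Def_PerfAux

/-!
# Extending sections through tensor powers of a bundle mapping to the ideal of the complement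
-/

universe u

open CategoryTheory CategoryTheory.Limits AlgebraicGeometry Opposite TopologicalSpace

set_option backward.isDefEq.respectTransparency false
set_option linter.style.haveILetI false

namespace Groth.DerivedCoh.ResPropBoundary

open Groth.PicAux
open Groth.DerivedCoh.KFlat (T tensorMap_left_tmulSec tensorMap_tmulSec)
open Groth.CohTwo.LocFreeDual (lUnit)

variable {X : Scheme.{u}}

/-- `n`-fold tensoring with `E` -/
noncomputable def TF (E : X.Modules) : ℕ → (X.Modules ⥤ X.Modules)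
  | 0 => 𝟭 _
  | n + 1 => TF E n ⋙ (T X).obj E

/-- multiplication by `p` -/
noncomputable def μ {E : X.Modules} (p : E ⟶ Coh.structureModule X) : (n : ℕ) → (TF E n ⟶ 𝟭 _)
  | 0 => 𝟙 _
  | n + 1 => Functor.whiskerLeft (TF E n) ((T X).map p ≫ lUnit.hom) ≫ μ p n

theorem μ_succ_tmul {E : X.Modules} (p : E ⟶ Coh.structureModule X) (n : ℕ) (Q : X.Modules) (W : X.Opens)
    (e : Γ(E, W)) (q : Γ((TF E n).obj Q, W)) :
    ((μ p (n + 1)).app Q).app W (tmulSec e q) = toFun (p.app W e) • ((μ p n).app Q).app W q := by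
  change ((μ p n).app Q).app W ((exists_leftUnitor _).choose.hom.app W
    (((T X).map p).app ((TF E n).obj Q) |>.app W (tmulSec e q))) = _
  refine (congrArg (fun z => ((μ p n).app Q).app W ((exists_leftUnitor _).choose.hom.app W z))
    (tensorMap_left_tmulSec p _ W e q)).trans ?_
  refine (congrArg (((μ p n).app Q).app W) ((exists_leftUnitor _).choose_spec W _ q)).trans ?_
  exact Scheme.Modules.Hom.app_smul _ _ _

theorem isQCoh_TF (E : X.Modules) [E.IsQuasicoherent] : ∀ (n : ℕ) (Q : X.Modules), Q.IsQuasicoherent →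
    ((TF E n).obj Q).IsQuasicoherent
  | 0, _, h => h
  | n + 1, Q, h => by
    haveI := isQCoh_TF E n Q h
    exact Groth.QCohMod.isQCoh_tensorMod (M := E) (N := (TF E n).obj Q)

theorem isFinLocFree_TF {E : X.Modules} (hE : FlatMod.IsFinLocFree E) :
    ∀ (n : ℕ) (Q : X.Modules), FlatMod.IsFinLocFree Q → FlatMod.IsFinLocFree ((TF E n).obj Q)
  | 0, _, h => h
  | n + 1, Q, h => Groth.LocFree.isFinLocFree_tensorMod hE (isFinLocFree_TF hE n Q h)

/-- products of generators -/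
def gset (E : X.Modules) {W : X.Opens} (S : Set Γ(E, W)) : (n : ℕ) → {Q : X.Modules} → Set Γ(Q, W) →
    Set Γ((TF E n).obj Q, W)
  | 0, _, R => R
  | n + 1, _, R => (fun z => tmulSec z.1 z.2) '' (S ×ˢ gset E S n R)

theorem finite_gset (E : X.Modules) {W : X.Opens} {S : Set Γ(E, W)} (hS : S.Finite) :
    ∀ (n : ℕ) {Q : X.Modules} {R : Set Γ(Q, W)}, R.Finite → (gset E S n R).Finite
  | 0, _, _, h => h
  | n + 1, _, _, h => (hS.prod (finite_gset E hS n h)).image _

theorem span_tmul_eq_top {M N : X.Modules} [M.IsQuasicoherent] [N.IsQuasicoherent] {W : X.Opens}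
    (hW : IsAffineOpen W) {S : Set Γ(M, W)} {R : Set Γ(N, W)}
    (hS : Submodule.span Γ(X, W) S = ⊤) (hR : Submodule.span Γ(X, W) R = ⊤) :
    Submodule.span Γ(X, W) ((fun z => tmulSec z.1 z.2) '' (S ×ˢ R) : Set Γ(CohB1.tensorMod M N, W)) = ⊤ := by
  let f := (Groth.LocFree.tensorSecEquiv (M := M) (N := N) hW).toLinearMap
  have h1 : Submodule.span Γ(X, W) (Set.image2 (fun a b => TensorProduct.tmul Γ(X, W) a b) S R) = ⊤ := by
    have h := Submodule.map₂_span_span Γ(X, W) (TensorProduct.mk Γ(X, W) Γ(M, W) Γ(N, W)) S R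
    rw [hS, hR, TensorProduct.map₂_mk_top_top_eq_top] at h
    exact h.symm
  have h2 := congrArg (Submodule.map f) h1
  rw [Submodule.map_span, Submodule.map_top,
    LinearMap.range_eq_top.2 (Groth.LocFree.tensorSecEquiv (M := M) (N := N) hW).surjective] at h2
  rw [eq_top_iff, ← h2]
  refine Submodule.span_mono ?_
  rintro _ ⟨_, ⟨a, ha, b, hb, rfl⟩, rfl⟩
  exact ⟨(a, b), ⟨ha, hb⟩, rfl⟩

theorem span_gset (E : X.Modules) [E.IsQuasicoherent] {W : X.Opens} (hW : IsAffineOpen W)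
    {S : Set Γ(E, W)} (hS : Submodule.span Γ(X, W) S = ⊤) :
    ∀ (n : ℕ) {Q : X.Modules}, Q.IsQuasicoherent → ∀ {R : Set Γ(Q, W)},
      Submodule.span Γ(X, W) R = ⊤ → Submodule.span Γ(X, W) (gset E S n R) = ⊤
  | 0, _, _, _, h => h
  | n + 1, Q, hQ, R, h => by
    haveI := isQCoh_TF E n Q hQ
    exact span_tmul_eq_top hW hS (span_gset E hW hS n hQ h)

/-- value of the multiplication on products of generators -/
theorem μ_gset {E : X.Modules} (p : E ⟶ Coh.structureModule X) {W : X.Opens} (S : Set Γ(E, W))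
    (I : Ideal Γ(X, W)) (hI : ∀ s ∈ S, toFun (p.app W s) ∈ I) :
    ∀ (n : ℕ) {Q : X.Modules} (R : Set Γ(Q, W)), ∀ t ∈ gset E S n R,
      ∃ c ∈ I ^ n, ∃ r ∈ R, ((μ p n).app Q).app W t = c • r
  | 0, Q, R, t, ht => ⟨1, by simp, t, ht, (one_smul _ t).symm⟩
  | n + 1, Q, R, _, ⟨⟨s, q⟩, ⟨hs, hq⟩, rfl⟩ => by
    obtain ⟨c, hc, r, hr, he⟩ := μ_gset p S I hI n R q hq
    refine ⟨toFun (p.app W s) * c, ?_, r, hr, ?_⟩
    · rw [pow_succ']
      exact Ideal.mul_mem_mul (hI s hs) hc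
    · rw [μ_succ_tmul, he, mul_smul]

/-- a map vanishing on generators over an affine cover -/
theorem hom_zero_of_span {M N : X.Modules} [M.IsQuasicoherent] [N.IsQuasicoherent] (φ : M ⟶ N) {n : ℕ}
    (W : Fin n → X.Opens) (hW : ∀ i, IsAffineOpen (W i)) (hcov : ⨆ i, W i = ⊤) (S : ∀ i, Set Γ(M, W i))
    (hS : ∀ i, Submodule.span Γ(X, W i) (S i) = ⊤) (h : ∀ i, ∀ s ∈ S i, φ.app (W i) s = 0) : φ = 0 := by
  refine Groth.QCohMod.hom_eq_zero_of_cover φ W hW hcov fun i b => ?_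
  have hb : b ∈ Submodule.span Γ(X, W i) (S i) := by rw [hS i]; trivial
  induction hb using Submodule.span_induction with
  | mem z hz => exact h i z hz
  | zero => exact map_zero _
  | add a b _ _ ha hb => rw [map_add, ha, hb, add_zero]
  | smul r a _ ha => rw [Scheme.Modules.Hom.app_smul, ha, smul_zero]

section Local

variable (F : X.Modules) [F.IsQuasicoherent] {W U : X.Opens} (hW : IsAffineOpen W)
  (C : Finset Γ(X, W)) (hC : ∀ x ∈ W, (x ∈ U ↔ ∃ c ∈ C, x ∈ X.basicOpen c))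

include hW hC

omit hW in
theorem basicOpen_le_inf {c : Γ(X, W)} (hc : c ∈ C) : X.basicOpen c ≤ U ⊓ W := fun x hx =>
  ⟨(hC x (X.basicOpen_le c hx)).2 ⟨c, hc, hx⟩, X.basicOpen_le c hx⟩

/-- sections vanishing on `U` are killed by a power of the ideal -/
theorem exists_pow_kill (x : Γ(F, W)) (hx : res F (inf_le_right : U ⊓ W ≤ W) x = 0) :
    ∃ M : ℕ, ∀ b ∈ Ideal.span (C : Set Γ(X, W)) ^ M, b • x = 0 := by
  have h : Ideal.span (C : Set Γ(X, W)) ≤ Ideal.radical (LinearMap.toSpanSingleton Γ(X, W) Γ(F, W) x).ker := by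
    rw [Ideal.span_le]
    intro c hc
    have h0 : res F (X.basicOpen_le c) x = 0 := by
      have := congrArg (res F (basicOpen_le_inf C hC hc)) hx
      rw [res_res, res_zero] at this
      exact this
    obtain ⟨m, hm⟩ := Groth.QCohMod.exists_pow_smul_eq_zero F hW c x h0
    exact ⟨m, hm⟩
  obtain ⟨M, hM⟩ := Ideal.exists_pow_le_of_le_radical_of_fg h ⟨C, rfl⟩
  exact ⟨M, fun b hb => hM hb⟩

/-- sections on `U` extend after multiplication by powers of the equations -/
theorem exists_div (σ : Γ(F, U)) : ∃ (N : ℕ) (a : Γ(X, W) → Γ(F, W)), ∀ c ∈ C,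
    res F (inf_le_right : U ⊓ W ≤ W) (a c) =
      resX X (inf_le_right : U ⊓ W ≤ W) c ^ N • res F (inf_le_left : U ⊓ W ≤ U) σ := by
  classical
  have hloc : ∀ c : Γ(X, W), ∃ (n : ℕ) (a : Γ(F, W)), c ∈ C → ∀ (V : X.Opens) (h : V ≤ U ⊓ W),
      V ≤ X.basicOpen c →
      res F (h.trans inf_le_right) a = resX X (h.trans inf_le_right) c ^ n • res F (h.trans inf_le_left) σ := by
    intro c
    by_cases hc : c ∈ C
    · obtain ⟨n, a, ha⟩ := Groth.QCohMod.exists_pow_smul_eq_res F hW c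
        (res F ((basicOpen_le_inf C hC hc).trans inf_le_left) σ)
      refine ⟨n, a, fun _ V h hV => ?_⟩
      replace ha : res F (X.basicOpen_le c) a =
        resX X (X.basicOpen_le c) c ^ n • res F ((basicOpen_le_inf C hC hc).trans inf_le_left) σ := ha
      have := congrArg (res F hV) ha
      rw [res_smul, map_pow, res_res, res_res, resX_resX] at this
      exact this
    · exact ⟨0, 0, fun h => absurd h hc⟩
  choose n a ha using hloc
  let N₁ := C.sup n
  let a₁ : Γ(X, W) → Γ(F, W) := fun c => c ^ (N₁ - n c) • a c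
  let d : Γ(X, W) → Γ(F, U ⊓ W) := fun c => res F inf_le_right (a₁ c) -
    resX X (inf_le_right : U ⊓ W ≤ W) c ^ N₁ • res F inf_le_left σ
  have hd : ∀ c ∈ C, ∀ c' ∈ C, ∃ m : ℕ, ∀ (h : X.basicOpen c' ≤ U ⊓ W),
      resX X (h.trans inf_le_right) c ^ m • res F h (d c) = 0 := by
    intro c hc c' hc'
    have h := basicOpen_le_inf C hC hc'
    let f := resX X (h.trans inf_le_right) c
    have hfc : X.basicOpen f ≤ X.basicOpen c :=
      (X.basicOpen_res c (homOfLE (h.trans inf_le_right)).op).le.trans inf_le_right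
    obtain ⟨m, hm⟩ := Groth.QCohMod.exists_pow_smul_eq_zero F (hW.basicOpen c') f (res F h (d c)) (by
      change res F _ _ = 0
      have key := ha c hc (X.basicOpen f) ((X.basicOpen_le f).trans h) hfc
      rw [res_res]
      simp only [d, a₁]
      rw [show ∀ {A B : X.Opens} (h : B ≤ A) (p q : Γ(F, A)), res F h (p - q) = res F h p - res F h q from
        fun h p q => map_sub (F.presheaf.map _).hom p q]
      simp only [res_smul, res_res, map_pow, resX_resX]
      rw [key, ← mul_smul, ← pow_add, Nat.sub_add_cancel (Finset.le_sup hc), sub_self])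
    exact ⟨m, fun _ => hm⟩
  choose! m hm using hd
  let M := C.sup fun c => C.sup (m c)
  refine ⟨M + N₁, fun c => c ^ M • a₁ c, fun c hc => ?_⟩
  rw [res_smul, map_pow, pow_add, mul_smul, ← sub_eq_zero, ← smul_sub]
  change resX X (inf_le_right : U ⊓ W ≤ W) c ^ M • d c = 0
  refine res_ext (fun c' : C => X.basicOpen c'.1) (fun c' => basicOpen_le_inf C hC c'.2) (fun x hx => ?_)
    fun c' => ?_
  · obtain ⟨c', hc', hxc'⟩ := (hC x hx.2).1 hx.1
    exact Opens.mem_iSup.2 ⟨⟨c', hc'⟩, hxc'⟩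
  · have hle : m c c'.1 ≤ M := (Finset.le_sup c'.2).trans (Finset.le_sup (f := fun c => C.sup (m c)) hc)
    rw [res_smul, map_pow, resX_resX, res_zero, ← Nat.sub_add_cancel hle, pow_add, mul_smul,
      hm c hc c'.1 c'.2 (basicOpen_le_inf C hC c'.2), smul_zero]

end Local

/-- `E^{⊗ n} ⊗ -` preserves cokernels -/
theorem preservesFiniteColimits_tensor (E : X.Modules) :
    PreservesColimitsOfShape WalkingParallelPair ((T X).obj E) :=
  haveI := Groth.Misc4.DerivedCoprod.preservesColimitsOfShape_obj (J := AsSmall.{u} WalkingParallelPair) E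
  preservesColimitsOfShape_of_equiv AsSmall.equiv.{_, _, u}.symm _

theorem preservesColimitsOfShape_TF (E : X.Modules) : ∀ n, PreservesColimitsOfShape WalkingParallelPair (TF E n)
  | 0 => inferInstanceAs (PreservesColimitsOfShape WalkingParallelPair (𝟭 X.Modules))
  | n + 1 =>
    haveI := preservesColimitsOfShape_TF E n
    haveI := preservesFiniteColimits_tensor E
    inferInstanceAs (PreservesColimitsOfShape WalkingParallelPair (TF E n ⋙ (T X).obj E))

theorem TF_zero (E : X.Modules) : ∀ n, (TF E n).PreservesZeroMorphisms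
  | 0 => inferInstanceAs (𝟭 X.Modules).PreservesZeroMorphisms
  | n + 1 =>
    haveI := TF_zero E n
    inferInstanceAs (TF E n ⋙ (T X).obj E).PreservesZeroMorphisms

theorem inl_fst_app {A B : X.Modules} (W : X.Opens) (a : Γ(A, W)) (b : Γ(B, W)) :
    (biprod.fst : A ⊞ B ⟶ A).app W ((biprod.inl : A ⟶ A ⊞ B).app W a + (biprod.inr : B ⟶ A ⊞ B).app W b) = a ∧
    (biprod.snd : A ⊞ B ⟶ B).app W ((biprod.inl : A ⟶ A ⊞ B).app W a + (biprod.inr : B ⟶ A ⊞ B).app W b) = b := by
  constructor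
  · rw [map_add, ← ConcreteCategory.comp_apply, ← Scheme.Modules.Hom.comp_app, biprod.inl_fst,
      ← ConcreteCategory.comp_apply, ← Scheme.Modules.Hom.comp_app, biprod.inr_fst]
    simp
  · rw [map_add, ← ConcreteCategory.comp_apply, ← Scheme.Modules.Hom.comp_app, biprod.inl_snd,
      ← ConcreteCategory.comp_apply, ← Scheme.Modules.Hom.comp_app, biprod.inr_snd]
    simp

theorem decompose_app {A B : X.Modules} (W : X.Opens) (z : Γ(A ⊞ B, W)) :
    z = (biprod.inl : A ⟶ A ⊞ B).app W ((biprod.fst : A ⊞ B ⟶ A).app W z) +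
      (biprod.inr : B ⟶ A ⊞ B).app W ((biprod.snd : A ⊞ B ⟶ B).app W z) :=
  (congr(($(biprod.total (X := A) (Y := B))).app W z)).symm

theorem push_restrict_smul (F : X.Modules) (U : X.Opens) (V : X.Opens) (r : Γ(X, V))
    (z : Γ((Scheme.Modules.pushforward U.ι).obj (F.restrict U.ι), V)) :
    ((r • z : Γ((Scheme.Modules.pushforward U.ι).obj (F.restrict U.ι), V)) : Γ(F, U.ι ''ᵁ (U.ι ⁻¹ᵁ V))) =
      resX X (U.ι.image_preimage_le V) r • (show Γ(F, U.ι ''ᵁ (U.ι ⁻¹ᵁ V)) from z) := by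
  refine Eq.trans ?_ (restrict_smul (M := F) U (U.ι ⁻¹ᵁ V) (resX X (U.ι.image_preimage_le V) r) z)
  refine congrArg (fun q => (HSMul.hSMul (α := Γ((U : Scheme.{u}), U.ι ⁻¹ᵁ V))
    (β := Γ(F.restrict U.ι, U.ι ⁻¹ᵁ V)) q z : Γ(F.restrict U.ι, U.ι ⁻¹ᵁ V))) ?_
  change U.ι.app V r = _
  rw [Scheme.Opens.ι_app]
  rfl

/-- Sections over a member of the cover come from bundles. -/
theorem exists_bundle_hit [CompactSpace X] [QuasiSeparatedSpace X] {m : ℕ} (W : Fin m → X.Opens)
    (hW : ∀ i, IsAffineOpen (W i)) (hcov : ⨆ i, W i = ⊤) {E : X.Modules} (hE : FlatMod.IsFinLocFree E)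
    (p : E ⟶ Coh.structureModule X) (j : Fin m)
    (hopen : ∀ i, ∀ x ∈ W i, (x ∈ W j ↔ ∃ e : Γ(E, W i), x ∈ X.basicOpen (toFun (p.app (W i) e))))
    (hunit : ∃ e : Γ(E, W j), toFun (p.app (W j) e) = 1)
    (F : X.Modules) [F.IsQuasicoherent] (σ : Γ(F, W j)) :
    ∃ (P : X.Modules) (g : P ⟶ F) (a : Γ(P, W j)), FlatMod.IsFinLocFree P ∧ g.app (W j) a = σ := by
  classical
  haveI := Groth.KTheory.LocFree.isQCoh hE
  have hEft := Groth.PropsBasic.LocFree.isFT_of_isFP _ (Groth.PropsBasic.LocFree.isFP_of_isFinLocFree E hE)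
  choose S hS using fun i => (Groth.QCohMod.finite_sections E hEft (hW i)).fg_top
  let C : ∀ i, Finset Γ(X, W i) := fun i => (S i).image fun s => toFun (p.app (W i) s)
  have hC : ∀ i, ∀ x ∈ W i, (x ∈ W j ↔ ∃ c ∈ C i, x ∈ X.basicOpen c) := by
    intro i x hx
    rw [hopen i x hx]
    refine ⟨fun ⟨e, he⟩ => ?_, fun ⟨c, hc, hxc⟩ => ?_⟩
    · by_contra hne
      push Not at hne
      have hmem : toFun (p.app (W i) e) ∈ Ideal.span (C i : Set Γ(X, W i)) := by
        have hb : e ∈ Submodule.span Γ(X, W i) (S i : Set Γ(E, W i)) := by rw [hS i]; trivial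
        clear he
        induction hb using Submodule.span_induction with
        | mem z hz => exact Ideal.subset_span (Finset.mem_coe.2 (Finset.mem_image_of_mem _ hz))
        | zero => rw [map_zero]; exact zero_mem _
        | add a b _ _ ha hb => rw [map_add]; exact add_mem ha hb
        | smul r a _ ha => rw [Scheme.Modules.Hom.app_smul, toFun_smul]; exact Ideal.mul_mem_left _ _ ha
      have h1 : x ∈ X.zeroLocus (U := W i) (C i : Set Γ(X, W i)) :=
        (X.mem_zeroLocus_iff _ x).2 fun c hc => hne c hc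
      rw [← X.zeroLocus_span] at h1
      exact (X.mem_zeroLocus_iff _ x).1 h1 _ hmem he
    · obtain ⟨s, -, rfl⟩ := Finset.mem_image.1 hc
      exact ⟨s, hxc⟩
  -- the coherent module of approximations
  have hdiv := fun i => exists_div F (hW i) (C i) (hC i) σ
  choose N a ha using hdiv
  have hk : ∀ i, ∃ k : ℕ, Ideal.span (C i : Set Γ(X, W i)) ^ k ≤
      Ideal.span ((fun c => c ^ N i) '' (C i : Set Γ(X, W i))) := fun i =>
    Ideal.exists_pow_le_of_le_radical_of_fg (Ideal.span_le.2 fun c hc =>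
      ⟨N i, Ideal.subset_span ⟨c, hc, rfl⟩⟩) ⟨C i, rfl⟩
  choose k₀ hk₀ using hk
  let k := Finset.univ.sup k₀
  let Q := (TF E k).obj (Coh.structureModule X)
  have hQlf : FlatMod.IsFinLocFree Q := isFinLocFree_TF hE k _ (Groth.LocFree.isFinLocFree_unit X)
  haveI : Q.IsQuasicoherent := Groth.KTheory.LocFree.isQCoh hQlf
  let R₀ : ∀ i, Set Γ(Q, W i) := fun i =>
    gset E (S i : Set Γ(E, W i)) k ({oneSec X (W i)} : Set Γ(Coh.structureModule X, W i))
  have hone : ∀ i, Submodule.span Γ(X, W i) ({oneSec X (W i)} : Set Γ(Coh.structureModule X, W i)) = ⊤ :=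
    fun i => eq_top_iff.2 fun x _ => by
      rw [eq_toFun_smul_oneSec x]
      exact Submodule.smul_mem _ _ (Submodule.subset_span rfl)
  have hR₀ : ∀ i, Submodule.span Γ(X, W i) (R₀ i) = ⊤ := fun i =>
    span_gset E (hW i) (hS i) k inferInstance (hone i)
  have hfin : ∀ i, (R₀ i).Finite := fun i =>
    finite_gset E (Finset.finite_toSet _) k (Set.finite_singleton _)
  let mQ : Q ⟶ Coh.structureModule X := (μ p k).app _
  let j₀ := (W j).ι
  haveI : CompactSpace ↥(W j : Scheme.{u}) := isCompact_iff_compactSpace.1 (hW j).isCompact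
  haveI : QuasiCompact j₀ := quasiCompact_of_compactSpace j₀
  let G₀ := (Scheme.Modules.pushforward j₀).obj (F.restrict j₀)
  haveI : G₀.IsQuasicoherent := Groth.QCohMod.isQCoh_pushforward _ j₀
  let η : F ⟶ G₀ := (Scheme.Modules.restrictAdjunction j₀).unit.app F
  let σ' : Γ(G₀, ⊤) := res F (Scheme.Hom.image_le_opensRange j₀ _ |>.trans (W j).opensRange_ι.le) σ
  let θ : F ⊞ Q ⟶ G₀ := biprod.desc η (-(mQ ≫ homOfSection σ'))
  haveI : (F ⊞ Q).IsQuasicoherent := Groth.QCohMod.isQCoh_biprod _ _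
  let R := kernel θ
  haveI : R.IsQuasicoherent := inferInstanceAs (kernel θ).IsQuasicoherent
  have hθ : ∀ (V : X.Opens) (y : Γ(F, V)) (t : Γ(Q, V)) (hV : W j ⊓ V ≤ j₀ ''ᵁ (j₀ ⁻¹ᵁ V))
      (hV' : j₀ ''ᵁ (j₀ ⁻¹ᵁ V) ≤ W j ⊓ V),
      θ.app V ((biprod.inl : F ⟶ F ⊞ Q).app V y + (biprod.inr : Q ⟶ F ⊞ Q).app V t) =
        res F hV' (res F (inf_le_right : W j ⊓ V ≤ V) y -
          resX X (inf_le_right : W j ⊓ V ≤ V) (toFun (mQ.app V t)) • res F (inf_le_left : W j ⊓ V ≤ W j) σ) := by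
    intro V y t hV hV'
    rw [map_add, ← ConcreteCategory.comp_apply, ← Scheme.Modules.Hom.comp_app, biprod.inl_desc,
      ← ConcreteCategory.comp_apply, ← Scheme.Modules.Hom.comp_app, biprod.inr_desc]
    rw [show ∀ u : Q ⟶ G₀, (-u).app V t = -(u.app V t) from fun u => rfl]
    rw [← sub_eq_add_neg, show ∀ {A B : X.Opens} (h : B ≤ A) (p q : Γ(F, A)),
        res F h (p - q) = res F h p - res F h q from fun h p q => map_sub (F.presheaf.map _).hom p q]
    refine congrArg₂ (· - ·) ?_ ?_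
    · rw [res_res]; rfl
    · simp only [Scheme.Modules.Hom.comp_app, ConcreteCategory.comp_apply]
      rw [hom_structure_apply, homOfSection_one, res_smul, res_res, resX_resX]
      refine (push_restrict_smul F (W j) V _ _).trans ?_
      refine congrArg (fun q => resX X _ (toFun (mQ.app V t)) • q) ?_
      change res F _ (res F _ σ) = _
      rw [res_res]
  have himg : ∀ V : X.Opens, W j ⊓ V ≤ j₀ ''ᵁ (j₀ ⁻¹ᵁ V) ∧ j₀ ''ᵁ (j₀ ⁻¹ᵁ V) ≤ W j ⊓ V := fun V => by
    rw [Scheme.Hom.image_preimage_eq_opensRange_inf, Scheme.Opens.opensRange_ι]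
    exact ⟨le_rfl, le_rfl⟩
  let ψ₀ : R ⟶ Q := kernel.ι θ ≫ biprod.snd
  let γ₀ : R ⟶ F := kernel.ι θ ≫ biprod.fst
  have hrel : ∀ (V : X.Opens) (r : Γ(R, V)), res F (inf_le_right : W j ⊓ V ≤ V) (γ₀.app V r) =
      resX X (inf_le_right : W j ⊓ V ≤ V) (toFun (mQ.app V (ψ₀.app V r))) • res F (inf_le_left : W j ⊓ V ≤ W j) σ := by
    intro V r
    have h0 : θ.app V ((kernel.ι θ).app V r) = 0 := congr(($(kernel.condition θ)).app V r)
    rw [decompose_app V ((kernel.ι θ).app V r), hθ V _ _ (himg V).1 (himg V).2] at h0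
    have h1 := congrArg (res F (himg V).1) h0
    rw [res_res, res_self, res_zero, sub_eq_zero] at h1
    exact h1
  have hlift : ∀ (i : Fin m) (t : Γ(Q, W i)), t ∈ R₀ i → ∃ r : Γ(R, W i), ψ₀.app (W i) r = t := by
    intro i t ht
    obtain ⟨c, hc, r, hr, he⟩ := μ_gset p (S i : Set Γ(E, W i)) (Ideal.span (C i : Set Γ(X, W i)))
      (fun s hs => Ideal.subset_span (Finset.mem_coe.2 (Finset.mem_image_of_mem _ hs))) k
      ({oneSec X (W i)} : Set Γ(Coh.structureModule X, W i)) t ht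
    rw [Set.mem_singleton_iff] at hr
    have hm : toFun (mQ.app (W i) t) = c := by
      rw [show mQ.app (W i) t = c • r from he, hr, toFun_smul, toFun_oneSec, mul_one]
    have hc' : c ∈ Ideal.span ((fun c => c ^ N i) '' (C i : Set Γ(X, W i))) :=
      hk₀ i (Ideal.pow_le_pow_right (Finset.le_sup (Finset.mem_univ i)) hc)
    suffices H : ∀ c₀ ∈ Ideal.span ((fun c => c ^ N i) '' (C i : Set Γ(X, W i))), ∃ y : Γ(F, W i),
        res F (inf_le_right : W j ⊓ W i ≤ W i) y =
          resX X (inf_le_right : W j ⊓ W i ≤ W i) c₀ • res F (inf_le_left : W j ⊓ W i ≤ W j) σ by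
      obtain ⟨y, hy⟩ := H c (hk₀ i (Ideal.pow_le_pow_right (Finset.le_sup (Finset.mem_univ i)) hc))
      let z := (biprod.inl : F ⟶ F ⊞ Q).app (W i) y + (biprod.inr : Q ⟶ F ⊞ Q).app (W i) t
      have hz : θ.app (W i) z = 0 := by
        rw [hθ (W i) y t (himg _).1 (himg _).2, hm, hy, sub_self, res_zero]
      refine ⟨OmegaSh.kerLift θ (W i) z hz, ?_⟩
      change (biprod.snd : F ⊞ Q ⟶ Q).app (W i) ((kernel.ι θ).app (W i) (OmegaSh.kerLift θ (W i) z hz)) = t
      rw [OmegaSh.ι_kerLift]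
      exact (inl_fst_app (W i) y t).2
    intro c₀ hc₀
    induction hc₀ using Submodule.span_induction with
    | mem z hz =>
      obtain ⟨c₁, hc₁, rfl⟩ := hz
      exact ⟨a i c₁, by rw [map_pow]; exact ha i c₁ hc₁⟩
    | zero => exact ⟨0, by rw [res_zero, map_zero, zero_smul]⟩
    | add u w _ _ hu hw =>
      obtain ⟨y, hy⟩ := hu
      obtain ⟨y', hy'⟩ := hw
      exact ⟨y + y', by rw [res_add, hy, hy', map_add, add_smul]⟩
    | smul v u _ hu =>
      obtain ⟨y, hy⟩ := hu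
      exact ⟨v • y, by rw [res_smul, hy, smul_eq_mul, map_mul, mul_smul]⟩
  choose r hr using hlift
  choose G hGq φ g₀ hG hg₀ using fun (z : Σ i : ULift.{u} (Fin m), (hfin i.down).toFinset) =>
    Groth.QCohMod.exists_fp_hit R (hW z.1.down) (r z.1.down z.2.1 ((hfin _).mem_toFinset.1 z.2.2))
  let G₁ := ∐ G
  haveI : G₁.IsQuasicoherent := inferInstanceAs (∐ G).IsQuasicoherent
  have hG₁ : CohB1.IsFP G₁ := Groth.QCohMod.isFP_sigma G hG
  let ψ : G₁ ⟶ Q := Sigma.desc φ ≫ ψ₀
  let γ : G₁ ⟶ F := Sigma.desc φ ≫ γ₀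
  haveI : Epi ψ := Groth.ResPropLib.epi_of_generators ψ W hW
    (fun x => Opens.mem_iSup.1 (hcov.ge (trivial : x ∈ (⊤ : X.Opens)))) R₀ hR₀ fun i t ht => by
      let z : Σ i : ULift.{u} (Fin m), (hfin i.down).toFinset := ⟨⟨i⟩, t, (hfin i).mem_toFinset.2 ht⟩
      refine ⟨(Sigma.ι G z).app (W i) (g₀ z), ?_⟩
      change (Sigma.ι G z ≫ ψ).app (W i) (g₀ z) = t
      rw [show Sigma.ι G z ≫ ψ = φ z ≫ ψ₀ from Sigma.ι_desc_assoc φ z ψ₀]
      change ψ₀.app (W i) ((φ z).app (W i) (g₀ z)) = t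
      rw [hg₀ z]
      exact hr i t _
  let K := kernel ψ
  haveI : K.IsQuasicoherent := inferInstanceAs (kernel ψ).IsQuasicoherent
  have hK : CohB1.IsFT K := Groth.Flatmor4.isFT_kernel_of_epi ψ
    (Groth.PropsBasic.LocFree.isFT_of_isFP _ hG₁) (Groth.PropsBasic.LocFree.isFP_of_isFinLocFree Q hQlf)
  choose SK hSK using fun i => (Groth.QCohMod.finite_sections K hK (hW i)).fg_top
  have hkill : ∀ (i : Fin m) (d : Γ(K, W i)), ∃ M : ℕ, ∀ b ∈ Ideal.span (C i : Set Γ(X, W i)) ^ M,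
      b • (kernel.ι ψ ≫ γ).app (W i) d = 0 := by
    intro i d
    refine exists_pow_kill F (hW i) (C i) (hC i) _ ?_
    let r' := (Sigma.desc φ).app (W i) ((kernel.ι ψ).app (W i) d)
    have h0 : ψ₀.app (W i) r' = 0 := congr(($(kernel.condition ψ)).app (W i) d)
    have h1 := hrel (W i) r'
    rw [h0, map_zero, show toFun (0 : Γ(Coh.structureModule X, W i)) = 0 from rfl, map_zero, zero_smul] at h1
    exact h1
  choose M₀ hM₀ using hkill
  let M := Finset.univ.sup fun i => (SK i).sup (M₀ i)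
  haveI := isQCoh_TF E M K inferInstance
  have hzero : (TF E M).map (kernel.ι ψ) ≫ (TF E M).map γ ≫ (μ p M).app F = 0 := by
    rw [← Functor.map_comp_assoc, (μ p M).naturality (kernel.ι ψ ≫ γ)]
    haveI : ((𝟭 X.Modules).obj F).IsQuasicoherent := ‹F.IsQuasicoherent›
    refine hom_zero_of_span _ W hW hcov (fun i => gset E (S i : Set Γ(E, W i)) M (SK i : Set Γ(K, W i)))
      (fun i => span_gset E (hW i) (hS i) M inferInstance (hSK i)) fun i t ht => ?_
    obtain ⟨c, hc, d, hd, he⟩ := μ_gset p (S i : Set Γ(E, W i)) (Ideal.span (C i : Set Γ(X, W i)))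
      (fun s hs => Ideal.subset_span (Finset.mem_coe.2 (Finset.mem_image_of_mem _ hs))) M
      (SK i : Set Γ(K, W i)) t ht
    change (kernel.ι ψ ≫ γ).app (W i) (((μ p M).app K).app (W i) t) = 0
    rw [he, Scheme.Modules.Hom.app_smul]
    exact hM₀ i d c (Ideal.pow_le_pow_right
      ((Finset.le_sup hd).trans (Finset.le_sup (f := fun i => (SK i).sup (M₀ i)) (Finset.mem_univ i))) hc)
  haveI := preservesColimitsOfShape_TF E M
  haveI := TF_zero E M
  have hcok : IsColimit (CokernelCofork.ofπ (f := kernel.ι ψ) ψ (kernel.condition ψ)) :=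
    Abelian.epiIsCokernelOfKernel _ (limit.isLimit _)
  let hcok' := CokernelCofork.mapIsColimit _ hcok (TF E M)
  obtain ⟨g, hg⟩ := CokernelCofork.IsColimit.desc' hcok' ((TF E M).map γ ≫ (μ p M).app F) hzero
  -- the section
  obtain ⟨e, he⟩ := hunit
  have hones : ∀ (n : ℕ) {Z : X.Modules} (z : Γ(Z, W j)), ∃ t : Γ((TF E n).obj Z, W j),
      ((μ p n).app Z).app (W j) t = z := by
    intro n Z z
    induction n with
    | zero => exact ⟨z, rfl⟩
    | succ n ih =>
      obtain ⟨t, ht⟩ := ih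
      exact ⟨(tmulSec e t : Γ((TF E (n + 1)).obj Z, W j)), by rw [μ_succ_tmul, he, one_smul, ht]⟩
  obtain ⟨q, hq⟩ := hones k (oneSec X (W j))
  obtain ⟨g₁, hg₁⟩ := Groth.QCohMod.app_surjective_of_epi ψ (hW j) q
  obtain ⟨t, ht⟩ := hones M g₁
  refine ⟨(TF E M).obj Q, g, ((TF E M).map ψ).app (W j) t, isFinLocFree_TF hE M Q hQlf, ?_⟩
  change ((TF E M).map ψ ≫ g).app (W j) t = σ
  rw [show (TF E M).map ψ ≫ g = (TF E M).map γ ≫ (μ p M).app F from hg, (μ p M).naturality γ]
  change γ.app (W j) (((μ p M).app G₁).app (W j) t) = σ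
  rw [ht]
  have h1 := hrel (W j) ((Sigma.desc φ).app (W j) g₁)
  have h2 : ψ₀.app (W j) ((Sigma.desc φ).app (W j) g₁) = q := hg₁
  rw [h2, show mQ.app (W j) q = oneSec X (W j) from hq, toFun_oneSec, map_one, one_smul] at h1
  have h3 := congrArg (res F (le_inf le_rfl le_rfl : W j ≤ W j ⊓ W j)) h1
  rw [res_res, res_res, res_self, res_self] at h3
  exact h3

end Groth.DerivedCoh.ResPropBoundary
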