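import Groth.Prelude.Def_CxOX
import Groth.Agent.LocCohZBase.GammaZQCoh
import Groth.Agent.Misc4.PushRestrict
import Groth.Agent.Misc4.RpushCoprod
import Groth.Agent.Misc4.QCohDPerf
import Groth.Agent.DerivedCoh.KInj.Resolution
import Groth.Agent.DerivedCoh.CoprodTriangle
import Groth.Agent.DerivedAdj.Basic

/-!
# The triangle of sections with supports
-/

universe u

open CategoryTheory CategoryTheory.Limits Pretriangulated AlgebraicGeometry HomologicalComplex

attribute [local instance] HasDerivedCategory.standard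

set_option maxHeartbeats 1000000

namespace Groth.DerivedCoh.SuppTriangle

variable {U X : Scheme.{u}} (j : U ⟶ X) [IsOpenImmersion j]

local notation "up" => ComplexShape.up ℤ

/-- restriction to the open kills the object -/
def Supp [PreservesFiniteLimits (Scheme.Modules.restrictFunctor j)] (A : DCoh.D X) : Prop :=
  IsZero ((DCoh.restrictD j).obj A)

/-- `0 → Γ_Z J → J → j_* j^* J → 0` -/
noncomputable def seq (J : CochainComplex X.Modules ℤ) : ShortComplex (CochainComplex X.Modules ℤ) :=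
  ShortComplex.mk
    (X₁ := ((DCoh.gammaZ j).mapHomologicalComplex up).obj J) (X₂ := J)
    (X₃ := ((Scheme.Modules.pushforward j).mapHomologicalComplex up).obj
      (((Scheme.Modules.restrictFunctor j).mapHomologicalComplex up).obj J))
    { f := fun i => (CxOX.gammaZι j).app (J.X i)
      comm' := fun i k _ => ((CxOX.gammaZι j).naturality (J.d i k)).symm }
    { f := fun i => (Scheme.Modules.restrictAdjunction j).unit.app (J.X i)
      comm' := fun i k _ => ((Scheme.Modules.restrictAdjunction j).unit.naturality (J.d i k)).symm }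
    (HomologicalComplex.hom_ext _ _ fun _ => kernel.condition _)

theorem seq_shortExact (J : CochainComplex X.Modules ℤ) (hJ : ∀ i, Injective (J.X i)) :
    (seq j J).ShortExact :=
  HomologicalComplex.shortExact_of_degreewise_shortExact _ fun i =>
    { exact := ShortComplex.exact_of_f_is_kernel _
        (kernelIsKernel ((Scheme.Modules.restrictAdjunction j).unit.app (J.X i)))
      mono_f := inferInstanceAs (Mono (kernel.ι ((Scheme.Modules.restrictAdjunction j).unit.app (J.X i))))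
      epi_g := @Groth.LocCohZBase.epi_unit_of_injective _ _ j _ (J.X i) (hJ i) }

/-- sections with supports restrict to zero -/
lemma isZero_restrict_gammaZ (M : X.Modules) :
    IsZero ((Scheme.Modules.restrictFunctor j).obj ((DCoh.gammaZ j).obj M)) := by
  haveI := Groth.LocCohZBase.preservesHomology_restrictFunctor j
  let η := (Scheme.Modules.restrictAdjunction j).unit.app M
  haveI hη : IsIso ((Scheme.Modules.restrictFunctor j).map η) := by
    have h := (Scheme.Modules.restrictAdjunction j).left_triangle_components M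
    exact ⟨(Scheme.Modules.restrictAdjunction j).counit.app _, h,
      (cancel_mono ((Scheme.Modules.restrictAdjunction j).counit.app
        ((Scheme.Modules.restrictFunctor j).obj M))).1 (by rw [Category.assoc, h]; exact (Category.comp_id _).trans (Category.id_comp _).symm)⟩
  haveI : PreservesFiniteLimits (Scheme.Modules.restrictFunctor j) :=
    Functor.preservesFiniteLimits_of_preservesHomology _
  exact (isZero_kernel_of_mono ((Scheme.Modules.restrictFunctor j).map η)).of_iso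
    (PreservesKernel.iso (Scheme.Modules.restrictFunctor j) η)

variable [PreservesFiniteLimits (Scheme.Modules.restrictFunctor j)] [CxOX.HasRgammaZ j] [DCoh.HasRpush j]

/-- the triangle `RΓ_Z E → E → Rj_*(E|_U)` -/
theorem exists_triangle (E : DCoh.D X) :
    Supp j ((CxOX.RgammaZ j).obj E) ∧
    ∃ (M : DCoh.D U) (_ : M ≅ (DCoh.restrictD j).obj E) (q : E ⟶ (DCoh.Rpush j).obj M)
      (d : (DCoh.Rpush j).obj M ⟶ ((CxOX.RgammaZ j).obj E)⟦(1 : ℤ)⟧),
      Triangle.mk ((CxOX.RgammaZToId j).app E) q d ∈ distTriang (DCoh.D X) := by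
  obtain ⟨J, i, -, hi, hJ, hinj⟩ := Groth.DerivedCoh.KInjRes.exists_resolution (DerivedCategory.Q.objPreimage E)
  haveI := hJ
  let qX := HomotopyCategory.quotient X.Modules up
  let qU := HomotopyCategory.quotient U.Modules up
  let EJ := DerivedCategory.Qh.obj (qX.obj J)
  let e₀ : EJ ≅ E := (DerivedCategory.quotientCompQhIso X.Modules).app J ≪≫
    (asIso (DerivedCategory.Q.map i)).symm ≪≫ DerivedCategory.Q.objObjPreimageIso E
  haveI hη := Groth.Misc4.PushRestrict.isIso_unit_app (DCoh.gammaZ j) J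
  let η₁ := ((DCoh.gammaZ j).mapHomotopyCategory up ⋙ DerivedCategory.Qh).totalRightDerivedUnit
    DerivedCategory.Qh (HomotopyCategory.quasiIso X.Modules up)
  let res := Groth.Misc4.PushRestrict.resCx j
  haveI : (res.obj J).IsKInjective := Groth.Misc4.PushRestrict.isKInjective_resCx j J
  haveI := Groth.Misc4.PushRestrict.isIso_unit_app (Scheme.Modules.pushforward j) (res.obj J)
  let η₂ := ((Scheme.Modules.pushforward j).mapHomotopyCategory up ⋙ DerivedCategory.Qh).totalRightDerivedUnit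
    DerivedCategory.Qh (HomotopyCategory.quasiIso U.Modules up)
  let M := DerivedCategory.Qh.obj (qU.obj (res.obj J))
  let eM : M ≅ (DCoh.restrictD j).obj E :=
    ((Groth.Misc4.PushRestrict.restrictDIso j).app J).symm ≪≫ (DCoh.restrictD j).mapIso e₀
  let S := seq j J
  have hS : S.ShortExact := seq_shortExact j J hinj
  let c := DerivedCategory.quotientCompQhIso X.Modules
  let a₁ : (CxOX.RgammaZ j).obj EJ ≅ DerivedCategory.Q.obj S.X₁ :=
    (@asIso _ _ _ _ (η₁.app (qX.obj J)) hη).symm ≪≫ c.app S.X₁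
  let a₃ : (DCoh.Rpush j).obj M ≅ DerivedCategory.Q.obj S.X₃ :=
    (asIso (η₂.app (qU.obj (res.obj J)))).symm ≪≫ c.app S.X₃
  have hε : η₁.app (qX.obj J) ≫ (CxOX.RgammaZToId j).app EJ = DerivedCategory.Qh.map (qX.map S.f) := by
    have h := (CxOX.RgammaZ j).rightDerived_fac_app η₁ (HomotopyCategory.quasiIso X.Modules up)
      (𝟭 (DCoh.D X)) (CxOX.gammaZKhι j ≫ (Functor.rightUnitor _).inv) (qX.obj J)
    refine h.trans ?_
    simp [CxOX.gammaZKhι, qX, S, seq]
    dsimp [Quotient.natTransLift, HomotopyCategory.quotient, Quotient.functor]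
    simp
    erw [← Functor.map_comp, ← Functor.map_comp]
    refine congrArg DerivedCategory.Qh.map ?_
    refine (Category.id_comp _).trans ?_
    refine (qX.map_comp _ _).symm.trans (congrArg qX.map ?_)
    refine HomologicalComplex.hom_ext _ _ fun k => ?_
    exact Category.comp_id _
  have hsupp : Supp j ((CxOX.RgammaZ j).obj EJ) := by
    refine IsZero.of_iso ?_ ((DCoh.restrictD j).mapIso (a₁ ≪≫ (c.app S.X₁).symm) ≪≫
      (Groth.Misc4.PushRestrict.restrictDIso j).app S.X₁)
    refine DerivedCategory.Qh.map_isZero (qU.map_isZero ?_)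
    rw [IsZero.iff_id_eq_zero]
    refine HomologicalComplex.hom_ext _ _ fun k => ?_
    exact (isZero_restrict_gammaZ j (J.X k)).eq_of_src _ _
  refine ⟨hsupp.of_iso ((DCoh.restrictD j).mapIso ((CxOX.RgammaZ j).mapIso e₀.symm)), M, eM,
    e₀.inv ≫ (c.app J).hom ≫ DerivedCategory.Q.map S.g ≫ a₃.inv,
    a₃.hom ≫ (DerivedCategory.triangleOfSES hS).mor₃ ≫ (a₁.inv ≫ (CxOX.RgammaZ j).map e₀.hom)⟦(1 : ℤ)⟧', ?_⟩
  refine isomorphic_distinguished _ (DerivedCategory.triangleOfSES_distinguished hS) _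
    (Triangle.isoMk _ _ (((CxOX.RgammaZ j).mapIso e₀.symm) ≪≫ a₁) (e₀.symm ≪≫ c.app J) a₃ ?_ ?_ ?_)
  · show (CxOX.RgammaZToId j).app E ≫ e₀.inv ≫ (c.app J).hom =
      ((CxOX.RgammaZ j).map e₀.inv ≫ a₁.hom) ≫ DerivedCategory.Q.map S.f
    have hn := (CxOX.RgammaZToId j).naturality e₀.inv
    rw [Functor.id_map] at hn
    rw [← reassoc_of% hn, Category.assoc]
    congr 1
    show (CxOX.RgammaZToId j).app EJ ≫ c.hom.app J =
      (inv (η₁.app (qX.obj J)) ≫ c.hom.app S.X₁) ≫ DerivedCategory.Q.map S.f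
    refine ((congrArg (· ≫ c.hom.app J) ((IsIso.eq_inv_comp _).2 hε)).trans ?_).trans (Category.assoc _ _ _).symm
    exact (Category.assoc _ _ _).trans (congrArg (inv (η₁.app (qX.obj J)) ≫ ·) (c.hom.naturality S.f))
  · show (e₀.inv ≫ (c.app J).hom ≫ DerivedCategory.Q.map S.g ≫ a₃.inv) ≫ a₃.hom =
      (e₀.inv ≫ (c.app J).hom) ≫ DerivedCategory.Q.map S.g
    simp
  · show (a₃.hom ≫ _ ≫ (a₁.inv ≫ (CxOX.RgammaZ j).map e₀.hom)⟦(1 : ℤ)⟧') ≫
      ((CxOX.RgammaZ j).map e₀.inv ≫ a₁.hom)⟦(1 : ℤ)⟧' = a₃.hom ≫ _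
    simp only [Category.assoc, ← Functor.map_comp]
    rw [← Functor.map_comp_assoc (CxOX.RgammaZ j), e₀.hom_inv_id]
    simp

/-- nothing supported on the complement maps to a direct image -/
lemma eq_zero_of_supp {A : DCoh.D X} (hA : Supp j A) {M : DCoh.D U} (φ : A ⟶ (DCoh.Rpush j).obj M) :
    φ = 0 := by
  let adj : DCoh.restrictD j ⊣ DCoh.Rpush j :=
    Groth.DerivedAdj.derivedAdj (Scheme.Modules.restrictAdjunction j)
      (Groth.DerivedCoh.KFlat.enoughKInj U)
  exact (adj.homEquiv _ _).symm.injective (hA.eq_of_src _ _)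

lemma supp_shift {A : DCoh.D X} (hA : Supp j A) (n : ℤ) : Supp j (A⟦n⟧) :=
  ((shiftFunctor _ n).map_isZero hA).of_iso (((DCoh.restrictD j).commShiftIso n).app A)

variable [QuasiCompact j]

/-- `RΓ_Z` commutes with direct sums of objects with quasi-coherent cohomology -/
theorem isIso_sigmaDesc {ι : Type u} (E : ι → DCoh.D X) (hE : ∀ i, DCoh.IsQCohD (E i)) [HasCoproduct E]
    [HasCoproduct (fun i => (CxOX.RgammaZ j).obj (E i))] :
    IsIso (Sigma.desc (fun i => (CxOX.RgammaZ j).map (Sigma.ι E i))) := by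
  haveI : HasCoproducts.{u} (DCoh.D X) := Groth.DerivedCoh.KInjRes.hasCoproducts
  haveI : HasCoproducts.{u} (DCoh.D U) := Groth.DerivedCoh.KInjRes.hasCoproducts
  have hs : ∀ A, Supp j ((CxOX.RgammaZ j).obj A) := fun A => (exists_triangle j A).1
  choose M eM q d hT using fun i => (exists_triangle j (E i)).2
  have hMq : ∀ i, DCoh.IsQCohD (M i) := fun i => Groth.Misc4.QCohDPerf.isQCohD_of_iso (eM i).symm
    (Groth.Misc4.QCohDPerf.isQCohD_restrict j (hE i))
  haveI := Groth.Misc4.RpushCoprod.isIso_sigmaDesc j M hMq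
  let eC : (∐ fun i => (DCoh.Rpush j).obj (M i)) ≅ (DCoh.Rpush j).obj (∐ M) :=
    asIso (Sigma.desc fun i => (DCoh.Rpush j).map (Sigma.ι M i))
  have orth : ∀ {A : DCoh.D X}, Supp j A → ∀ φ : A ⟶ ∐ fun i => (DCoh.Rpush j).obj (M i), φ = 0 :=
    fun hA φ => (cancel_mono eC.hom).1 ((eq_zero_of_supp j hA (φ ≫ eC.hom)).trans zero_comp.symm)
  have orth' : ∀ {A : DCoh.D X}, Supp j A →
      ∀ φ : A ⟶ ∐ fun i => ((DCoh.Rpush j).obj (M i))⟦(-1 : ℤ)⟧, φ = 0 := fun {A} hA φ => by
    let e := PreservesCoproduct.iso (shiftFunctor (DCoh.D X) (-1 : ℤ)) (fun i => (DCoh.Rpush j).obj (M i))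
    obtain ⟨ψ, hψ⟩ := (shiftFunctor (DCoh.D X) (-1 : ℤ)).map_surjective
      ((shiftFunctorCompIsoId (DCoh.D X) 1 (-1) (by omega)).hom.app A ≫ φ ≫ e.inv)
    refine (cancel_mono e.inv).1 ((cancel_epi
      ((shiftFunctorCompIsoId (DCoh.D X) 1 (-1) (by omega)).hom.app A)).1 ?_)
    rw [← hψ, orth (supp_shift j hA 1) ψ, Functor.map_zero, zero_comp, comp_zero]
  let R := fun i => (CxOX.RgammaZ j).obj (E i)
  let εE : (∐ R) ⟶ ∐ E := Limits.Sigma.map fun i => (CxOX.RgammaZToId j).app (E i)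
  let T : ι → Triangle (DCoh.D X) := fun i => Triangle.mk ((CxOX.RgammaZToId j).app (E i)) (q i) (d i)
  have hsum : Supp j (∐ R) := by
    let adj : DCoh.restrictD j ⊣ DCoh.Rpush j :=
      Groth.DerivedAdj.derivedAdj (Scheme.Modules.restrictAdjunction j)
        (Groth.DerivedCoh.KFlat.enoughKInj U)
    haveI : PreservesColimitsOfSize.{u, u} (DCoh.restrictD j) := adj.leftAdjoint_preservesColimits
    refine IsZero.of_iso ?_ (PreservesCoproduct.iso (DCoh.restrictD j) R)
    rw [IsZero.iff_id_eq_zero]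
    exact Sigma.hom_ext _ _ fun i => (hs (E i)).eq_of_src _ _
  have surj : ∀ {A : DCoh.D X}, Supp j A → ∀ γ : A ⟶ ∐ E, ∃ γ', γ = γ' ≫ εE := fun hA γ =>
    Groth.DerivedCoh.exists_factor_sigma T hT γ (orth hA _)
  have inj : ∀ {A : DCoh.D X}, Supp j A → ∀ γ : A ⟶ ∐ R, γ ≫ εE = 0 → γ = 0 := fun {A} hA γ h => by
    obtain ⟨γ', hγ'⟩ := Groth.DerivedCoh.exists_factor_sigma (fun i => (T i).invRotate)
      (fun i => inv_rot_of_distTriang _ (hT i)) γ h
    rw [hγ', orth' hA γ']
    exact zero_comp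
  let ε := (CxOX.RgammaZToId j).app (∐ E)
  obtain ⟨-, N, -, q', d', hT'⟩ := exists_triangle j (∐ E)
  have inj' : ∀ {A : DCoh.D X}, Supp j A → ∀ γ : A ⟶ (CxOX.RgammaZ j).obj (∐ E), γ ≫ ε = 0 → γ = 0 :=
    fun {A} hA γ h => by
      obtain ⟨ψ, hψ⟩ := Triangle.coyoneda_exact₂ _ (inv_rot_of_distTriang _ hT') γ h
      obtain ⟨χ, hχ⟩ := (shiftFunctor (DCoh.D X) (-1 : ℤ)).map_surjective
        ((shiftFunctorCompIsoId (DCoh.D X) 1 (-1) (by omega)).hom.app A ≫ ψ)
      have h0 : ψ = 0 := by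
        refine (cancel_epi ((shiftFunctorCompIsoId (DCoh.D X) 1 (-1) (by omega)).hom.app A)).1 ?_
        exact hχ.symm.trans ((congrArg ((shiftFunctor (DCoh.D X) (-1 : ℤ)).map ·)
          (eq_zero_of_supp j (supp_shift j hA 1) χ)).trans ((Functor.map_zero _ _ _).trans comp_zero.symm))
      rw [hψ, h0]
      exact zero_comp
  let a : (∐ R) ⟶ (CxOX.RgammaZ j).obj (∐ E) := Sigma.desc fun i => (CxOX.RgammaZ j).map (Sigma.ι E i)
  have ha : a ≫ ε = εE := Sigma.hom_ext _ _ fun i => by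
    simp only [a, εE, ε, Sigma.ι_desc_assoc, Sigma.ι_map]
    exact (CxOX.RgammaZToId j).naturality (Sigma.ι E i)
  obtain ⟨b, hb⟩ := surj (hs (∐ E)) ε
  refine ⟨b, ?_, ?_⟩
  · refine sub_eq_zero.1 (inj hsum _ ?_)
    rw [Preadditive.sub_comp, Category.id_comp, Category.assoc, ← hb, ha, sub_self]
  · refine sub_eq_zero.1 (inj' (hs (∐ E)) _ ?_)
    rw [Preadditive.sub_comp, Category.id_comp, Category.assoc, ha, ← hb, sub_self]

end Groth.DerivedCoh.SuppTriangle
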